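import Groth.Prelude.Def_AGF
import Groth.Agent.Lib.Rigidity.PointsExt
import Groth.Agent.Lib.RedSmooth.Basic
import Mathlib.AlgebraicGeometry.Morphisms.Smooth
import Mathlib.GroupTheory.Solvable

/-!
# Solvability is detected by rational points
-/

set_option autoImplicit false
set_option backward.isDefEq.respectTransparency false

universe u v

open CategoryTheory CategoryTheory.Limits MonoidalCategory CartesianMonoidalCategory MonObj GrpObj
open AlgebraicGeometry
open scoped commutatorElement

namespace GrothLib.Flag27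

/-- Values of the iterated commutator. -/
def dval (Γ : Type v) [Group Γ] : ℕ → Set Γ
  | 0 => Set.univ
  | n + 1 => Set.image2 (fun a b : Γ => ⁅a, b⁆) (dval Γ n) (dval Γ n)

variable {Γ : Type v} [Group Γ]

theorem conj_mem_dval : ∀ (n : ℕ) {a : Γ}, a ∈ dval Γ n → ∀ g : Γ, g * a * g⁻¹ ∈ dval Γ n
  | 0, _, _, _ => trivial
  | n + 1, _, ⟨a, ha, b, hb, rfl⟩, g => by
    refine ⟨g * a * g⁻¹, conj_mem_dval n ha g, g * b * g⁻¹, conj_mem_dval n hb g, ?_⟩
    simp only [commutatorElement_def]
    group

theorem derivedSeries_le_closure : ∀ n, derivedSeries Γ n ≤ Subgroup.closure (dval Γ n)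
  | 0 => by simp [dval]
  | n + 1 => by
    haveI hN : (Subgroup.closure (dval Γ (n + 1))).Normal := by
      refine ⟨fun a ha g => ?_⟩
      have : Subgroup.closure (dval Γ (n + 1)) ≤
          (Subgroup.closure (dval Γ (n + 1))).comap (MulAut.conj g).toMonoidHom :=
        (Subgroup.closure_le _).2 fun a ha => Subgroup.subset_closure (conj_mem_dval _ ha g)
      exact this ha
    set N := Subgroup.closure (dval Γ (n + 1)) with hNdef
    let q := QuotientGroup.mk' N
    have h1 : ∀ a ∈ dval Γ n, ∀ b ∈ Subgroup.closure (dval Γ n), Commute (q a) (q b) := by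
      intro a ha b hb
      have : Subgroup.closure (dval Γ n) ≤ (Subgroup.centralizer {q a}).comap q := by
        refine (Subgroup.closure_le _).2 fun c hc => ?_
        rw [SetLike.mem_coe, Subgroup.mem_comap, Subgroup.mem_centralizer_singleton_iff]
        have : q ⁅c, a⁆ = 1 := (QuotientGroup.eq_one_iff _).2 (Subgroup.subset_closure ⟨c, hc, a, ha, rfl⟩)
        rw [map_commutatorElement, commutatorElement_eq_one_iff_mul_comm] at this
        exact this
      exact (Subgroup.mem_centralizer_singleton_iff.1 (this hb)).symm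
    rw [derivedSeries_succ]
    refine (Subgroup.commutator_mono (derivedSeries_le_closure n) (derivedSeries_le_closure n)).trans
      (Subgroup.commutator_le.2 fun a ha b hb => ?_)
    have : Subgroup.closure (dval Γ n) ≤ (Subgroup.centralizer {q b}).comap q :=
      (Subgroup.closure_le _).2 fun c hc =>
        Subgroup.mem_centralizer_singleton_iff.2 (h1 c hc b hb)
    have e : q ⁅a, b⁆ = 1 := by
      rw [map_commutatorElement, commutatorElement_eq_one_iff_mul_comm]
      exact Subgroup.mem_centralizer_singleton_iff.1 (this ha)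
    exact (QuotientGroup.eq_one_iff _).1 e

theorem dval_subset : ∀ n, dval Γ n ⊆ derivedSeries Γ n
  | 0 => by simp [dval]
  | n + 1 => by
    rintro _ ⟨a, ha, b, hb, rfl⟩
    rw [derivedSeries_succ]
    exact Subgroup.commutator_mem_commutator (dval_subset n ha) (dval_subset n hb)

theorem image_dval {Δ : Type v} [Group Δ] (f : Γ →* Δ) : ∀ n, f '' dval Γ n ⊆ dval Δ n
  | 0 => Set.subset_univ _
  | n + 1 => by
    rintro _ ⟨_, ⟨a, ha, b, hb, rfl⟩, rfl⟩
    exact ⟨f a, image_dval f n ⟨a, ha, rfl⟩, f b, image_dval f n ⟨b, hb, rfl⟩,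
      (map_commutatorElement f a b).symm⟩

variable {k : Type u} [Field k]

/-- The source of the iterated commutator. -/
noncomputable def dsrc (G : Over (Spec (CommRingCat.of k))) : ℕ → Over (Spec (CommRingCat.of k))
  | 0 => G
  | n + 1 => dsrc G n ⊗ dsrc G n

/-- The iterated commutator. -/
noncomputable def dword (G : Over (Spec (CommRingCat.of k))) [GrpObj G] : ∀ n, dsrc G n ⟶ G
  | 0 => 𝟙 G
  | n + 1 => (⁅fst (dsrc G n) (dsrc G n) ≫ dword G n, snd (dsrc G n) (dsrc G n) ≫ dword G n⁆ : dsrc G n ⊗ dsrc G n ⟶ G)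

variable {G : Over (Spec (CommRingCat.of k))} [GrpObj G]

theorem dword_succ (n : ℕ) : dword G (n + 1) =
    (⁅fst (dsrc G n) (dsrc G n) ≫ dword G n, snd (dsrc G n) (dsrc G n) ≫ dword G n⁆ : dsrc G n ⊗ dsrc G n ⟶ G) := rfl

theorem smooth_dsrc [Smooth G.hom] : ∀ n, Smooth (dsrc G n).hom
  | 0 => inferInstanceAs (Smooth G.hom)
  | n + 1 => by
    haveI := smooth_dsrc n
    show Smooth (pullback.fst (dsrc G n).hom (dsrc G n).hom ≫ (dsrc G n).hom)
    infer_instance

theorem comp_dword_mem {X : Over (Spec (CommRingCat.of k))} :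
    ∀ (n : ℕ) (t : X ⟶ dsrc G n), t ≫ dword G n ∈ dval (X ⟶ G) n
  | 0, _ => trivial
  | n + 1, t => by
    refine ⟨t ≫ fst _ _ ≫ dword G n, by rw [← Category.assoc]; exact comp_dword_mem n _,
      t ≫ snd _ _ ≫ dword G n, by rw [← Category.assoc]; exact comp_dword_mem n _, ?_⟩
    simp only [dword_succ, commutatorElement_def, MonObj.comp_mul, GrpObj.comp_inv, Category.assoc]

theorem exists_eq_dword {X : Over (Spec (CommRingCat.of k))} :
    ∀ (n : ℕ) {v : X ⟶ G}, v ∈ dval (X ⟶ G) n → ∃ t : X ⟶ dsrc G n, t ≫ dword G n = v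
  | 0, v, _ => ⟨v, Category.comp_id v⟩
  | n + 1, _, ⟨a, ha, b, hb, rfl⟩ => by
    obtain ⟨s, rfl⟩ := exists_eq_dword n ha
    obtain ⟨t, rfl⟩ := exists_eq_dword n hb
    refine ⟨lift s t, ?_⟩
    simp only [dword_succ, commutatorElement_def, MonObj.comp_mul, GrpObj.comp_inv, lift_fst_assoc, lift_snd_assoc]

/-- A smooth group with solvable group of rational points is solvable. -/
theorem isSolvableGrp_of_points [IsAlgClosed k] [IsSeparated G.hom] [Smooth G.hom]
    (h : IsSolvable (𝟙_ (Over (Spec (CommRingCat.of k))) ⟶ G)) : Red.IsSolvableGrp G := by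
  obtain ⟨n, hn⟩ := h.solvable
  haveI := smooth_dsrc (G := G) n
  haveI : IsReduced (dsrc G n).left := GrothLib.RedSmooth.isReduced_of_smooth (dsrc G n).hom
  have hw : dword G n = 1 := GrothLib.Rigidity.ext_of_points _ _ fun p => by
    rw [MonObj.comp_one]
    have := dval_subset n (comp_dword_mem n p)
    rw [hn] at this
    exact Subgroup.mem_bot.1 this
  refine ⟨n, fun X => eq_bot_iff.2 ((derivedSeries_le_closure n).trans ((Subgroup.closure_le _).2 ?_))⟩
  intro v hv
  obtain ⟨t, rfl⟩ := exists_eq_dword n hv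
  rw [hw, MonObj.comp_one]
  exact one_mem _

/-- Rational points of a solvable group. -/
theorem isSolvable_points (h : Red.IsSolvableGrp G) : IsSolvable (𝟙_ (Over (Spec (CommRingCat.of k))) ⟶ G) :=
  h.elim fun n hn => ⟨⟨n, hn _⟩⟩

end GrothLib.Flag27
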