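import Groth.Agent.Lib.Flag27.Conj
import Groth.Agent.Lib.Neutral.FieldFactor

/-!
# Consequences: parabolic subgroups and images
-/

set_option autoImplicit false
set_option backward.isDefEq.respectTransparency false

universe u

open CategoryTheory CategoryTheory.Limits MonoidalCategory CartesianMonoidalCategory MonObj GrpObj
open AlgebraicGeometry TopologicalSpace

namespace GrothLib.Flag27

open GrothLib.Induce27

variable {k : Type u} [Field k] [IsAlgClosed k]

section Pts

variable {A B : Over (Spec (CommRingCat.of k))} [GrpObj A] [GrpObj B]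

/-- The map on rational points. -/
noncomputable def ptsHom (f : A ⟶ B) [IsMonHom f] :
    (𝟙_ (Over (Spec (CommRingCat.of k))) ⟶ A) →* (𝟙_ (Over (Spec (CommRingCat.of k))) ⟶ B) where
  toFun v := v ≫ f
  map_one' := MonObj.one_comp f
  map_mul' a b := MonObj.mul_comp a b f

theorem ptsHom_apply (f : A ⟶ B) [IsMonHom f] (v : 𝟙_ (Over (Spec (CommRingCat.of k))) ⟶ A) :
    ptsHom f v = v ≫ f := rfl

theorem isSolvable_of_surjective (f : A ⟶ B) [IsMonHom f] [Surjective f.left] [LocallyOfFiniteType A.hom]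
    [LocallyOfFiniteType B.hom] (h : IsSolvable (𝟙_ (Over (Spec (CommRingCat.of k))) ⟶ A)) :
    IsSolvable (𝟙_ (Over (Spec (CommRingCat.of k))) ⟶ B) := by
  haveI : Group.IsSolvable (𝟙_ (Over (Spec (CommRingCat.of k))) ⟶ A) := h
  refine solvable_of_surjective (f := ptsHom f) fun w => ?_
  obtain ⟨z, -, hz⟩ := exists_cl_lift f (E := Set.univ) isClosed_univ.isLocallyClosed (w := w)
    (by rw [Set.image_univ]; exact f.left.surjective _)
  exact ⟨z, hz⟩

omit [IsAlgClosed k] in
theorem isIso_of_isIso_left (f : A ⟶ B) [IsIso f.left] : IsIso f := by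
  haveI : IsIso ((Over.forget _).map f) := ‹IsIso f.left›
  exact isIso_of_reflects_iso f (Over.forget _)

end Pts

variable {G : Over (Spec (CommRingCat.of k))} [GrpObj G] [IsAffine G.left] [Smooth G.hom]

omit [IsAffine G.left] [IsAlgClosed k] in
theorem isIso_of_surjective {H : Over (Spec (CommRingCat.of k))} [GrpObj H] (i : H ⟶ G) [IsClosedImmersion i.left]
    [Surjective i.left] : IsIso i := by
  haveI : IsReduced G.left := GrothLib.RedSmooth.isReduced_of_smooth G.hom
  haveI := isIso_of_isClosedImmersion_of_surjective i.left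
  exact isIso_of_isIso_left i

variable [ConnectedSpace G.left]

/-- Parabolic subgroups have proper quotients. -/
theorem uc_of_parabolic {P : Over (Spec (CommRingCat.of k))} [GrpObj P] {iP : P ⟶ G}
    (hP : Red.IsParabolicOver k iP) : UC iP := by
  obtain ⟨-, -, -, B, _, b, hb⟩ := hP
  intro T hT hTc C hC hst
  refine uc_of_borel hb T hT hTc C hC fun v g t hv => ?_
  rw [← Category.assoc]
  exact hst (v ≫ b) g t hv

/-- Subgroups with proper quotient are parabolic. -/
theorem isParabolic_of_proper {P : Over (Spec (CommRingCat.of k))} [GrpObj P] (iP : P ⟶ G) [IsMonHom iP]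
    [IsClosedImmersion iP.left] [Smooth P.hom] {X : Over (Spec (CommRingCat.of k))} (a : AlgGrp.Action G X)
    (o : 𝟙_ (Over (Spec (CommRingCat.of k))) ⟶ X) (hX : AGF.IsQuotient iP X a o) [IsProper X.hom] :
    Red.IsParabolicOver k iP := by
  obtain ⟨B, _, i, hB, -⟩ := exists_borel (G := G)
  have hB' := hB
  obtain ⟨hi, hic, hBsm, hBc, hBs, -⟩ := hB
  haveI := hi; haveI := hic; haveI := hBsm; haveI := hBc
  obtain ⟨g, f, hf⟩ := exists_conj_into a o hX i (isSolvable_points hBs)
  haveI : IsMonHom (f ≫ iP) := by rw [hf]; exact isMonHom_conjBy g i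
  haveI : IsClosedImmersion (f ≫ iP).left := by rw [hf]; exact isClosedImmersion_conjBy g i
  exact ⟨inferInstance, inferInstance, inferInstance, B, inferInstance, f,
    isBorelOver_conjBy hB' hBs (Iso.refl B) g (by rw [Iso.refl_hom, Category.id_comp, hf])⟩

/-- Proper parabolic subgroups exist exactly in non-solvable groups. -/
theorem exists_parabolic_iff :
    (∃ (P : Over (Spec (CommRingCat.of k))) (_ : GrpObj P) (iP : P ⟶ G), Red.IsParabolicOver k iP ∧ ¬ IsIso iP) ↔
      ¬ Red.IsSolvableGrp G := by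
  constructor
  · rintro ⟨P, _, iP, hP, hne⟩ hs
    obtain ⟨-, hPc, -, B, _, b, hbm, hbc, -, -, -, hmax⟩ := hP
    haveI : IsClosedImmersion (𝟙 G : G ⟶ G).left := inferInstanceAs (IsClosedImmersion (𝟙 G.left))
    haveI hiso : IsIso (b ≫ iP) := hmax G (𝟙 G) (b ≫ iP) inferInstance inferInstance inferInstance hs (Category.comp_id _)
    haveI := hPc
    haveI : Surjective iP.left := ⟨fun y => ⟨b.left ((inv (b ≫ iP)).left y), by
      rw [← Scheme.Hom.comp_apply, ← Over.comp_left, ← Scheme.Hom.comp_apply, ← Over.comp_left, IsIso.inv_hom_id]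
      rfl⟩⟩
    exact hne (isIso_of_surjective iP)
  · intro hns
    obtain ⟨B, _, i, hB, -⟩ := exists_borel (G := G)
    obtain ⟨hi, hic, hBsm, hBc, hBs, -⟩ := id hB
    refine ⟨B, inferInstance, i, ⟨hi, hic, hBsm, B, inferInstance, 𝟙 B, by rwa [Category.id_comp]⟩, fun hiso => hns ?_⟩
    haveI := hi; haveI := hiso
    haveI : LocallyOfFiniteType B.hom := by haveI := hBsm; infer_instance
    haveI : Surjective i.left := by
      haveI : IsIso i.left := inferInstanceAs (IsIso ((Over.forget _).map i))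
      infer_instance
    exact isSolvableGrp_of_points (isSolvable_of_surjective i (isSolvable_points hBs))

variable {Q : Over (Spec (CommRingCat.of k))} [GrpObj Q] [IsAffine Q.left] [Smooth Q.hom] [ConnectedSpace Q.left]
  (q : G ⟶ Q) [IsMonHom q] [Surjective q.left]

/-- Images of Borel subgroups are Borel subgroups. -/
theorem exists_image_borel {B : Over (Spec (CommRingCat.of k))} [GrpObj B] {i : B ⟶ G} (hB : Red.IsBorelOver k i) :
    ∃ (B' : Over (Spec (CommRingCat.of k))) (_ : GrpObj B') (i' : B' ⟶ Q) (p : B ⟶ B'),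
      Red.IsBorelOver k i' ∧ Surjective p.left ∧ p ≫ i' = i ≫ q ∧ IsMonHom p := by
  have hU := uc_of_borel hB
  obtain ⟨hi, hic, hBsm, hBc, hBs, -⟩ := hB
  haveI := hi; haveI := hic; haveI := hBsm; haveI := hBc
  haveI : IsAffine B.left := isAffine_of_isAffineHom i.left
  haveI : QuasiCompact (i ≫ q).left := by
    haveI : QuasiCompact ((i ≫ q).left ≫ Q.hom) := by rw [Over.w]; infer_instance
    exact QuasiCompact.of_comp _ Q.hom
  let S : Subgroup (𝟙_ (Over (Spec (CommRingCat.of k))) ⟶ Q) := (ptsHom (i ≫ q)).range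
  obtain ⟨B', _, i', hi', hic', hsm', hr'⟩ := Groth.Agent.S15608.result k Q S
  haveI := hi'; haveI := hic'; haveI := hsm'
  have hclosed := GrothLib.Neutral.isClosed_range_hom (u := i ≫ q)
  haveI : JacobsonSpace B.left := LocallyOfFiniteType.jacobsonSpace B.hom
  have hrange : Set.range i'.left.base = Set.range (i ≫ q).left.base := by
    rw [hr']
    refine Set.Subset.antisymm (closure_minimal ?_ hclosed) ?_
    · rintro _ ⟨_, ⟨v, rfl⟩, rfl⟩
      exact ⟨cl v, (cl_comp v (i ≫ q)).symm⟩
    · rintro _ ⟨y, rfl⟩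
      have : closure (closedPoints B.left) ⊆ (i ≫ q).left.base ⁻¹' closure
          ((fun s : (𝟙_ (Over (Spec (CommRingCat.of k))) ⟶ Q) => s.left.base (IsLocalRing.closedPoint k)) '' S) := by
        refine closure_minimal (fun p hp => ?_) (isClosed_closure.preimage (i ≫ q).left.continuous)
        obtain ⟨v, rfl⟩ := exists_cl hp
        exact subset_closure ⟨v ≫ i ≫ q, ⟨v, rfl⟩, cl_comp v (i ≫ q)⟩
      rw [closure_closedPoints] at this
      exact this (Set.mem_univ y)
  haveI : IsReduced B.left := GrothLib.RedSmooth.isReduced_of_smooth B.hom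
  obtain ⟨p₀, hp₀⟩ := GrothLib.AlgSp.exists_lift_of_range_subset (i ≫ q).left i'.left hrange.ge
  let p : B ⟶ B' := Over.homMk p₀ (by rw [← Over.w i', reassoc_of% hp₀, Over.w])
  have hp : p ≫ i' = i ≫ q := Over.OverMorphism.ext hp₀
  haveI : Mono i' := Over.mono_of_mono_left i'
  have hpm : IsMonHom p := by
    refine ⟨?_, ?_⟩
    · rw [← cancel_mono i', Category.assoc, hp, IsMonHom.one_hom, IsMonHom.one_hom]
    · rw [← cancel_mono i', Category.assoc, hp, IsMonHom.mul_hom, Category.assoc, IsMonHom.mul_hom,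
        ← Category.assoc, MonoidalCategory.tensorHom_comp_tensorHom, hp]
  haveI := hpm
  have hps : Surjective p.left := ⟨fun y => by
    obtain ⟨x, hx⟩ := hrange.le ⟨y, rfl⟩
    refine ⟨x, i'.left.isClosedEmbedding.injective ?_⟩
    rw [← Scheme.Hom.comp_apply, ← Over.comp_left, hp]
    exact hx⟩
  haveI := hps
  haveI : ConnectedSpace B'.left := p.left.surjective.connectedSpace p.left.continuous
  haveI : IsAffine B'.left := isAffine_of_isAffineHom i'.left
  have hsolv : IsSolvable (𝟙_ (Over (Spec (CommRingCat.of k))) ⟶ B') := isSolvable_of_surjective p (isSolvable_points hBs)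
  have hU' : UC i' := by
    intro T hT hTc C hC hst
    let qT : G ⊗ T ⟶ Q ⊗ T := q ▷ T
    have hqs : Surjective qT.left := GrothLib.GrpSchField.whiskerRight_property @Surjective q T inferInstance
    have h := hU T hT hTc (qT.left.base ⁻¹' C) (hC.preimage qT.left.continuous) fun b v t hv => by
      simp only [Set.mem_preimage, ← cl_comp, qT, lift_whiskerRight] at hv ⊢
      rw [MonObj.mul_comp _ _ q, Category.assoc, ← hp, ← Category.assoc b]
      exact hst _ _ _ hv
    have e : (snd G T).left.base '' (qT.left.base ⁻¹' C) = (snd Q T).left.base '' C := by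
      have hc : ⇑(snd G T).left.base = ⇑(snd Q T).left.base ∘ ⇑qT.left.base := funext fun y => by
        show _ = (snd Q T).left (qT.left y)
        rw [← Scheme.Hom.comp_apply, ← Over.comp_left, whiskerRight_snd]
      rw [hc, Set.image_comp, Set.image_preimage_eq _ hqs.surj]
    rw [e] at h
    exact h
  obtain ⟨X, a, o, hX, hXp⟩ := isProper_quotient_good hU'
  haveI := hXp
  exact ⟨B', inferInstance, i', p, isBorel_of_proper i' (isSolvableGrp_of_points hsolv) a o hX, hps, hp, hpm⟩

omit [IsAffine G.left] [Smooth G.hom] [ConnectedSpace G.left] [IsAffine Q.left] [Smooth Q.hom] [ConnectedSpace Q.left]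
  [Surjective q.left] [IsAlgClosed k] in
theorem conjBy_map {B : Over (Spec (CommRingCat.of k))} (g : 𝟙_ (Over (Spec (CommRingCat.of k))) ⟶ G) (i : B ⟶ G) :
    AGF.conjBy g i ≫ q = AGF.conjBy (g ≫ q) (i ≫ q) := by
  simp only [AGF.conjBy, MonObj.mul_comp, GrpObj.inv_comp, Category.assoc]

/-- Every Borel subgroup of a quotient is an image. -/
theorem exists_borel_over {B' : Over (Spec (CommRingCat.of k))} [GrpObj B'] {i' : B' ⟶ Q}
    (hB' : Red.IsBorelOver k i') :
    ∃ (B : Over (Spec (CommRingCat.of k))) (_ : GrpObj B) (i : B ⟶ G) (p : B ⟶ B'),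
      Red.IsBorelOver k i ∧ Surjective p.left ∧ p ≫ i' = i ≫ q := by
  obtain ⟨B₀, _, i₀, hB₀, -⟩ := exists_borel (G := G)
  obtain ⟨B₁, _, i₁, p, hB₁, hps, hp, -⟩ := exists_image_borel q hB₀
  obtain ⟨g, e, he⟩ := borel_conj hB₁ hB'
  obtain ⟨g₀, -, hg₀⟩ := exists_cl_lift q (E := Set.univ) isClosed_univ.isLocallyClosed (w := g)
    (by rw [Set.image_univ]; exact q.left.surjective _)
  obtain ⟨hi, hic, hBsm, hBc, hBs, -⟩ := id hB₀
  haveI := hi; haveI := hic; haveI := hBsm; haveI := hBc
  haveI : IsMonHom (AGF.conjBy g₀ i₀) := isMonHom_conjBy g₀ i₀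
  haveI := isClosedImmersion_conjBy g₀ i₀
  refine ⟨B₀, inferInstance, AGF.conjBy g₀ i₀, p ≫ e.hom,
    isBorelOver_conjBy hB₀ hBs (Iso.refl B₀) g₀ (by rw [Iso.refl_hom, Category.id_comp]), ?_, ?_⟩
  · haveI := hps
    haveI : IsIso e.hom.left := inferInstanceAs (IsIso ((Over.forget _).map e.hom))
    rw [Over.comp_left]
    infer_instance
  · rw [Category.assoc, he, comp_conjBy', hp, conjBy_map, hg₀]

end GrothLib.Flag27
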