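import Groth.Agent.Lib.Flag27.More

/-!
# Preimages of subgroups
-/

set_option autoImplicit false
set_option backward.isDefEq.respectTransparency false

universe u

open CategoryTheory CategoryTheory.Limits MonoidalCategory CartesianMonoidalCategory MonObj GrpObj
open AlgebraicGeometry TopologicalSpace

namespace GrothLib.Flag27

open GrothLib.Induce27

variable {k : Type u} [Field k] [IsAlgClosed k]

omit [IsAlgClosed k] in
theorem isMonHom_of_comp {A B C : Over (Spec (CommRingCat.of k))} [GrpObj A] [GrpObj B] [GrpObj C]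
    (p : A ⟶ B) (i : B ⟶ C) [Mono i] [IsMonHom i] [IsMonHom (p ≫ i)] : IsMonHom p := by
  refine ⟨?_, ?_⟩
  · rw [← cancel_mono i, Category.assoc, IsMonHom.one_hom, IsMonHom.one_hom]
  · rw [← cancel_mono i, Category.assoc, IsMonHom.mul_hom, Category.assoc, IsMonHom.mul_hom,
      ← Category.assoc, MonoidalCategory.tensorHom_comp_tensorHom]

/-- A morphism from a reduced scheme factors through a closed subscheme containing the images of all rational points. -/
theorem exists_lift_of_pts {A H Q : Over (Spec (CommRingCat.of k))} [LocallyOfFiniteType A.hom] [IsReduced A.left]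
    (f : A ⟶ Q) (i : H ⟶ Q) [IsClosedImmersion i.left]
    (h : ∀ v : 𝟙_ (Over (Spec (CommRingCat.of k))) ⟶ A, ∃ w, w ≫ i = v ≫ f) : ∃ p, p ≫ i = f := by
  haveI : JacobsonSpace A.left := LocallyOfFiniteType.jacobsonSpace A.hom
  have hsub : Set.range f.left.base ⊆ Set.range i.left.base := by
    rintro _ ⟨y, rfl⟩
    have : closure (closedPoints A.left) ⊆ f.left.base ⁻¹' Set.range i.left.base := by
      refine closure_minimal (fun p hp => ?_) (i.left.isClosedEmbedding.isClosed_range.preimage f.left.continuous)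
      obtain ⟨v, rfl⟩ := exists_cl hp
      obtain ⟨w, hw⟩ := h v
      exact ⟨cl w, by rw [← cl_comp, ← cl_comp, hw]⟩
    rw [closure_closedPoints] at this
    exact this (Set.mem_univ y)
  obtain ⟨p₀, hp₀⟩ := GrothLib.AlgSp.exists_lift_of_range_subset f.left i.left hsub
  exact ⟨Over.homMk p₀ (by rw [← Over.w i, reassoc_of% hp₀, Over.w]), Over.OverMorphism.ext hp₀⟩

/-- A homomorphism which is surjective on rational points is surjective. -/
theorem surjective_of_pts {A B : Over (Spec (CommRingCat.of k))} [GrpObj A] [GrpObj B] [LocallyOfFiniteType B.hom]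
    [LocallyOfFiniteType A.hom] (f : A ⟶ B) [IsMonHom f] [QuasiCompact f.left]
    (h : ∀ w : 𝟙_ (Over (Spec (CommRingCat.of k))) ⟶ B, ∃ v, v ≫ f = w) : Surjective f.left := by
  haveI : JacobsonSpace B.left := LocallyOfFiniteType.jacobsonSpace B.hom
  refine ⟨fun y => ?_⟩
  have : closure (closedPoints B.left) ⊆ Set.range f.left.base := by
    refine closure_minimal (fun p hp => ?_) (GrothLib.Neutral.isClosed_range_hom (u := f))
    obtain ⟨w, rfl⟩ := exists_cl hp
    obtain ⟨v, rfl⟩ := h w
    exact ⟨cl v, (cl_comp v f).symm⟩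
  rw [closure_closedPoints] at this
  exact this (Set.mem_univ y)

variable {G : Over (Spec (CommRingCat.of k))} [GrpObj G] [IsAffine G.left] [Smooth G.hom]
  {Q : Over (Spec (CommRingCat.of k))} [GrpObj Q] [LocallyOfFiniteType Q.hom]

/-- The smooth closed subgroup with the preimage as rational points. -/
theorem exists_preimage (φ : G ⟶ Q) [IsMonHom φ] {P' : Over (Spec (CommRingCat.of k))} [GrpObj P'] (i' : P' ⟶ Q)
    [IsMonHom i'] [IsClosedImmersion i'.left] [LocallyOfFiniteType P'.hom] :
    ∃ (P : Over (Spec (CommRingCat.of k))) (_ : GrpObj P) (iP : P ⟶ G), IsMonHom iP ∧ IsClosedImmersion iP.left ∧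
      Smooth P.hom ∧ ∀ v : 𝟙_ (Over (Spec (CommRingCat.of k))) ⟶ G,
        (∃ p, p ≫ iP = v) ↔ ∃ w, w ≫ i' = v ≫ φ := by
  let S : Subgroup (𝟙_ (Over (Spec (CommRingCat.of k))) ⟶ G) := (ptsHom i').range.comap (ptsHom φ)
  obtain ⟨P, _, iP, hm, hc, hsm, hr⟩ := Groth.Agent.S15608.result k G S
  haveI := hc; haveI := hsm
  refine ⟨P, inferInstance, iP, hm, hc, hsm, fun v => ⟨?_, ?_⟩⟩
  · rintro ⟨p, rfl⟩
    have hmem : cl (p ≫ iP) ∈ φ.left.base ⁻¹' Set.range i'.left.base := by
      refine closure_minimal ?_ (i'.left.isClosedEmbedding.isClosed_range.preimage φ.left.continuous)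
        (hr.le ⟨cl p, (cl_comp p iP).symm⟩)
      rintro _ ⟨s, ⟨w, hw⟩, rfl⟩
      refine ⟨cl w, ?_⟩
      show _ = φ.left.base (cl s)
      rw [← cl_comp, ← cl_comp]
      exact congrArg _ hw
    obtain ⟨z, -, hz⟩ := exists_cl_lift i' (E := Set.univ) isClosed_univ.isLocallyClosed (w := (p ≫ iP) ≫ φ)
      (by rw [Set.image_univ, cl_comp]; exact hmem)
    exact ⟨z, hz⟩
  · rintro ⟨w, hw⟩
    obtain ⟨y, -, hy⟩ := exists_cl_lift iP (E := Set.univ) isClosed_univ.isLocallyClosed (w := v)
      (by rw [Set.image_univ]; exact hr.ge (subset_closure ⟨v, ⟨w, hw⟩, rfl⟩))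
    exact ⟨y, hy⟩

end GrothLib.Flag27
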