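import Groth.Agent.Lib.Flag27.UnipSplit
import Groth.Agent.Lib.Flag27.Preimage
import Groth.Agent.S11200
import Groth.Agent.S11189

/-!
# Connected groups without subtori are unipotent
-/

set_option autoImplicit false
set_option linter.all false
set_option backward.isDefEq.respectTransparency false

universe u

open CategoryTheory CategoryTheory.Limits MonoidalCategory CartesianMonoidalCategory MonObj GrpObj AlgebraicGeometry

namespace GrothLib.Flag27

variable {k : Type u} [Field k] [IsAlgClosed k]


/-- Subgroups inherit the absence of subtori. -/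
theorem hasNoSubtorus_of_mono {H G : Over (Spec (CommRingCat.of k))} [GrpObj H] [GrpObj G] (i : H ⟶ G) [IsMonHom i] [Mono i]
    (hn : Red.HasNoSubtorus k G) : Red.HasNoSubtorus k H := fun T _ j _ _ hT => hn T (j ≫ i) hT

variable {G : Over (Spec (CommRingCat.of k))} [GrpObj G] [IsAffine G.left] [Smooth G.hom] [ConnectedSpace G.left]

/-- A subgroup with quasi-affine proper quotient is everything. -/
theorem surjective_of_quasiAffine_proper {H : Over (Spec (CommRingCat.of k))} [GrpObj H] (i : H ⟶ G) [IsMonHom i]
    [IsClosedImmersion i.left] [Smooth H.hom] {X : Over (Spec (CommRingCat.of k))} (a : AlgGrp.Action G X) (o : 𝟙_ (Over (Spec (CommRingCat.of k))) ⟶ X)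
    (hX : AGF.IsQuotient i X a o) [IsProper X.hom] [X.left.IsQuasiAffine] : Surjective i.left := by
  haveI : IsAffine H.left := isAffine_of_isAffineHom i.left
  obtain ⟨hXl, -, hsurj, hpb⟩ := hX
  haveI : IsSeparated (X.left.toSpecΓ ≫ Spec.map (X.hom.appTop)) := by
    rw [← Scheme.toSpecΓ_naturality]; infer_instance
  haveI : UniversallyClosed (X.left.toSpecΓ ≫ Spec.map (X.hom.appTop)) := by
    rw [← Scheme.toSpecΓ_naturality]; infer_instance
  haveI : UniversallyClosed X.left.toSpecΓ := UniversallyClosed.of_comp_of_isSeparated _ (Spec.map X.hom.appTop)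
  haveI : IsImmersion X.left.toSpecΓ := inferInstance
  haveI : IsPreimmersion X.left.toSpecΓ := inferInstance
  haveI : IsClosedImmersion X.left.toSpecΓ :=
    IsClosedImmersion.of_isPreimmersion _ (X.left.toSpecΓ.isClosedMap.isClosed_range)
  haveI : IsAffine X.left := isAffine_of_isAffineHom X.left.toSpecΓ
  haveI : IsAffineHom X.hom := isAffineHom_of_isAffine _
  haveI : IsFinite X.hom := IsFinite.iff_isProper_and_isAffineHom.2 ⟨inferInstance, inferInstance⟩
  haveI : Finite X.left := by
    haveI : Subsingleton ↥(Spec (CommRingCat.of k)) := inferInstanceAs (Subsingleton (PrimeSpectrum k))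
    refine Set.finite_univ_iff.1 ((X.hom.finite_preimage_singleton (IsLocalRing.closedPoint k)).subset ?_)
    exact fun x _ => Subsingleton.elim _ _
  haveI : JacobsonSpace X.left := LocallyOfFiniteType.jacobsonSpace X.hom
  haveI : ConnectedSpace X.left := hsurj.surj.connectedSpace (a.orbitMap o).left.continuous
  haveI : DiscreteTopology X.left := inferInstance
  haveI : Subsingleton X.left := PreconnectedSpace.trivial_of_discrete
  haveI : QuasiCompact i.left := inferInstance
  refine surjective_of_pts i fun w => ?_
  have h : w ≫ a.orbitMap o = (1 : 𝟙_ (Over (Spec (CommRingCat.of k))) ⟶ G) ≫ a.orbitMap o :=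
    eq_of_cl (Subsingleton.elim _ _)
  obtain ⟨l, hl1, hl2⟩ := hpb.exists_lift 1 w h.symm
  refine ⟨l ≫ snd G H, ?_⟩
  have el : l = lift (l ≫ fst G H) (l ≫ snd G H) := by rw [← comp_lift, lift_fst_snd, Category.comp_id]
  rw [el, lift_whiskerLeft_assoc, ← Hom.mul_def, hl1, _root_.one_mul] at hl2
  exact hl2

/-- Connected groups without subtori are solvable and unipotent. -/
theorem isUnip_of_noSubtorus (hn : Red.HasNoSubtorus k G) :
    IsUnip k G ∧ IsSolvable (𝟙_ (Over (Spec (CommRingCat.of k))) ⟶ G) := by
  obtain ⟨B, _, i, hB, hU⟩ := exists_borel (G := G)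
  obtain ⟨hi, hic, hBsm, hBc, hBs, -⟩ := hB
  haveI := hi; haveI := hic; haveI := hBsm; haveI := hBc
  haveI : IsAffine B.left := isAffine_of_isAffineHom i.left
  haveI : Mono i := Over.mono_of_mono_left i
  have hu : IsUnip k B := isUnip_of_solvable_noSubtorus (isSolvable_points hBs) (hasNoSubtorus_of_mono i hn)
  obtain ⟨X, a, o, hX, hXp⟩ := isProper_quotient_good hU
  haveI := hXp
  haveI : X.left.IsQuasiAffine := (Groth.Agent.S11189.result k G B i X a o hX).1
    (Groth.Agent.S11200.result k G B i fun χ hχ => by haveI := hχ; exact hu.char_eq_one χ)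
  haveI := surjective_of_quasiAffine_proper i a o hX
  haveI : IsIso i := isIso_of_surjective i
  exact ⟨hu.of_iso i, isSolvable_of_surjective i (isSolvable_points hBs)⟩

end GrothLib.Flag27
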