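import Groth.Agent.Lib.Kleiman27.Orbit
import Groth.Agent.Lib.UCTest.AffineSpace
import Groth.Agent.Lib.Induce27.QuotAffine
import Mathlib.AlgebraicGeometry.Morphisms.Proper

/-!
# Right saturated closed sets have closed images
-/

set_option autoImplicit false
set_option backward.isDefEq.respectTransparency false

universe u

open CategoryTheory CategoryTheory.Limits MonoidalCategory CartesianMonoidalCategory MonObj GrpObj
open AlgebraicGeometry TopologicalSpace Topology
open GrothLib.Orbit27 (ratPt ratPt_apply ratPt_ext)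

namespace GrothLib.Flag27

variable {k : Type u} [Field k]

/-- The point underlying a rational point. -/
noncomputable def cl {X : Over (Spec (CommRingCat.of k))} (z : 𝟙_ (Over (Spec (CommRingCat.of k))) ⟶ X) : X.left :=
  z.left.base (IsLocalRing.closedPoint k)

theorem cl_comp {X Y : Over (Spec (CommRingCat.of k))} (z : 𝟙_ (Over (Spec (CommRingCat.of k))) ⟶ X) (f : X ⟶ Y) :
    cl (z ≫ f) = f.left.base (cl z) := Scheme.Hom.comp_apply z.left f.left _

variable [IsAlgClosed k]

theorem exists_cl {X : Over (Spec (CommRingCat.of k))} [LocallyOfFiniteType X.hom] {p : X.left}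
    (hp : p ∈ closedPoints X.left) : ∃ z : 𝟙_ (Over (Spec (CommRingCat.of k))) ⟶ X, cl z = p :=
  ⟨ratPt p hp, ratPt_apply p hp⟩

theorem isClosed_cl {X : Over (Spec (CommRingCat.of k))} [LocallyOfFiniteType X.hom]
    (z : 𝟙_ (Over (Spec (CommRingCat.of k))) ⟶ X) : IsClosed ({cl z} : Set X.left) :=
  (pointEquivClosedPoint X.hom ⟨z.left, Over.w z⟩).2

theorem eq_of_cl {X : Over (Spec (CommRingCat.of k))} [LocallyOfFiniteType X.hom]
    {z z' : 𝟙_ (Over (Spec (CommRingCat.of k))) ⟶ X} (h : cl z = cl z') : z = z' :=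
  Over.OverMorphism.ext (ext_of_apply_closedPoint_eq X.hom (Over.w z) (Over.w z') h)

/-- Closed sets are determined by their rational points. -/
theorem subset_of_cl {X : Over (Spec (CommRingCat.of k))} [LocallyOfFiniteType X.hom] {E F : Set X.left}
    (hE : IsClosed E) (hF : IsClosed F)
    (h : ∀ z : 𝟙_ (Over (Spec (CommRingCat.of k))) ⟶ X, cl z ∈ E → cl z ∈ F) : E ⊆ F := by
  haveI : JacobsonSpace X.left := LocallyOfFiniteType.jacobsonSpace X.hom
  intro y hy
  by_contra hyF
  obtain ⟨p, hp, hpc⟩ := nonempty_inter_closedPoints (Z := E ∩ Fᶜ) ⟨y, hy, hyF⟩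
    (hE.isLocallyClosed.inter hF.isOpen_compl.isLocallyClosed)
  obtain ⟨z, rfl⟩ := exists_cl hpc
  exact hp.2 (h z hp.1)

/-- A rational point of the image of a closed set lifts. -/
theorem exists_cl_lift {A Q : Over (Spec (CommRingCat.of k))} [LocallyOfFiniteType A.hom]
    [LocallyOfFiniteType Q.hom] (q : A ⟶ Q) {E : Set A.left} (hE : IsLocallyClosed E)
    {w : 𝟙_ (Over (Spec (CommRingCat.of k))) ⟶ Q} (h : cl w ∈ q.left.base '' E) :
    ∃ z, cl z ∈ E ∧ z ≫ q = w := by
  haveI : JacobsonSpace A.left := LocallyOfFiniteType.jacobsonSpace A.hom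
  obtain ⟨y, hy, hyw⟩ := h
  obtain ⟨p, hp, hpc⟩ := nonempty_inter_closedPoints (Z := E ∩ q.left.base ⁻¹' {cl w}) ⟨y, hy, hyw⟩
    (hE.inter ((isClosed_cl w).preimage q.left.continuous).isLocallyClosed)
  obtain ⟨z, rfl⟩ := exists_cl hpc
  exact ⟨z, hp.1, eq_of_cl (by rw [cl_comp]; exact hp.2)⟩

/-- The image of a saturated closed set under an open surjection is closed. -/
theorem isClosed_image {A Q : Over (Spec (CommRingCat.of k))} [LocallyOfFiniteType A.hom]
    [LocallyOfFiniteType Q.hom] (q : A ⟶ Q) (hq : IsOpenMap q.left.base) (hs : Function.Surjective q.left.base)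
    {E : Set A.left} (hE : IsClosed E)
    (hsat : ∀ z z' : 𝟙_ (Over (Spec (CommRingCat.of k))) ⟶ A, z ≫ q = z' ≫ q → cl z ∈ E → cl z' ∈ E) :
    IsClosed (q.left.base '' E) := by
  let W : Set Q.left := (q.left.base '' Eᶜ)ᶜ
  have hW : IsClosed W := (hq _ hE.isOpen_compl).isClosed_compl
  have e : q.left.base '' E = W := by
    refine Set.Subset.antisymm (Set.image_subset_iff.2 ?_) fun w hw => ?_
    · refine subset_of_cl hE (hW.preimage q.left.continuous) fun z hz hw => ?_
      rw [← cl_comp] at hw
      obtain ⟨z', hz', he⟩ := exists_cl_lift q hE.isOpen_compl.isLocallyClosed hw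
      exact hz' (hsat z z' he.symm hz)
    · obtain ⟨y, rfl⟩ := hs w
      exact ⟨y, by_contra fun hy => hw ⟨y, hy, rfl⟩, rfl⟩
  rw [e]; exact hW

variable {G H : Over (Spec (CommRingCat.of k))} [GrpObj G]

/-- Closed sets stable under right translations by the subgroup have closed images. -/
def UC (i : H ⟶ G) : Prop :=
  ∀ (T : Over (Spec (CommRingCat.of k))), LocallyOfFiniteType T.hom → QuasiCompact T.hom →
    ∀ C : Set (G ⊗ T).left, IsClosed C →
      (∀ (b : 𝟙_ (Over (Spec (CommRingCat.of k))) ⟶ H) (g : 𝟙_ (Over (Spec (CommRingCat.of k))) ⟶ G)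
        (t : 𝟙_ (Over (Spec (CommRingCat.of k))) ⟶ T),
        cl (lift g t) ∈ C → cl (lift (g * (b ≫ i)) t) ∈ C) →
      IsClosed ((snd G T).left.base '' C)

/-- A group over itself. -/
theorem uc_id [Smooth G.hom] : UC (𝟙 G) := by
  intro T hT _ C hC hst
  haveI := hT
  haveI : LocallyOfFiniteType (G ⊗ T).hom := by
    show LocallyOfFiniteType (pullback.fst G.hom T.hom ≫ G.hom)
    infer_instance
  have ho : UniversallyOpen (snd G T).left := inferInstanceAs (UniversallyOpen (pullback.snd G.hom T.hom))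
  have hs : Surjective (snd G T).left := by
    haveI : Surjective G.hom := ⟨fun p => ⟨η[G].left.base (IsLocalRing.closedPoint k),
      Subsingleton.elim (α := ↥(Spec (CommRingCat.of k))) _ _⟩⟩
    exact inferInstanceAs (Surjective (pullback.snd G.hom T.hom))
  refine isClosed_image (snd G T) (snd G T).left.isOpenMap hs.surj hC fun z z' hzz hz => ?_
  have h1 := hst ((z ≫ fst G T)⁻¹ * (z' ≫ fst G T)) (z ≫ fst G T) (z ≫ snd G T)
    (by rwa [← comp_lift, lift_fst_snd, Category.comp_id])
  rw [Category.comp_id, mul_inv_cancel_left, hzz, ← comp_lift, lift_fst_snd, Category.comp_id] at h1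
  exact h1

/-- Quotients by such subgroups are proper. -/
theorem isProper_of_uc [GrpObj H] [IsAffine G.left] [Smooth G.hom] {i : H ⟶ G} [IsMonHom i]
    [IsClosedImmersion i.left] (hU : UC i) {X : Over (Spec (CommRingCat.of k))} (a : AlgGrp.Action G X)
    (o : 𝟙_ (Over (Spec (CommRingCat.of k))) ⟶ X) (hX : AGF.IsQuotient i X a o) : IsProper X.hom := by
  haveI := GrothLib.Induce27.isSeparated_quotient a o hX
  obtain ⟨hXl, -, hsurj, hpb⟩ := hX
  haveI := hXl
  haveI := hsurj
  let π := a.orbitMap o
  haveI : CompactSpace G.left := inferInstance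
  haveI : CompactSpace X.left := π.left.surjective.compactSpace π.left.continuous
  haveI : QuasiCompact X.hom := inferInstance
  haveI : UniversallyClosed X.hom := by
    refine GrothLib.UCTest.universallyClosed_of_affineSpace X.hom fun m Z hZ => ?_
    let T : Over (Spec (CommRingCat.of k)) :=
      Over.mk (𝔸(ULift.{u} (Fin m); Spec (CommRingCat.of k)) ↘ Spec (CommRingCat.of k))
    have hT₁ : LocallyOfFiniteType T.hom := by
      show LocallyOfFiniteType (𝔸(ULift.{u} (Fin m); Spec (CommRingCat.of k)) ↘ Spec (CommRingCat.of k))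
      infer_instance
    have hT₂ : QuasiCompact T.hom := by
      show QuasiCompact (𝔸(ULift.{u} (Fin m); Spec (CommRingCat.of k)) ↘ Spec (CommRingCat.of k))
      infer_instance
    let q : G ⊗ T ⟶ X ⊗ T := π ▷ T
    have hq : Surjective q.left := GrothLib.GrpSchField.whiskerRight_property @Surjective π T inferInstance
    have hst : ∀ (b : 𝟙_ (Over (Spec (CommRingCat.of k))) ⟶ H) (g : 𝟙_ (Over (Spec (CommRingCat.of k))) ⟶ G)
        (t : 𝟙_ (Over (Spec (CommRingCat.of k))) ⟶ T),
        cl (lift g t) ∈ q.left.base ⁻¹' Z → cl (lift (g * (b ≫ i)) t) ∈ q.left.base ⁻¹' Z := by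
      intro b g t h
      simp only [Set.mem_preimage, ← cl_comp, q, lift_whiskerRight] at h ⊢
      have e : g ≫ π = (g * (b ≫ i)) ≫ π := by
        have w := congrArg (lift g b ≫ ·) hpb.w
        simp only [← Category.assoc, lift_fst, lift_whiskerLeft] at w
        rw [← Hom.mul_def] at w
        exact w
      rwa [← e]
    have h := hU T hT₁ hT₂ _ (hZ.preimage q.left.continuous) hst
    have e : (snd G T).left.base '' (q.left.base ⁻¹' Z) = (snd X T).left.base '' Z := by
      have hc : ⇑(snd G T).left.base = ⇑(snd X T).left.base ∘ ⇑q.left.base := funext fun y => by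
        show _ = (snd X T).left (q.left y)
        rw [← Scheme.Hom.comp_apply, ← Over.comp_left, whiskerRight_snd]
      rw [hc, Set.image_comp, Set.image_preimage_eq _ hq.surj]
    rw [e] at h
    exact h
  exact {}

end GrothLib.Flag27
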