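import Groth.Agent.Lib.Flag27.Core
import Groth.Agent.Lib.BorelFix27.Main
import Groth.Agent.Lib.DiagGrp.Bihom
import Groth.Agent.Lib.Rigidity.Field
import Groth.Agent.Lib.FlatFactor.OrbitImmersion
import Groth.Agent.S3279

/-!
# Conjugacy of Borel subgroups
-/

set_option autoImplicit false
set_option backward.isDefEq.respectTransparency false

universe u

open CategoryTheory CategoryTheory.Limits MonoidalCategory CartesianMonoidalCategory MonObj GrpObj
open AlgebraicGeometry TopologicalSpace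

namespace GrothLib.Flag27

section Formal

variable {S : Scheme.{u}} {G H : Over S} [GrpObj G]

theorem comp_conjBy {T : Over S} (g : 𝟙_ (Over S) ⟶ G) (i : H ⟶ G) (v : T ⟶ H) :
    v ≫ AGF.conjBy g i = (toUnit T ≫ g) * (v ≫ i) * (toUnit T ≫ g)⁻¹ := by
  simp only [AGF.conjBy, MonObj.comp_mul, GrpObj.comp_inv]
  rw [← Category.assoc, toUnit_unique (v ≫ toUnit H) (toUnit T)]

theorem conjBy_conjBy (g h : 𝟙_ (Over S) ⟶ G) (i : H ⟶ G) :
    AGF.conjBy g (AGF.conjBy h i) = AGF.conjBy (g * h) i := by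
  simp only [AGF.conjBy, MonObj.comp_mul, _root_.mul_inv_rev]
  group

theorem conjBy_one (i : H ⟶ G) : AGF.conjBy 1 i = i := by
  simp only [AGF.conjBy, MonObj.comp_one, inv_one, _root_.one_mul, _root_.mul_one]

theorem comp_conjBy' {K : Over S} (f : K ⟶ H) (g : 𝟙_ (Over S) ⟶ G) (i : H ⟶ G) :
    f ≫ AGF.conjBy g i = AGF.conjBy g (f ≫ i) := comp_conjBy g i f

theorem conjBy_eq_comp (g : 𝟙_ (Over S) ⟶ G) (i : H ⟶ G) : AGF.conjBy g i = i ≫ AGF.conjBy g (𝟙 G) := by
  rw [comp_conjBy', Category.comp_id]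

instance isIso_conjBy_id (g : 𝟙_ (Over S) ⟶ G) : IsIso (AGF.conjBy g (𝟙 G)) :=
  ⟨AGF.conjBy g⁻¹ (𝟙 G), by rw [← conjBy_eq_comp, conjBy_conjBy, inv_mul_cancel, conjBy_one],
    by rw [← conjBy_eq_comp, conjBy_conjBy, mul_inv_cancel, conjBy_one]⟩

theorem isClosedImmersion_conjBy (g : 𝟙_ (Over S) ⟶ G) (i : H ⟶ G) [IsClosedImmersion i.left] :
    IsClosedImmersion (AGF.conjBy g i).left := by
  rw [conjBy_eq_comp, Over.comp_left]
  haveI : IsIso (AGF.conjBy g (𝟙 G)).left := inferInstanceAs (IsIso ((Over.forget _).map (AGF.conjBy g (𝟙 G))))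
  infer_instance

theorem isMonHom_conjBy [GrpObj H] (g : 𝟙_ (Over S) ⟶ G) (i : H ⟶ G) [IsMonHom i] :
    IsMonHom (AGF.conjBy g i) := by
  refine ⟨?_, ?_⟩
  · have := comp_conjBy g i (1 : 𝟙_ (Over S) ⟶ H)
    rw [MonObj.one_comp i, _root_.mul_one, mul_inv_cancel] at this
    simpa [Hom.one_def] using this
  · have h1 := comp_conjBy g i ((fst H H) * snd H H)
    rw [MonObj.mul_comp _ _ i] at h1
    have h4 : ((fst H H) * snd H H) ≫ AGF.conjBy g i =
        (fst H H ≫ AGF.conjBy g i) * (snd H H ≫ AGF.conjBy g i) := by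
      rw [comp_conjBy g i (fst H H), comp_conjBy g i (snd H H), h1]; group
    simpa [Hom.mul_def] using h4

end Formal

variable {k : Type u} [Field k]

/-- A closed immersion of an integral noetherian scheme into itself is an isomorphism. -/
theorem isIso_endo {B : Scheme.{u}} [TopologicalSpace.NoetherianSpace B] [IsReduced B] (f : B ⟶ B)
    [IsClosedImmersion f] : IsIso f := by
  have hcl : ∀ n : ℕ, IsClosed (Set.range (⇑f)^[n]) := by
    intro n
    induction n with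
    | zero => simp
    | succ n ih =>
      rw [Function.iterate_succ', Set.range_comp]
      exact f.isClosedEmbedding.isClosedMap _ ih
  let R : ℕ → Closeds B := fun n => ⟨Set.range (⇑f)^[n], hcl n⟩
  obtain ⟨S, ⟨n, rfl⟩, hmin⟩ := wellFounded_lt.has_min (Set.range R) ⟨R 0, 0, rfl⟩
  have hle : (R (n + 1) : Set B) ⊆ R n := by
    rintro _ ⟨y, rfl⟩
    exact ⟨f y, (Function.iterate_succ_apply (⇑f) n y).symm⟩
  have heq : R (n + 1) = R n := (eq_of_le_of_not_lt hle (hmin _ ⟨n + 1, rfl⟩))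
  haveI : Surjective f := ⟨fun y => by
    have h : ((⇑f)^[n] y) ∈ (R (n + 1) : Set B) := by rw [heq]; exact ⟨y, rfl⟩
    obtain ⟨z, hz⟩ := h
    rw [Function.iterate_succ_apply] at hz
    exact ⟨z, f.isClosedEmbedding.injective.iterate n hz⟩⟩
  exact isIso_of_isClosedImmersion_of_surjective f

variable [IsAlgClosed k]

theorem isIso_of_endo {B B' : Over (Spec (CommRingCat.of k))} [GrpObj B] [GrpObj B'] [Smooth B.hom] [IsAffine B.left]
    [Smooth B'.hom] (f : B ⟶ B') (l : B' ⟶ B) [IsClosedImmersion f.left] [IsClosedImmersion l.left] : IsIso f := by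
  haveI := LocallyOfFiniteType.isLocallyNoetherian B.hom
  haveI : CompactSpace B.left := inferInstance
  haveI : AlgebraicGeometry.IsNoetherian B.left := {}
  haveI : IsReduced B.left := GrothLib.RedSmooth.isReduced_of_smooth B.hom
  haveI : IsReduced B'.left := GrothLib.RedSmooth.isReduced_of_smooth B'.hom
  haveI : IsIso (f.left ≫ l.left) := isIso_endo _
  haveI : Surjective (f.left ≫ l.left) := inferInstance
  haveI : Surjective f.left := ⟨fun y => by
    obtain ⟨z, hz⟩ := (f.left ≫ l.left).surjective (l.left y)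
    exact ⟨z, l.left.isClosedEmbedding.injective (by rwa [Scheme.Hom.comp_apply] at hz)⟩⟩
  haveI : IsIso ((Over.forget _).map f) := isIso_of_isClosedImmersion_of_surjective f.left
  exact isIso_of_reflects_iso f (Over.forget _)

variable {G : Over (Spec (CommRingCat.of k))} [GrpObj G] [IsAffine G.left] [Smooth G.hom]

/-- A solvable connected subgroup is conjugate into any subgroup with proper quotient. -/
theorem exists_conj_into {B H : Over (Spec (CommRingCat.of k))} [GrpObj B] [GrpObj H] {i : B ⟶ G} [IsMonHom i]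
    {X : Over (Spec (CommRingCat.of k))} (a : AlgGrp.Action G X) (o : 𝟙_ (Over (Spec (CommRingCat.of k))) ⟶ X)
    (hX : AGF.IsQuotient i X a o) [IsProper X.hom] (j : H ⟶ G) [IsMonHom j] [IsClosedImmersion j.left]
    [Smooth H.hom] [ConnectedSpace H.left] (hs : IsSolvable (𝟙_ (Over (Spec (CommRingCat.of k))) ⟶ H)) :
    ∃ (g : 𝟙_ (Over (Spec (CommRingCat.of k))) ⟶ G) (f : H ⟶ B), f ≫ i = AGF.conjBy g j := by
  obtain ⟨hXl, -, hsurj, hpb⟩ := hX
  haveI := hXl
  haveI := hsurj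
  haveI : IsAffine H.left := isAffine_of_isAffineHom j.left
  haveI : Nonempty X.left := ⟨o.left.base (IsLocalRing.closedPoint k)⟩
  haveI : Group.IsSolvable (𝟙_ (Over (Spec (CommRingCat.of k))) ⟶ H) := hs
  obtain ⟨y, hy⟩ := GrothLib.BorelFix27.exists_fixedPt (a.restrict j)
  obtain ⟨g, -, hg⟩ := exists_cl_lift (a.orbitMap o) (E := Set.univ) isClosed_univ.isLocallyClosed (w := y)
    (by rw [Set.image_univ]; exact hsurj.surj _)
  refine ⟨g⁻¹, ?_⟩
  have h := hy H (𝟙 H)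
  rw [AlgGrp.Action.lift_restrict_act, Category.id_comp, ← hg, GrothLib.FlatFactor.comp_orbitMap,
    ← Category.assoc (toUnit H), comp_lift, ← Category.assoc (toUnit H) (toUnit _),
    toUnit_unique (toUnit H ≫ toUnit _) (toUnit H), ← GrothLib.DiagGrp.act_mul,
    ← GrothLib.FlatFactor.comp_orbitMap, ← GrothLib.FlatFactor.comp_orbitMap] at h
  refine ⟨hpb.lift (toUnit H ≫ g) (j * (toUnit H ≫ g)) h.symm ≫ snd G B, ?_⟩
  have e1 := hpb.lift_fst (toUnit H ≫ g) (j * (toUnit H ≫ g)) h.symm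
  have e2 := hpb.lift_snd (toUnit H ≫ g) (j * (toUnit H ≫ g)) h.symm
  generalize hpb.lift (toUnit H ≫ g) (j * (toUnit H ≫ g)) h.symm = l at e1 e2
  have el : l = lift (l ≫ fst G B) (l ≫ snd G B) := by rw [← comp_lift, lift_fst_snd, Category.comp_id]
  rw [el, lift_whiskerLeft_assoc, ← Hom.mul_def, e1] at e2
  rw [← inv_mul_cancel_left (toUnit H ≫ g) ((l ≫ snd G B) ≫ i), e2, AGF.conjBy, GrpObj.comp_inv,
    _root_.inv_inv, _root_.mul_assoc]

theorem isProper_quotient_good {B : Over (Spec (CommRingCat.of k))} [GrpObj B] {i : B ⟶ G} [IsMonHom i]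
    [IsClosedImmersion i.left] [Smooth B.hom] (hU : UC i) :
    ∃ (X : Over (Spec (CommRingCat.of k))) (a : AlgGrp.Action G X) (o : 𝟙_ (Over (Spec (CommRingCat.of k))) ⟶ X),
      AGF.IsQuotient i X a o ∧ IsProper X.hom := by
  haveI : IsAffine B.left := isAffine_of_isAffineHom i.left
  haveI : QuasiCompact B.hom := inferInstance
  haveI : Mono i := Over.mono_of_mono_left i
  obtain ⟨X, a, o, h₁, -, h₂, h₃, h₄⟩ := Groth.Agent.S3279.result k G B i
  exact ⟨X, a, o, ⟨h₁, h₂, h₃, h₄⟩, isProper_of_uc hU a o ⟨h₁, h₂, h₃, h₄⟩⟩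

variable [ConnectedSpace G.left]

/-- Some Borel subgroup has proper quotient. -/
theorem exists_borel : ∃ (B : Over (Spec (CommRingCat.of k))) (_ : GrpObj B) (i : B ⟶ G),
    Red.IsBorelOver k i ∧ UC i := by
  obtain ⟨B, _, i, hi, hic, hBsm, hBc, hBs, hU⟩ := exists_good G
  haveI := hi; haveI := hic; haveI := hBsm; haveI := hBc
  haveI : IsAffine B.left := isAffine_of_isAffineHom i.left
  refine ⟨B, inferInstance, i, ⟨hi, hic, hBsm, hBc, isSolvableGrp_of_points hBs, ?_⟩, hU⟩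
  intro B' _ i' _ f hic' hsm' hc' hs' hf
  haveI := hic'; haveI := hsm'; haveI := hc'
  obtain ⟨X, a, o, hX, hXp⟩ := isProper_quotient_good hU
  obtain ⟨g, l, hl⟩ := exists_conj_into a o hX i' (isSolvable_points hs')
  haveI : IsClosedImmersion (f.left ≫ i'.left) := by rw [← Over.comp_left, hf]; exact hic
  haveI : IsClosedImmersion f.left := IsClosedImmersion.of_comp f.left i'.left
  haveI : IsClosedImmersion (l.left ≫ i.left) := by
    rw [← Over.comp_left, hl]; exact isClosedImmersion_conjBy g i'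
  haveI : IsClosedImmersion l.left := IsClosedImmersion.of_comp l.left i.left
  exact isIso_of_endo f l

omit [IsAffine G.left] [Smooth G.hom] [ConnectedSpace G.left] [IsAlgClosed k] in
/-- Conjugates of Borel subgroups. -/
theorem isBorelOver_conjBy {B B₂ : Over (Spec (CommRingCat.of k))} [GrpObj B] [GrpObj B₂] {i : B ⟶ G} {i₂ : B₂ ⟶ G}
    (hB : Red.IsBorelOver k i) [IsMonHom i₂] [IsClosedImmersion i₂.left] [Smooth B₂.hom]
    [ConnectedSpace B₂.left] (hs : Red.IsSolvableGrp B₂) (e : B ≅ B₂) (g : 𝟙_ (Over (Spec (CommRingCat.of k))) ⟶ G)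
    (he : e.hom ≫ i₂ = AGF.conjBy g i) : Red.IsBorelOver k i₂ := by
  refine ⟨inferInstance, inferInstance, inferInstance, inferInstance, hs, ?_⟩
  intro B' _ i' _ f hic' hsm' hc' hs' hf
  obtain ⟨-, -, -, -, -, hmax⟩ := hB
  haveI := hic'
  haveI : IsMonHom (AGF.conjBy g⁻¹ i') := isMonHom_conjBy g⁻¹ i'
  have hk : (e.hom ≫ f) ≫ AGF.conjBy g⁻¹ i' = i := by
    rw [comp_conjBy', Category.assoc, hf, he, conjBy_conjBy, inv_mul_cancel, conjBy_one]
  haveI hcomp : IsIso (e.hom ≫ f) :=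
    hmax B' (AGF.conjBy g⁻¹ i') (e.hom ≫ f) (isClosedImmersion_conjBy g⁻¹ i') hsm' hc' hs' hk
  haveI : IsIso e.hom := e.isIso_hom
  exact @IsIso.of_isIso_comp_left _ _ _ _ _ e.hom f e.isIso_hom hcomp

variable {B₁ : Over (Spec (CommRingCat.of k))} [GrpObj B₁] {i₁ : B₁ ⟶ G}

/-- All Borel subgroups are conjugate to one with proper quotient. -/
theorem exists_conj_borel (h₁ : Red.IsBorelOver k i₁) {B : Over (Spec (CommRingCat.of k))} [GrpObj B] {i : B ⟶ G}
    (hB : Red.IsBorelOver k i) (hU : UC i) :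
    ∃ (g : 𝟙_ (Over (Spec (CommRingCat.of k))) ⟶ G) (e : B₁ ≅ B), e.hom ≫ i = AGF.conjBy g i₁ := by
  obtain ⟨hi, hic, hBsm, hBc, hBs, -⟩ := hB
  obtain ⟨h1m, h1c, h1sm, h1cn, h1s, hmax⟩ := h₁
  haveI := hi; haveI := hic; haveI := hBsm; haveI := hBc; haveI := h1m; haveI := h1c; haveI := h1sm; haveI := h1cn
  obtain ⟨X, a, o, hX, hXp⟩ := isProper_quotient_good hU
  obtain ⟨g, l, hl⟩ := exists_conj_into a o hX i₁ (isSolvable_points h1s)
  haveI : IsMonHom (AGF.conjBy g⁻¹ i) := isMonHom_conjBy g⁻¹ i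
  have hk : l ≫ AGF.conjBy g⁻¹ i = i₁ := by
    rw [comp_conjBy', hl, conjBy_conjBy, inv_mul_cancel, conjBy_one]
  haveI := hmax B (AGF.conjBy g⁻¹ i) l (isClosedImmersion_conjBy g⁻¹ i) hBsm hBc hBs hk
  exact ⟨g, asIso l, hl⟩

/-- Conjugacy of Borel subgroups. -/
theorem borel_conj {B₂ : Over (Spec (CommRingCat.of k))} [GrpObj B₂] {i₂ : B₂ ⟶ G}
    (h₁ : Red.IsBorelOver k i₁) (h₂ : Red.IsBorelOver k i₂) :
    ∃ (g : 𝟙_ (Over (Spec (CommRingCat.of k))) ⟶ G) (f : B₁ ≅ B₂), f.hom ≫ i₂ = AGF.conjBy g i₁ := by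
  obtain ⟨B, _, i, hB, hU⟩ := exists_borel (G := G)
  obtain ⟨g₁, e₁, he₁⟩ := exists_conj_borel h₁ hB hU
  obtain ⟨g₂, e₂, he₂⟩ := exists_conj_borel h₂ hB hU
  refine ⟨g₂⁻¹ * g₁, e₁ ≪≫ e₂.symm, ?_⟩
  rw [← conjBy_conjBy, ← he₁, ← comp_conjBy', Iso.trans_hom, Iso.symm_hom, Category.assoc]
  congr 1
  rw [← cancel_epi e₂.hom, Iso.hom_inv_id_assoc, comp_conjBy', he₂, conjBy_conjBy, inv_mul_cancel, conjBy_one]

/-- The quotient by a Borel subgroup is proper. -/
theorem uc_of_borel (h₁ : Red.IsBorelOver k i₁) : UC i₁ := by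
  obtain ⟨B, _, i, hB, hU⟩ := exists_borel (G := G)
  obtain ⟨g, e, he⟩ := exists_conj_borel h₁ hB hU
  intro T hT hTc C hC hst
  haveI := hT
  haveI : LocallyOfFiniteType (G ⊗ T).hom := by
    show LocallyOfFiniteType (pullback.fst G.hom T.hom ≫ G.hom)
    infer_instance
  -- move the set by the inner automorphism
  let c : G ⟶ G := AGF.conjBy g⁻¹ (𝟙 G)
  let τ : G ⊗ T ⟶ G ⊗ T := c ▷ T
  haveI : IsIso τ.left := by
    haveI : IsIso c := isIso_conjBy_id g⁻¹
    exact inferInstanceAs (IsIso ((Over.forget _).map (c ▷ T)))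
  have h := hU T hT hTc (τ.left.base ⁻¹' C) (hC.preimage τ.left.continuous) fun b v t hv => by
    simp only [Set.mem_preimage, ← cl_comp, τ, lift_whiskerRight] at hv ⊢
    haveI : IsMonHom c := isMonHom_conjBy g⁻¹ (𝟙 G)
    have e' : e.inv ≫ i₁ = i ≫ c := by
      show _ = i ≫ AGF.conjBy g⁻¹ (𝟙 G)
      rw [← conjBy_eq_comp, ← cancel_epi e.hom, Iso.hom_inv_id_assoc, comp_conjBy', he, conjBy_conjBy,
        inv_mul_cancel, conjBy_one]
    rw [MonObj.mul_comp _ _ c, Category.assoc, ← e', ← Category.assoc b]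
    exact hst (b ≫ e.inv) _ _ hv
  have e2 : (snd G T).left.base '' (τ.left.base ⁻¹' C) = (snd G T).left.base '' C := by
    have hc : ⇑(snd G T).left.base = ⇑(snd G T).left.base ∘ ⇑τ.left.base := funext fun y => by
      show _ = (snd G T).left (τ.left y)
      rw [← Scheme.Hom.comp_apply, ← Over.comp_left, whiskerRight_snd]
    conv_lhs => rw [hc, Set.image_comp, Set.image_preimage_eq _ τ.left.surjective]
  rw [e2] at h
  exact h

/-- Homomorphisms agreeing on a Borel subgroup are equal. -/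
theorem hom_eq (h₁ : Red.IsBorelOver k i₁) {G' : Over (Spec (CommRingCat.of k))} [GrpObj G'] [IsAffine G'.left]
    (φ₁ φ₂ : G ⟶ G') [IsMonHom φ₁] [IsMonHom φ₂] (h : i₁ ≫ φ₁ = i₁ ≫ φ₂) : φ₁ = φ₂ := by
  have hU := uc_of_borel h₁
  obtain ⟨hm, hc, hsm, -, -, -⟩ := h₁
  haveI := hm; haveI := hc; haveI := hsm
  obtain ⟨X, a, o, hX, hXp⟩ := isProper_quotient_good hU
  obtain ⟨hXl, hfl, hsurj, hpb⟩ := hX
  haveI := hfl; haveI := hsurj; haveI := hXl
  haveI := GrothLib.Induce27.lfp_orbit (a.orbitMap o)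
  obtain ⟨d, hd⟩ := GrothLib.DiagGrp.exists_desc (a.orbitMap o) (φ₁ * φ₂⁻¹) fun T v w e => by
    obtain ⟨l, hl1, hl2⟩ : ∃ l : T ⟶ G ⊗ B₁, l ≫ fst G B₁ = v ∧ l ≫ (G ◁ i₁) ≫ μ[G] = w :=
      ⟨hpb.lift v w e, hpb.lift_fst _ _ _, hpb.lift_snd _ _ _⟩
    have el : l = lift (l ≫ fst G B₁) (l ≫ snd G B₁) := by rw [← comp_lift, lift_fst_snd, Category.comp_id]
    have hw : w = v * ((l ≫ snd G B₁) ≫ i₁) := by
      rw [← hl2, el, lift_whiskerLeft_assoc, ← Hom.mul_def]
      simp [hl1]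
    simp only [hw, MonObj.comp_mul, GrpObj.comp_inv, MonObj.mul_comp, Category.assoc, h]
    group
  haveI := GrothLib.Rigidity.irreducibleSpace_of_connected G
  haveI : IsReduced G.left := GrothLib.RedSmooth.isReduced_of_smooth G.hom
  haveI : IsReduced X.left := GrothLib.FlatFactor.isReduced_of_flat_surjective (a.orbitMap o).left
  haveI : IrreducibleSpace X.left := by
    rw [irreducibleSpace_def, Set.top_eq_univ, ← (a.orbitMap o).left.surjective.range_eq, ← Set.image_univ]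
    exact (IrreducibleSpace.isIrreducible_univ G.left).image _ (a.orbitMap o).left.continuous.continuousOn
  haveI : IsIntegral X.left := isIntegral_of_irreducibleSpace_of_isReduced _
  have hd0 : d = toUnit X ≫ o ≫ d :=
    Over.OverMorphism.ext (GrothLib.Rigidity.eq_comp_section_of_isAffine X.hom o.left (Over.w o) d.left)
  have hψ : φ₁ * φ₂⁻¹ = toUnit G ≫ o ≫ d := by
    rw [← hd, hd0, ← Category.assoc (a.orbitMap o), toUnit_unique (a.orbitMap o ≫ toUnit X) (toUnit G)]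
    congr 1
    rw [← Category.assoc o, ← Category.assoc (o ≫ toUnit X)]
    congr 1
    rw [toUnit_unique (o ≫ toUnit X) (𝟙 _), Category.id_comp]
  have h1 := congrArg ((1 : 𝟙_ (Over (Spec (CommRingCat.of k))) ⟶ G) ≫ ·) hψ
  simp only [MonObj.comp_mul, GrpObj.comp_inv, MonObj.one_comp, inv_one, _root_.mul_one] at h1
  rw [← Category.assoc, toUnit_unique ((1 : 𝟙_ (Over (Spec (CommRingCat.of k))) ⟶ G) ≫ toUnit G) (𝟙 _),
    Category.id_comp] at h1
  rw [← h1, MonObj.comp_one] at hψ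
  exact mul_inv_eq_one.1 hψ

/-- A solvable connected subgroup with proper quotient is a Borel subgroup. -/
theorem isBorel_of_proper {H : Over (Spec (CommRingCat.of k))} [GrpObj H] (iH : H ⟶ G) [IsMonHom iH]
    [IsClosedImmersion iH.left] [Smooth H.hom] [ConnectedSpace H.left] (hs : Red.IsSolvableGrp H)
    {X : Over (Spec (CommRingCat.of k))} (a : AlgGrp.Action G X) (o : 𝟙_ (Over (Spec (CommRingCat.of k))) ⟶ X)
    (hX : AGF.IsQuotient iH X a o) [IsProper X.hom] : Red.IsBorelOver k iH := by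
  obtain ⟨B, _, i, hB, -⟩ := exists_borel (G := G)
  have hB' := hB
  obtain ⟨hi, hic, hBsm, hBc, hBs, hmax⟩ := hB
  haveI := hi; haveI := hic; haveI := hBsm; haveI := hBc
  obtain ⟨g, f, hf⟩ := exists_conj_into a o hX i (isSolvable_points hBs)
  haveI : IsMonHom (AGF.conjBy g⁻¹ iH) := isMonHom_conjBy g⁻¹ iH
  have hk : f ≫ AGF.conjBy g⁻¹ iH = i := by
    rw [comp_conjBy', hf, conjBy_conjBy, inv_mul_cancel, conjBy_one]
  haveI := hmax H (AGF.conjBy g⁻¹ iH) f (isClosedImmersion_conjBy g⁻¹ iH) inferInstance inferInstance hs hk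
  exact isBorelOver_conjBy hB' hs (asIso f) g hf

end GrothLib.Flag27
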