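import Groth.Agent.Lib.Flag27.TorusCentConn
import Groth.Agent.Lib.DiagGrp.Points
import Groth.Prelude.Def_Red2

/-!
# Centralizers commute with base change; connectedness over arbitrary fields
-/

set_option autoImplicit false
set_option linter.all false
set_option backward.isDefEq.respectTransparency false

universe u

open CategoryTheory CategoryTheory.Limits MonoidalCategory CartesianMonoidalCategory MonObj GrpObj AlgebraicGeometry

namespace GrothLib.Flag27

open GrothLib.DiagGrp

/-- Centralizers commute with base change. -/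
theorem isCentralizerOf_bc {S S' : Scheme.{u}} (f : S' ⟶ S) {H G Z : Over S} [GrpObj H] [GrpObj G] [GrpObj Z]
    {i : H ⟶ G} {j : Z ⟶ G} (h : Red.IsCentralizerOf i j) :
    Red.IsCentralizerOf ((Over.pullback f).map i) ((Over.pullback f).map j) := by
  obtain ⟨hm, hmono, hiff⟩ := h
  haveI := hm; haveI := hmono
  refine ⟨inferInstance, inferInstance, fun X g => ?_⟩
  let eG := fun T => bcPointMulEquiv f G T
  let g₀ := (eG X).symm g
  constructor
  · rintro ⟨z, rfl⟩ X' x h'
    obtain ⟨z₀, hz₀⟩ : ∃ z₀, z₀ ≫ j = (eG X).symm (z ≫ (Over.pullback f).map j) :=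
      ⟨(bcPoint f Z X).symm z, (eG X).injective (by
        rw [MulEquiv.apply_symm_apply]
        exact (bcPoint_comp_right f _ j).trans (by rw [Equiv.apply_symm_apply]))⟩
    have hh := (hiff _ _).1 ⟨z₀, hz₀⟩ _ ((Over.map f).map x) ((bcPoint f H X').symm h')
    have h1 : eG X' ((Over.map f).map x ≫ (eG X).symm (z ≫ (Over.pullback f).map j)) = x ≫ z ≫ (Over.pullback f).map j :=
      (bcPoint_comp f x _).trans (congrArg (x ≫ ·) ((eG X).apply_symm_apply _))
    have h2 : eG X' ((bcPoint f H X').symm h' ≫ i) = h' ≫ (Over.pullback f).map i :=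
      (bcPoint_comp_right f _ i).trans (congrArg (· ≫ (Over.pullback f).map i) (Equiv.apply_symm_apply _ _))
    have := congrArg (eG X') hh
    rw [map_mul, map_mul, h1, h2] at this
    exact this
  · intro hg
    obtain ⟨z₀, hz₀⟩ : ∃ z₀, z₀ ≫ j = g₀ := (hiff _ g₀).2 fun Y y hh => by
      let X' : Over S' := Over.mk (y.left ≫ X.hom)
      let e : Y ≅ (Over.map f).obj X' := Over.isoMk (Iso.refl _) (by
        show 𝟙 _ ≫ (y.left ≫ X.hom) ≫ f = Y.hom
        rw [Category.id_comp, Category.assoc]
        exact Over.w y)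
      let x' : X' ⟶ X := Over.homMk y.left rfl
      have hy : e.hom ≫ (Over.map f).map x' = y := Over.OverMorphism.ext (Category.id_comp _)
      have h1 : eG X' ((Over.map f).map x' ≫ g₀) = x' ≫ g :=
        (bcPoint_comp f x' _).trans (congrArg (x' ≫ ·) ((eG X).apply_symm_apply _))
      have h2 : eG X' ((e.inv ≫ hh) ≫ i) = bcPoint f H X' (e.inv ≫ hh) ≫ (Over.pullback f).map i :=
        bcPoint_comp_right f _ i
      have h3 : ((Over.map f).map x' ≫ g₀) * ((e.inv ≫ hh) ≫ i) = ((e.inv ≫ hh) ≫ i) * ((Over.map f).map x' ≫ g₀) :=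
        (eG X').injective (by rw [map_mul, map_mul, h1, h2]; exact hg X' x' _)
      have h4 := congrArg (e.hom ≫ ·) h3
      simp only [MonObj.comp_mul, ← Category.assoc, Iso.hom_inv_id, Category.id_comp, hy] at h4
      exact h4
    exact ⟨bcPoint f Z X z₀, (bcPoint_comp_right f z₀ j).symm.trans (by rw [hz₀]; exact (eG X).apply_symm_apply g)⟩

variable {k : Type u} [Field k]

/-- Tori stay tori after a field extension. -/
theorem isTorus_bc_field {K : Type u} [Field K] (f : Spec (CommRingCat.of K) ⟶ Spec (CommRingCat.of k))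
    {T : Over (Spec (CommRingCat.of k))} [GrpObj T] (hT : Red.IsTorus T) : Red.IsTorus (Red.bc f T) := by
  obtain ⟨S'', π, hfl, hsurj, -, hloc⟩ := hT
  haveI := hfl; haveI := hsurj
  haveI : Surjective (pullback.snd π f) := MorphismProperty.pullback_snd π f ‹_›
  refine ⟨pullback π f, pullback.snd π f, MorphismProperty.pullback_snd π f hfl, inferInstance, fun V hV => ?_,
    fun s => ?_⟩
  · haveI : Subsingleton ↥(Spec (CommRingCat.of K)) := inferInstanceAs (Subsingleton (PrimeSpectrum K))
    by_cases hne : (V : Set ↥(Spec (CommRingCat.of K))).Nonempty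
    · obtain ⟨v, hv⟩ := hne
      obtain ⟨x, hx⟩ := (pullback.snd π f).surjective v
      obtain ⟨W, hW, hxW, -⟩ := exists_isAffineOpen_mem_and_subset (X := pullback π f) (x := x) (U := ⊤) trivial
      refine ⟨W, hW.isCompact, Set.Subset.antisymm (fun y _ => ?_) fun y _ => ⟨x, hxW, Subsingleton.elim _ _⟩⟩
      rw [Subsingleton.elim y v]; exact hv
    · exact ⟨⊥, by simp, by simp [Set.not_nonempty_iff_eq_empty.1 hne]⟩
  · obtain ⟨U, hU, r, ⟨e⟩⟩ := hloc ((pullback.fst π f).base s)
    let U' := (pullback.fst π f) ⁻¹ᵁ U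
    let g : (U' : Scheme.{u}) ⟶ U := (pullback.fst π f) ∣_ U
    have hg : U'.ι ≫ pullback.snd π f ≫ f = g ≫ U.ι ≫ π := by
      rw [← pullback.condition, ← Category.assoc, ← Category.assoc, morphismRestrict_ι]
    have hterm : g ≫ IsTerminal.from specULiftZIsTerminal (U : Scheme.{u}) =
        IsTerminal.from specULiftZIsTerminal _ := specULiftZIsTerminal.hom_ext _ _
    refine ⟨U', hU, r, ⟨?_⟩⟩
    exact (bcGrpComp T f (U'.ι ≫ pullback.snd π f) ((U'.ι ≫ pullback.snd π f) ≫ f) rfl).symm ≪≫
      (bcGrpComp T (U.ι ≫ π) g ((U'.ι ≫ pullback.snd π f) ≫ f) (by rw [Category.assoc, hg])) ≪≫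
      ((Over.pullback g).mapGrp.mapIso e) ≪≫
      (bcGrpComp (Red.diag (ULift.{u} ℤ) (Fin r → ℤ)) (IsTerminal.from specULiftZIsTerminal _) g
        (IsTerminal.from specULiftZIsTerminal _) hterm.symm).symm

/-- Centralizers of subtori of connected affine groups over a field are connected. -/
theorem connectedSpace_centralizer_field {G T C : Over (Spec (CommRingCat.of k))} [GrpObj G] [GrpObj T] [GrpObj C]
    [IsAffine G.left] [LocallyOfFiniteType G.hom] [ConnectedSpace G.left]
    (iT : T ⟶ G) [IsMonHom iT] [Mono iT] (hT : Red.IsTorus T) (c : C ⟶ G) (hc : Red.IsCentralizerOf iT c) :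
    ConnectedSpace C.left := by
  let q : Spec (CommRingCat.of (AlgebraicClosure k)) ⟶ Spec (CommRingCat.of k) :=
    Spec.map (CommRingCat.ofHom (algebraMap k (AlgebraicClosure k)))
  haveI : IsAffine (Red.bc q G).left := isAffine_bc q G
  haveI : LocallyOfFiniteType (Red.bc q G).hom := MorphismProperty.pullback_snd G.hom q ‹_›
  haveI := connectedSpace_bc q G
  haveI := connectedSpace_centralizer ((Over.pullback q).map iT) (isTorus_bc_field q hT)
    ((Over.pullback q).map c) (isCentralizerOf_bc q hc)
  haveI : Surjective q := surjective_to_field q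
  haveI : ConnectedSpace ↥(pullback C.hom q) := ‹ConnectedSpace ↥(Red.bc q C).left›
  haveI : Surjective (pullback.fst C.hom q) := MorphismProperty.pullback_fst C.hom q ‹_›
  exact (pullback.fst C.hom q).surjective.connectedSpace (pullback.fst C.hom q).continuous

end GrothLib.Flag27
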