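import Groth.Agent.Lib.Flag27.UnipBasic
import Groth.Agent.Lib.GrpSchField.Criteria
import Groth.Agent.S3266
import Groth.Agent.S7967
import Groth.Agent.S4128

/-!
# Solvable connected groups are extensions of tori by unipotent groups
-/

set_option autoImplicit false
set_option linter.all false
set_option backward.isDefEq.respectTransparency false

universe u

open CategoryTheory CategoryTheory.Limits MonoidalCategory CartesianMonoidalCategory MonObj GrpObj AlgebraicGeometry
open scoped TensorProduct WithConv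

namespace GrothLib.Flag27

open GrothLib.MultHopf14 GrothLib.CentMT14

variable {k : Type u} [Field k] [IsAlgClosed k]


/-- A diagonalisable Hopf subalgebra of a finitely generated domain is of finite type. -/
theorem finiteType_of_diag {A C : Type u} [CommRing A] [HopfAlgebra k A] [Algebra.FiniteType k A]
    [CommRing C] [HopfAlgebra k C] (ψ : C →ₐc[k] A) (hψ : Function.Injective ψ)
    (hC : HopfRep.IsDiagonalizable k C) : Algebra.FiniteType k C := by
  haveI := CharFG28.fg_groupLike k A
  let f : GroupLike k C →* GroupLike k A :=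
    { toFun := fun g => ⟨ψ g, g.2.map ψ⟩
      map_one' := GroupLike.val_injective (map_one ψ)
      map_mul' := fun g h => GroupLike.val_injective (map_mul ψ g.1 h.1) }
  have hf : Function.Injective f := fun g h e => GroupLike.val_injective (hψ (congrArg GroupLike.val e))
  haveI : Module.Finite ℤ (Additive (GroupLike k A)) := Module.Finite.iff_addGroup_fg.2 inferInstance
  haveI : Module.Finite ℤ (Additive (GroupLike k C)) :=
    Module.Finite.of_injective (MonoidHom.toAdditive f).toIntLinearMap hf
  haveI : AddGroup.FG (Additive (GroupLike k C)) := Module.Finite.iff_addGroup_fg.1 inferInstance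
  haveI : Group.FG (GroupLike k C) := GroupFG.iff_add_fg.2 inferInstance
  haveI : Monoid.FG (GroupLike k C) := Group.fg_iff_monoid_fg.1 inferInstance
  haveI : Algebra.FiniteType k (MonoidAlgebra k (GroupLike k C)) := inferInstance
  refine Algebra.FiniteType.of_surjective
    (MonoidAlgebra.liftGroupLikeBialgHom (R := k) (A := C) : MonoidAlgebra k (GroupLike k C) →ₐ[k] C) fun a => ?_
  have ha : a ∈ Submodule.span k {a : C | IsGroupLikeElem k a} := (show Submodule.span k _ = ⊤ from hC) ▸ trivial
  induction ha using Submodule.span_induction with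
  | mem c hc => exact ⟨MonoidAlgebra.single ⟨c, hc⟩ 1, by simp⟩
  | zero => exact ⟨0, map_zero _⟩
  | add c d _ _ hc hd =>
    obtain ⟨c', rfl⟩ := hc
    obtain ⟨d', rfl⟩ := hd
    exact ⟨c' + d', map_add _ _ _⟩
  | smul r c _ hc =>
    obtain ⟨c', rfl⟩ := hc
    exact ⟨r • c', map_smul _ _ _⟩

/-- A diagonalisable group with integral functions is a torus. -/
theorem isTorus_specGrp {C : Type u} [CommRing C] [HopfAlgebra k C] [IsDomain C] [Algebra.FiniteType k C]
    (hC : HopfRep.IsDiagonalizable k C) : Red.IsTorus (specGrp (R := k) C) := by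
  have hmem : ∀ a : C, a ∈ Submodule.span k {a : C | IsGroupLikeElem k a} := fun a =>
    (show Submodule.span k _ = ⊤ from hC) ▸ trivial
  haveI : Coalgebra.IsCocomm k C := by
    refine ⟨LinearMap.ext fun a => ?_⟩
    induction hmem a using Submodule.span_induction with
    | mem g hg =>
      show TensorProduct.comm k C C (Coalgebra.comul (R := k) g) = Coalgebra.comul (R := k) g
      rw [IsGroupLikeElem.comul_eq_tmul_self hg, TensorProduct.comm_tmul]
    | zero => simp
    | add c d _ _ hc hd => rw [map_add, map_add, hc, hd]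
    | smul r c _ hc => rw [map_smul, map_smul, hc]
  let e : AlgebraicClosure k ⊗[k] C ≃ₐ[k] C :=
    (Algebra.TensorProduct.congr (AlgEquiv.ofBijective (Algebra.ofId k (AlgebraicClosure k))
      IsAlgClosed.algebraMap_bijective_of_isIntegral).symm AlgEquiv.refl).trans (Algebra.TensorProduct.lid k C)
  haveI : IsDomain (AlgebraicClosure k ⊗[k] C) := e.toMulEquiv.isDomain C
  exact TorusPrim24.isTorus_of_noPrimElt (Iso.refl _) fun x hx => NoPrim.eq_zero_of_primitive_diag hC hx

variable {B : Over (Spec (CommRingCat.of k))} [GrpObj B] [IsAffine B.left] [Smooth B.hom] [ConnectedSpace B.left]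

/-- A split decomposition of a group into a torus and a unipotent normal subgroup. -/
def HasSplit (B : Over (Spec (CommRingCat.of k))) [GrpObj B] : Prop :=
  ∃ (D : Over (Spec (CommRingCat.of k))) (_ : GrpObj D) (U : Over (Spec (CommRingCat.of k))) (_ : GrpObj U) (p : B ⟶ D) (s : D ⟶ B) (u : U ⟶ B) (r : B ⟶ U),
    IsMonHom p ∧ IsMonHom s ∧ IsMonHom u ∧ s ≫ p = 𝟙 D ∧ Red.IsTorus D ∧ IsAffine D.left ∧ Smooth D.hom ∧
      ConnectedSpace D.left ∧ IsClosedImmersion u.left ∧ u ≫ p = 1 ∧ u ≫ r = 𝟙 U ∧
      r ≫ u = 𝟙 B * (p ≫ s)⁻¹ ∧ IsUnip k U ∧ Smooth U.hom ∧ ConnectedSpace U.left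

set_option maxHeartbeats 1000000 in
/-- Solvable connected groups split. -/
theorem hasSplit_of_solvable (hs : IsSolvable (𝟙_ (Over (Spec (CommRingCat.of k))) ⟶ B)) : HasSplit B := by
  haveI := GrothLib.Rigidity.irreducibleSpace_of_connected B
  haveI : IsReduced B.left := GrothLib.RedSmooth.isReduced_of_smooth B.hom
  haveI : IsIntegral B.left := isIntegral_of_irreducibleSpace_of_isReduced _
  obtain ⟨A, _, _, ⟨e⟩⟩ := exists_hopf B (isAffineHom_of_isAffine _)
  haveI := finiteType_of_grpIso e
  let i : specGrp (R := k) A ≅ B := (Grp.forget _).mapIso e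
  haveI : IsDomain A := by
    haveI : IsIso i.inv.left := inferInstanceAs (IsIso ((Over.forget _).map i.inv))
    haveI : IsIntegral (Spec (CommRingCat.of A)) := .of_isIso i.inv.left
    exact (affine_isIntegral_iff (CommRingCat.of A)).1 inferInstance
  haveI : IsMonHom i.hom := e.hom.hom.isMonHom_hom
  haveI : IsMonHom i.inv := e.inv.hom.isMonHom_hom
  haveI : Group.IsSolvable (WithConv (A →ₐ[k] k)) := by
    haveI : Group.IsSolvable (VecGrp.pt k k ⟶ B) := (isSolvable_pt_iff B).2 hs
    refine solvable_of_solvable_injective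
      (f := (GrothLib.RankOne.postHom i.hom (VecGrp.pt k k)).comp (Spec.mapMulEquiv (R := k) (S := A) (T := k)).toMonoidHom)
      fun x y h => ?_
    exact Spec.mapMulEquiv.injective ((cancel_mono i.hom).1 h)
  have hidem : ∀ z : A, IsIdempotentElem z → z = 0 ∨ z = 1 := fun z hz => IsIdempotentElem.iff_eq_zero_or_one.1 hz
  obtain ⟨C, _, _, ψ, J, _, hψ, hC, hJ, hU⟩ :=
    (Groth.Agent.S7967.result k A).1 (Groth.Agent.S3266.result k A hidem)
  haveI := finiteType_of_diag ψ hψ hC
  haveI : IsDomain C := hψ.isDomain (ψ : C →+* A)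
  have hCd : SGA3b.IsDiag k C := by
    refine ⟨GroupLike k C, inferInstance, ⟨(BialgEquiv.ofBijective
      (MonoidAlgebra.liftGroupLikeBialgHom (R := k) (A := C)) ⟨CharFG28.liftGroupLike_injective k C, fun a => ?_⟩).symm⟩⟩
    have ha : a ∈ Submodule.span k {a : C | IsGroupLikeElem k a} := (show Submodule.span k _ = ⊤ from hC) ▸ trivial
    induction ha using Submodule.span_induction with
    | mem c hc => exact ⟨MonoidAlgebra.single ⟨c, hc⟩ 1, by simp⟩
    | zero => exact ⟨0, map_zero _⟩
    | add c d _ _ hc hd =>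
      obtain ⟨c', rfl⟩ := hc
      obtain ⟨d', rfl⟩ := hd
      exact ⟨c' + d', map_add _ _ _⟩
    | smul r c _ hc =>
      obtain ⟨c', rfl⟩ := hc
      exact ⟨r • c', map_smul _ _ _⟩
  obtain ⟨ρ, hρ⟩ := Groth.Agent.S4128.result k A C hCd ψ hψ J hJ hU
  let D : Over (Spec (CommRingCat.of k)) := specGrp (R := k) C
  let U : Over (Spec (CommRingCat.of k)) := specGrp (R := k) (A ⧸ J)
  let p : B ⟶ D := i.inv ≫ specMap ψ
  let s : D ⟶ B := specMap ρ ≫ i.hom
  let u : U ⟶ B := specMap (Bialgebra.Quotient.mkBialgHom (R := k) J) ≫ i.hom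
  haveI : IsMonHom p := inferInstance
  haveI : IsMonHom s := inferInstance
  haveI : IsMonHom u := inferInstance
  haveI : IsIso i.hom.left := inferInstanceAs (IsIso ((Over.forget _).map i.hom))
  haveI : IsIso i.inv.left := inferInstanceAs (IsIso ((Over.forget _).map i.inv))
  haveI hucl : IsClosedImmersion u.left := by
    haveI : IsClosedImmersion (specMap (Bialgebra.Quotient.mkBialgHom (R := k) J)).left :=
      IsClosedImmersion.spec_of_surjective (CommRingCat.ofHom (Ideal.Quotient.mk J)) Ideal.Quotient.mk_surjective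
    rw [Over.comp_left]
    infer_instance
  haveI : Mono u := Over.mono_of_mono_left u
  have hsp : s ≫ p = 𝟙 D := by
    show (specMap ρ ≫ i.hom) ≫ i.inv ≫ specMap ψ = 𝟙 D
    rw [Category.assoc, i.hom_inv_id_assoc]
    refine Over.OverMorphism.ext ?_
    rw [Over.comp_left, specMap_left, specMap_left, ← Spec.map_comp, ← CommRingCat.ofHom_comp]
    show Spec.map (CommRingCat.ofHom _) = 𝟙 _
    rw [← Spec.map_id, ← CommRingCat.ofHom_id]
    exact congrArg (fun r => Spec.map (CommRingCat.ofHom r)) (RingHom.ext fun c => DFunLike.congr_fun hρ c)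
  have hup : u ≫ p = 1 := by
    show (specMap (Bialgebra.Quotient.mkBialgHom (R := k) J) ≫ i.hom) ≫ i.inv ≫ specMap ψ = 1
    rw [Category.assoc, i.hom_inv_id_assoc]
    refine Over.OverMorphism.ext ?_
    rw [Over.comp_left, specMap_left, specMap_left, ← Spec.map_comp, ← CommRingCat.ofHom_comp, one_left]
    show _ = Spec.map (CommRingCat.ofHom (algebraMap k (A ⧸ J))) ≫ Spec.map _
    rw [← Spec.map_comp, ← CommRingCat.ofHom_comp]
    refine congrArg (fun r => Spec.map (CommRingCat.ofHom r)) (RingHom.ext fun c => ?_)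
    show Ideal.Quotient.mk J (ψ c) = algebraMap k (A ⧸ J) (Bialgebra.counitAlgHom k C c)
    rw [IsScalarTower.algebraMap_apply k A (A ⧸ J), Ideal.Quotient.algebraMap_eq, Ideal.Quotient.eq, hJ,
      show algebraMap k A (Bialgebra.counitAlgHom k C c) = ψ (algebraMap k C (Bialgebra.counitAlgHom k C c)) from
        ((ψ : C →ₐ[k] A).commutes _).symm, ← map_sub]
    refine Ideal.mem_map_of_mem _ ?_
    rw [RingHom.mem_ker, map_sub, AlgHom.commutes, Algebra.algebraMap_self_apply, sub_self]
  let y : B ⟶ B := 𝟙 B * (p ≫ s)⁻¹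
  have hyp : y ≫ p = 1 := by
    show (𝟙 B * (p ≫ s)⁻¹) ≫ p = 1
    rw [MonObj.mul_comp, GrpObj.inv_comp, Category.assoc, hsp, Category.id_comp, Category.comp_id, mul_inv_cancel]
  have hy0 : (y ≫ i.inv) ≫ specMap ψ = 1 := by rw [Category.assoc]; exact hyp
  obtain ⟨r, hr⟩ := exists_lift_kernel ψ J hJ (y ≫ i.inv) hy0
  have hru : r ≫ u = y := by
    show r ≫ specMap (Bialgebra.Quotient.mkBialgHom (R := k) J) ≫ i.hom = y
    rw [reassoc_of% hr, i.inv_hom_id, Category.comp_id]
  have hur : u ≫ r = 𝟙 U := by
    rw [← cancel_mono u, Category.assoc, hru, Category.id_comp]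
    show u ≫ (𝟙 B * (p ≫ s)⁻¹) = u
    rw [MonObj.comp_mul, GrpObj.comp_inv, ← Category.assoc, hup, MonObj.one_comp, inv_one, Category.comp_id,
      _root_.mul_one]
  haveI : IsAffine D.left := inferInstanceAs (IsAffine (Spec (CommRingCat.of C)))
  haveI : LocallyOfFiniteType D.hom :=
    (HasRingHomProperty.Spec_iff (P := @LocallyOfFiniteType)).2 (RingHom.finiteType_algebraMap.2 inferInstance)
  haveI : IsIntegral D.left := inferInstanceAs (IsIntegral (Spec (CommRingCat.of C)))
  haveI : IsReduced U.left := by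
    let rf : A ⧸ J →+* A :=
      (Spec.preimage (i.hom ≫ r).left).hom
    have hrf : (Spec.map (CommRingCat.ofHom (Ideal.Quotient.mk J))) ≫ (i.hom ≫ r).left = 𝟙 _ := by
      show (specMap (Bialgebra.Quotient.mkBialgHom (R := k) J) ≫ i.hom ≫ r).left = _
      rw [← Category.assoc]
      exact congrArg Over.Hom.left hur
    have hcomp : (Ideal.Quotient.mk J).comp rf = RingHom.id _ := by
      have h : Spec.preimage (i.hom ≫ r).left ≫ CommRingCat.ofHom (Ideal.Quotient.mk J) = 𝟙 _ := by
        apply Spec.map_injective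
        rw [Spec.map_comp, Spec.map_preimage, Spec.map_id]
        exact hrf
      exact congrArg CommRingCat.Hom.hom h
    haveI : _root_.IsReduced (A ⧸ J) :=
      isReduced_of_injective rf (Function.LeftInverse.injective (g := Ideal.Quotient.mk J) (DFunLike.congr_fun hcomp))
    exact inferInstanceAs (IsReduced (Spec (CommRingCat.of (A ⧸ J))))
  haveI : LocallyOfFiniteType U.hom :=
    (HasRingHomProperty.Spec_iff (P := @LocallyOfFiniteType)).2 (RingHom.finiteType_algebraMap.2 inferInstance)
  haveI hUc : ConnectedSpace U.left := by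
    have hsurj : Function.Surjective r.left.base := fun x =>
      ⟨u.left.base x, by rw [← Scheme.Hom.comp_apply, ← Over.comp_left, hur]; rfl⟩
    exact hsurj.connectedSpace r.left.continuous
  exact ⟨D, inferInstance, U, inferInstance, p, s, u, r, inferInstance, inferInstance, inferInstance, hsp,
    isTorus_specGrp hC, inferInstance, GrpSchField.smooth_of_perfectField_of_isReduced D,
    inferInstance, hucl, hup, hur, hru,
    ⟨A ⧸ J, inferInstance, inferInstance, inferInstance, hU, ⟨Iso.refl _⟩⟩,
    GrpSchField.smooth_of_perfectField_of_isReduced U, hUc⟩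

/-- A solvable connected group without subtori is unipotent. -/
theorem isUnip_of_solvable_noSubtorus (hs : IsSolvable (𝟙_ (Over (Spec (CommRingCat.of k))) ⟶ B)) (hn : Red.HasNoSubtorus k B) :
    IsUnip k B := by
  obtain ⟨D, _, U, _, p, s, u, r, hp, hs', hu, hsp, hDt, -, -, -, hucl, hup, hur, hru, hUu, -, -⟩ :=
    hasSplit_of_solvable hs
  haveI := hp; haveI := hs'; haveI := hu
  haveI : IsSplitMono s := IsSplitMono.mk' ⟨p, hsp⟩
  haveI : IsIso D.hom := hn D s hDt
  have hid : 𝟙 D = 1 := Over.OverMorphism.ext ((cancel_mono D.hom).1 ((Over.w (𝟙 D)).trans (Over.w (1 : D ⟶ D)).symm))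
  have hp1 : p = 1 := by rw [← Category.comp_id p, hid, MonObj.comp_one]
  rw [hp1, MonObj.one_comp, inv_one, _root_.mul_one] at hru
  haveI : IsIso u := ⟨r, hur, hru⟩
  exact hUu.of_iso u

end GrothLib.Flag27
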