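import Groth.Agent.Lib.Flag27.Preimage
import Groth.Agent.Lib.DiagGrp.TrivOver
import Mathlib.AlgebraicGeometry.Morphisms.SchemeTheoreticallyDominant
import Mathlib.AlgebraicGeometry.Morphisms.LocalFlatDescent
import Mathlib.AlgebraicGeometry.Group.Smooth
import Groth.Agent.Lib.UnitProd.Split

/-!
# Base change of subgroups to a field extension
-/

set_option autoImplicit false
set_option backward.isDefEq.respectTransparency false

universe u

open CategoryTheory CategoryTheory.Limits MonoidalCategory CartesianMonoidalCategory MonObj GrpObj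
open AlgebraicGeometry TopologicalSpace

namespace GrothLib.Flag27

section BC

variable {S S' : Scheme.{u}} (f : S' ⟶ S)

theorem isPullback_map {A B : Over S} (i : A ⟶ B) :
    IsPullback (pullback.fst A.hom f) ((Over.pullback f).map i).left i.left (pullback.fst B.hom f) := by
  have h1 : ((Over.pullback f).map i).left ≫ pullback.fst B.hom f = pullback.fst A.hom f ≫ i.left :=
    pullback.lift_fst _ _ _
  have h2 : ((Over.pullback f).map i).left ≫ pullback.snd B.hom f = pullback.snd A.hom f :=
    pullback.lift_snd _ _ _
  refine IsPullback.of_bot ?_ h1.symm (IsPullback.of_hasPullback B.hom f)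
  rw [h2, Over.w i]
  exact IsPullback.of_hasPullback A.hom f

theorem property_map {P : MorphismProperty Scheme.{u}} [P.IsStableUnderBaseChange] {A B : Over S} (i : A ⟶ B)
    (h : P i.left) : P ((Over.pullback f).map i).left :=
  P.of_isPullback (isPullback_map f i) h

instance isClosedImmersion_map {A B : Over S} (i : A ⟶ B) [IsClosedImmersion i.left] :
    IsClosedImmersion ((Over.pullback f).map i).left := property_map f i ‹_›

instance surjective_map {A B : Over S} (i : A ⟶ B) [Surjective i.left] :
    Surjective ((Over.pullback f).map i).left := property_map f i ‹_›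

theorem smooth_bc (X : Over S) [Smooth X.hom] : Smooth (Red.bc f X).hom :=
  MorphismProperty.pullback_snd X.hom f ‹_›

theorem isAffine_bc (X : Over S) [IsAffine X.left] [IsAffine S] [IsAffine S'] : IsAffine (Red.bc f X).left := by
  show IsAffine (pullback X.hom f)
  infer_instance

theorem isReduced_bc_of_surjective [Flat f] {A B : Over S} (p : A ⟶ B) [Surjective p.left] [IsReduced B.left]
    [QuasiCompact p.left] [IsReduced (Red.bc f A).left] : IsReduced (Red.bc f B).left := by
  haveI : IsSchemeTheoreticallyDominant p.left := IsSchemeTheoreticallyDominant.of_isDominant p.left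
  haveI : Flat (pullback.fst B.hom f) := MorphismProperty.pullback_fst B.hom f ‹_›
  haveI : IsSchemeTheoreticallyDominant ((Over.pullback f).map p).left :=
    IsSchemeTheoreticallyDominant.of_isPullback (isPullback_map f p)
  haveI : QuasiCompact ((Over.pullback f).map p).left := property_map (P := @QuasiCompact) f p ‹_›
  exact IsSchemeTheoreticallyDominant.isReduced ((Over.pullback f).map p).left

theorem smooth_of_smooth_bc [Surjective f] [Flat f] [QuasiCompact f] (X : Over S) (h : Smooth (Red.bc f X).hom) :
    Smooth X.hom :=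
  MorphismProperty.of_pullback_snd_of_descendsAlong (P := @Smooth)
    (Q := @Surjective ⊓ @Flat ⊓ @QuasiCompact) (f := X.hom) (g := f) ⟨⟨‹_›, ‹_›⟩, ‹_›⟩ h

end BC

section Fld

variable {k : Type u} [Field k]

theorem flat_to_field {Z : Scheme.{u}} (a : Z ⟶ Spec (CommRingCat.of k)) : Flat a :=
  GrothLib.DiagGrp.flat_of_field a

theorem surjective_to_field {Z : Scheme.{u}} [Nonempty Z] (a : Z ⟶ Spec (CommRingCat.of k)) : Surjective a :=
  ⟨fun y => ⟨Classical.arbitrary Z, Subsingleton.elim (α := PrimeSpectrum k) _ _⟩⟩

theorem connectedSpace_bc {K : Type u} [Field K] (f : Spec (CommRingCat.of K) ⟶ Spec (CommRingCat.of k))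
    (G : Over (Spec (CommRingCat.of k))) [GrpObj G] [ConnectedSpace G.left] : ConnectedSpace (Red.bc f G).left := by
  haveI : ConnectedSpace ↥(Spec (CommRingCat.of K)) := by
    haveI : IrreducibleSpace ↥(Spec (CommRingCat.of K)) := inferInstanceAs (IrreducibleSpace (PrimeSpectrum K))
    infer_instance
  exact GrothLib.Neutral.connectedSpace_pullback G.hom f (η[G]).left (Over.w η[G])

variable [IsAlgClosed k]

/-- Borel subgroups transfer along isomorphisms. -/
theorem isBorelOver_of_iso {G B B₂ : Over (Spec (CommRingCat.of k))} [GrpObj G] [GrpObj B] [GrpObj B₂]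
    {i : B ⟶ G} (hB : Red.IsBorelOver k i) (i₂ : B₂ ⟶ G) [IsMonHom i₂] [IsClosedImmersion i₂.left]
    (e : B ≅ B₂) (he : e.hom ≫ i₂ = i) [IsSeparated G.hom] : Red.IsBorelOver k i₂ := by
  obtain ⟨hi, hic, hBsm, hBc, hBs, -⟩ := id hB
  haveI := hi; haveI := hic; haveI := hBsm; haveI := hBc
  haveI : IsIso e.hom.left := inferInstanceAs (IsIso ((Over.forget _).map e.hom))
  haveI : IsIso e.inv.left := inferInstanceAs (IsIso ((Over.forget _).map e.inv))
  haveI : Smooth B₂.hom := by rw [← Over.w e.inv]; infer_instance
  haveI : ConnectedSpace B₂.left := e.hom.left.surjective.connectedSpace e.hom.left.continuous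
  haveI : IsSeparated B₂.hom := by rw [← Over.w i₂]; infer_instance
  haveI : Mono i₂ := Over.mono_of_mono_left i₂
  haveI : IsMonHom (e.hom ≫ i₂) := by rwa [he]
  haveI : IsMonHom e.hom := isMonHom_of_comp e.hom i₂
  exact isBorelOver_conjBy hB (isSolvableGrp_of_points (isSolvable_of_surjective e.hom (isSolvable_points hBs))) e 1
    (by rw [he, conjBy_one])

/-- Reduced groups are smooth. -/
theorem smooth_of_reduced_grp (G : Over (Spec (CommRingCat.of k))) [GrpObj G] [LocallyOfFiniteType G.hom]
    [IsReduced G.left] : Smooth G.hom := by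
  haveI := GrothLib.UnitProd.geometricallyReduced_of_isReduced G.hom
  letI : GrpObj (Over.mk G.hom) := (inferInstance : GrpObj G)
  exact AlgebraicGeometry.smooth_of_grpObj G.hom

end Fld

end GrothLib.Flag27
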