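import Groth.Prelude.Def_Par
import Groth.Agent.Lib.DiagGrp.FreeGraph
import Mathlib

/-!
# Geometric fibres over an algebraically closed field
-/

set_option autoImplicit false
set_option linter.all false
set_option backward.isDefEq.respectTransparency false

universe u

open CategoryTheory CategoryTheory.Limits MonoidalCategory CartesianMonoidalCategory MonObj GrpObj AlgebraicGeometry

namespace GrothLib.Flag27

open GrothLib.DiagGrp

/-- Base change along the identity. -/
noncomputable def bcIdGrp {S : Scheme.{u}} (X : Over S) [GrpObj X] : Grp.mk (Red.bc (𝟙 S) X) ≅ Grp.mk X :=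
  (Functor.mapGrpNatIso (Over.pullbackId (X := S))).app (Grp.mk X) ≪≫ Functor.mapGrpIdIso.app (Grp.mk X)

/-- Going back along an isomorphism of bases. -/
noncomputable def bcBackGrp {S S' : Scheme.{u}} (q : S' ⟶ S) [IsIso q] (X : Over S) [GrpObj X] :
    Grp.mk (Red.bc (inv q) (Red.bc q X)) ≅ Grp.mk X :=
  (bcGrpComp X q (inv q) (𝟙 S) (IsIso.inv_hom_id q).symm).symm ≪≫ bcIdGrp X

/-- Tori are stable under isomorphisms of groups. -/
theorem isTorus_of_grpIso {S : Scheme.{u}} {T T' : Over S} [GrpObj T] [GrpObj T'] (e : Grp.mk T ≅ Grp.mk T')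
    (h : Red.IsTorus T) : Red.IsTorus T' := by
  obtain ⟨S'', f, hfl, hfs, hcov, hloc⟩ := h
  refine ⟨S'', f, hfl, hfs, hcov, fun s => ?_⟩
  obtain ⟨U, hU, r, ⟨eU⟩⟩ := hloc s
  exact ⟨U, hU, r, ⟨((Over.pullback (U.ι ≫ f)).mapGrp.mapIso e).symm ≪≫ eU⟩⟩

/-- Tori are stable under isomorphisms of bases. -/
theorem isTorus_bc_of_isIso {S S' : Scheme.{u}} (q : S' ⟶ S) [IsIso q] {T : Over S} [GrpObj T]
    (h : Red.IsTorus T) : Red.IsTorus (Red.bc q T) := by
  obtain ⟨S'', f, hfl, hfs, hcov, hloc⟩ := h
  haveI := hfl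
  haveI := hfs
  refine ⟨S'', f ≫ inv q, inferInstance, inferInstance, fun V hV => ?_, fun s => ?_⟩
  · obtain ⟨W, hWc, hW⟩ := hcov ((inv q) ⁻¹ᵁ V) (hV.preimage (inv q))
    refine ⟨W, hWc, ?_⟩
    rw [Scheme.Hom.comp_base, TopCat.coe_comp, Set.image_comp, hW]
    exact Set.image_preimage_eq _ (inv q).surjective
  · obtain ⟨U, hU, r, ⟨eU⟩⟩ := hloc s
    exact ⟨U, hU, r, ⟨(bcGrpComp T q (U.ι ≫ f ≫ inv q) (U.ι ≫ f) (by simp)).symm ≪≫ eU⟩⟩

variable {k : Type u} [Field k]

/-- The geometric points of the spectrum of an algebraically closed field are isomorphisms. -/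
theorem isIso_geomPt [IsAlgClosed k] (s : Spec (CommRingCat.of k)) : IsIso (Red.geomPt s) := by
  let S := Spec (CommRingCat.of k)
  haveI : Subsingleton ↥S := inferInstanceAs (Subsingleton (PrimeSpectrum k))
  have hr : Set.range (S.fromSpecResidueField s).base = Set.univ :=
    Set.eq_univ_of_forall fun x => ⟨IsLocalRing.closedPoint _, Subsingleton.elim _ _⟩
  haveI : Surjective (S.fromSpecResidueField s) := ⟨Set.range_eq_univ.1 hr⟩
  haveI : IsClosedImmersion (S.fromSpecResidueField s) :=
    IsClosedImmersion.of_isPreimmersion _ (hr ▸ isClosed_univ)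
  haveI := isIso_of_isClosedImmersion_of_surjective (S.fromSpecResidueField s)
  haveI : IsIso (Spec.preimage (S.fromSpecResidueField s)) :=
    ⟨Spec.preimage (inv (S.fromSpecResidueField s)), Spec.map_injective (by simp), Spec.map_injective (by simp)⟩
  let φ : k ≃+* S.residueField s :=
    (asIso (Spec.preimage (S.fromSpecResidueField s))).commRingCatIsoToRingEquiv
  haveI : IsAlgClosed (S.residueField s) := IsAlgClosed.of_ringEquiv k _ φ
  haveI : IsIso (CommRingCat.ofHom (algebraMap (S.residueField s) (AlgebraicClosure (S.residueField s)))) :=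
    (ConcreteCategory.isIso_iff_bijective _).2 IsAlgClosed.algebraMap_bijective_of_isIntegral
  show IsIso (Spec.map _ ≫ S.fromSpecResidueField s)
  infer_instance

/-- The absence of subtori transports along isomorphisms of bases. -/
theorem hasNoSubtorus_bc {K : Type u} [Field K] (q : Spec (CommRingCat.of K) ⟶ Spec (CommRingCat.of k)) [IsIso q]
    {U : Over (Spec (CommRingCat.of k))} [GrpObj U] (h : Red.HasNoSubtorus k U) :
    Red.HasNoSubtorus K (Red.bc q U) := by
  intro T _ j _ _ hT
  let e := bcBackGrp q U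
  let j' : Red.bc (inv q) T ⟶ U := (Over.pullback (inv q)).map j ≫ e.hom.hom.hom
  haveI : IsMonHom e.hom.hom.hom := e.hom.hom.isMonHom_hom
  haveI : Mono e.hom.hom.hom := inferInstanceAs (Mono ((Grp.forget _).mapIso e).hom)
  haveI : Mono ((Over.pullback (inv q)).map j) := inferInstance
  haveI : IsMonHom j' := inferInstance
  haveI : IsIso (Red.bc (inv q) T).hom := h (Red.bc (inv q) T) j' (isTorus_bc_of_isIso (inv q) hT)
  show IsIso T.hom
  have hsq : pullback.fst T.hom (inv q) ≫ T.hom = pullback.snd T.hom (inv q) ≫ inv q := pullback.condition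
  haveI : IsIso (pullback.snd T.hom (inv q)) := ‹IsIso (Red.bc (inv q) T).hom›
  haveI : IsIso (pullback.fst T.hom (inv q) ≫ T.hom) := by rw [hsq]; infer_instance
  exact IsIso.of_isIso_comp_left (pullback.fst T.hom (inv q)) T.hom

/-- The absence of subtori descends along isomorphisms of bases. -/
theorem hasNoSubtorus_of_bc {K : Type u} [Field K] (q : Spec (CommRingCat.of K) ⟶ Spec (CommRingCat.of k)) [IsIso q]
    {U : Over (Spec (CommRingCat.of k))} [GrpObj U] (h : Red.HasNoSubtorus K (Red.bc q U)) :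
    Red.HasNoSubtorus k U := by
  intro T _ j _ _ hT
  haveI : IsIso (Red.bc q T).hom := h (Red.bc q T) ((Over.pullback q).map j) (isTorus_bc_of_isIso q hT)
  show IsIso T.hom
  have hsq : pullback.fst T.hom q ≫ T.hom = pullback.snd T.hom q ≫ q := pullback.condition
  haveI : IsIso (pullback.snd T.hom q) := ‹IsIso (Red.bc q T).hom›
  haveI : IsIso (pullback.fst T.hom q ≫ T.hom) := by rw [hsq]; infer_instance
  exact IsIso.of_isIso_comp_left (pullback.fst T.hom q) T.hom

/-- Connectedness transports along isomorphisms of bases. -/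
theorem connectedSpace_bc_iff {K : Type u} [Field K] (q : Spec (CommRingCat.of K) ⟶ Spec (CommRingCat.of k)) [IsIso q]
    (U : Over (Spec (CommRingCat.of k))) : ConnectedSpace (Red.bc q U).left ↔ ConnectedSpace U.left := by
  let e : (Red.bc q U).left ≅ U.left := asIso (pullback.fst U.hom q)
  exact ⟨fun _ => e.hom.surjective.connectedSpace e.hom.continuous,
    fun _ => e.inv.surjective.connectedSpace e.inv.continuous⟩

end GrothLib.Flag27
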