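import Groth.Agent.Lib.Flag27.More
import Groth.Agent.Lib.ConnDim.Basic
import Groth.Agent.Lib.HopfAG.PointAct
import Groth.Agent.S3270

/-!
# Groups with commutative Borel subgroups, small groups, preimages
-/

set_option autoImplicit false
set_option backward.isDefEq.respectTransparency false

universe u

open CategoryTheory CategoryTheory.Limits MonoidalCategory CartesianMonoidalCategory MonObj GrpObj
open AlgebraicGeometry TopologicalSpace
open scoped WithConv

namespace GrothLib.Flag27

open GrothLib.Induce27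

theorem withBot_le_of_lt_succ {x : WithBot ℕ∞} (n : ℕ) (h : x < ((n + 1 : ℕ) : WithBot ℕ∞)) :
    x ≤ (n : WithBot ℕ∞) := by
  induction x with
  | bot => exact bot_le
  | coe a =>
    rw [← WithBot.coe_natCast, WithBot.coe_le_coe]
    rw [← WithBot.coe_natCast, WithBot.coe_lt_coe, Nat.cast_add, Nat.cast_one] at h
    exact Order.le_of_lt_add_one h

variable {k : Type u} [Field k] [IsAlgClosed k]
  {G : Over (Spec (CommRingCat.of k))} [GrpObj G] [IsAffine G.left] [Smooth G.hom] [ConnectedSpace G.left]

/-- A group with a commutative Borel subgroup is commutative on rational points. -/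
theorem comm_of_borel_comm {B : Over (Spec (CommRingCat.of k))} [GrpObj B] {i : B ⟶ G} (hB : Red.IsBorelOver k i)
    (hc : ∀ b b' : 𝟙_ (Over (Spec (CommRingCat.of k))) ⟶ B, b * b' = b' * b)
    (g h : 𝟙_ (Over (Spec (CommRingCat.of k))) ⟶ G) : g * h = h * g := by
  obtain ⟨hi, hic, hBsm, -⟩ := id hB
  haveI := hi; haveI := hic; haveI := hBsm
  haveI : IsReduced B.left := GrothLib.RedSmooth.isReduced_of_smooth B.hom
  haveI : IsReduced G.left := GrothLib.RedSmooth.isReduced_of_smooth G.hom
  have key : ∀ c : 𝟙_ (Over (Spec (CommRingCat.of k))) ⟶ G,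
      (∀ b : 𝟙_ (Over (Spec (CommRingCat.of k))) ⟶ B, c * (b ≫ i) = (b ≫ i) * c) →
      ∀ v : 𝟙_ (Over (Spec (CommRingCat.of k))) ⟶ G, c * v = v * c := by
    intro c hcb v
    haveI : IsMonHom (AGF.conjBy c (𝟙 G)) := isMonHom_conjBy c (𝟙 G)
    have e : AGF.conjBy c (𝟙 G) = 𝟙 G := by
      refine hom_eq hB _ _ (GrothLib.Rigidity.ext_of_points _ _ fun b => ?_)
      rw [Category.comp_id, ← conjBy_eq_comp, comp_conjBy, toUnit_unique (toUnit _) (𝟙 _), Category.id_comp, hcb b,
        mul_inv_cancel_right]
    have e' := congrArg (v ≫ ·) e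
    simp only [comp_conjBy, Category.comp_id] at e'
    rw [toUnit_unique (toUnit _) (𝟙 _), Category.id_comp, mul_inv_eq_iff_eq_mul] at e'
    exact e'
  refine key g (fun b => ?_) h
  refine (key (b ≫ i) (fun b' => ?_) g).symm
  rw [← MonObj.mul_comp, ← MonObj.mul_comp, hc]

/-- Rational points of small connected groups commute. -/
theorem comm_of_dim_le_one (hd : topologicalKrullDim ↥G.left ≤ 1)
    (g h : 𝟙_ (Over (Spec (CommRingCat.of k))) ⟶ G) : g * h = h * g := by
  haveI := GrothLib.Rigidity.irreducibleSpace_of_connected G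
  haveI : IsReduced G.left := GrothLib.RedSmooth.isReduced_of_smooth G.hom
  haveI : IsIntegral G.left := isIntegral_of_irreducibleSpace_of_isReduced _
  obtain ⟨A', ⟨e⟩⟩ := (essImage_hopfSpec (R := CommRingCat.of k) (G := Grp.mk G)).2 ‹_›
  obtain ⟨A, rfl⟩ : ∃ A, Opposite.op A = A' := ⟨A'.unop, rfl⟩
  let P : Over (Spec (CommRingCat.of k)) := (Spec (CommRingCat.of (A : Type u))).asOver (Spec (CommRingCat.of k))
  let f : P ≅ G := (Grp.forget _).mapIso e
  haveI : IsMonHom f.hom := e.hom.hom.isMonHom_hom
  haveI : IsIso f.hom.left := inferInstanceAs (IsIso ((Over.forget _).map f.hom))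
  haveI : Algebra.FiniteType k (A : Type u) := by
    have : LocallyOfFiniteType P.hom := by rw [← Over.w f.hom]; infer_instance
    exact RingHom.finiteType_algebraMap.1
      ((HasRingHomProperty.Spec_iff (P := @LocallyOfFiniteType)).1 this)
  haveI : Nonempty (Spec (CommRingCat.of (A : Type u))) := ⟨f.inv.left.base (Classical.arbitrary G.left)⟩
  haveI : IsIntegral (Spec (CommRingCat.of (A : Type u))) := isIntegral_of_isOpenImmersion f.hom.left
  haveI : IsDomain (A : Type u) := by
    have h1 : Function.Bijective (Scheme.ΓSpecIso (CommRingCat.of (A : Type u))).inv :=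
      ConcreteCategory.bijective_of_isIso _
    exact MulEquiv.isDomain _ (RingEquiv.ofBijective (Scheme.ΓSpecIso (CommRingCat.of (A : Type u))).inv.hom h1).toMulEquiv
  haveI : Algebra.IsGeometricallyReduced k (A : Type u) := by
    have hb := IsAlgClosed.algebraMap_bijective_of_isIntegral (k := k) (K := AlgebraicClosure k)
    let e : k ≃ₐ[k] AlgebraicClosure k := AlgEquiv.ofBijective (Algebra.ofId k (AlgebraicClosure k)) hb
    let f : TensorProduct k (AlgebraicClosure k) (A : Type u) ≃ₐ[k] (A : Type u) :=
      (Algebra.TensorProduct.congr e.symm AlgEquiv.refl).trans (Algebra.TensorProduct.lid k (A : Type u))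
    exact (Algebra.isGeometricallyReduced_field_iff k (A : Type u)).2 (isReduced_of_injective f f.injective)
  have hdim : ringKrullDim (A : Type u) ≤ 1 := by
    rw [← PrimeSpectrum.topologicalKrullDim_eq_ringKrullDim]
    refine le_of_eq_of_le ?_ hd
    exact IsHomeomorph.topologicalKrullDim_eq f.hom.left (Scheme.Hom.homeomorph f.hom.left).isHomeomorph
  have main : ∀ x y : WithConv ((A : Type u) →ₐ[k] k), x * y = y * x := by
    rcases eq_or_ne (ringKrullDim (A : Type u)) 1 with h1 | h1
    · haveI : Coalgebra.IsCocomm k (A : Type u) := Groth.Agent.S3270.result k (A : Type u)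
        (fun z hz => IsIdempotentElem.iff_eq_zero_or_one.1 hz) h1
      intro x y
      exact mul_comm x y
    · have h0 : ringKrullDim (A : Type u) ≤ 0 := by
        have hlt := lt_of_le_of_ne hdim h1
        exact withBot_le_of_lt_succ 0 (by simpa using hlt)
      haveI : Ring.KrullDimLE 0 (A : Type u) := Ring.krullDimLE_iff.2 h0
      have hf : IsField (A : Type u) := Ring.KrullDimLE.isField_of_isDomain
      letI := hf.toField
      haveI : Module.Finite k (A : Type u) := finite_of_finite_type_of_isJacobsonRing k (A : Type u)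
      have hb := (IsAlgClosed.algebraMap_bijective_of_isIntegral (k := k) (K := (A : Type u))).2
      intro x y
      have : ∀ a b : WithConv ((A : Type u) →ₐ[k] k), a = b := fun a b => WithConv.ofConv_injective <| AlgHom.ext fun z => by
        obtain ⟨c, rfl⟩ := hb z
        rw [AlgHom.commutes, AlgHom.commutes]
      exact this _ _
  haveI : Mono f.hom := inferInstance
  have hpt : ∀ v : 𝟙_ (Over (Spec (CommRingCat.of k))) ⟶ G,
      ∃ x : WithConv ((A : Type u) →ₐ[k] k), ptOne.hom ≫ v = Spec.mapMulEquiv x ≫ f.hom := fun v => by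
    obtain ⟨x, hx⟩ := Spec.mapMulEquiv.surjective (ptOne.hom ≫ v ≫ f.inv)
    exact ⟨x, by rw [hx]; simp⟩
  obtain ⟨x, hx⟩ := hpt g
  obtain ⟨y, hy⟩ := hpt h
  refine (cancel_epi ptOne.hom).1 ?_
  rw [MonObj.comp_mul, MonObj.comp_mul, hx, hy, ← MonObj.mul_comp, ← MonObj.mul_comp, ← map_mul, ← map_mul, main]

/-- Groups of dimension at most two are solvable. -/
theorem isSolvable_of_dim_le_two (hd : topologicalKrullDim ↥G.left ≤ 2) : Red.IsSolvableGrp G := by
  obtain ⟨B, _, i, hB, -⟩ := exists_borel (G := G)
  obtain ⟨hi, hic, hBsm, hBc, hBs, -⟩ := id hB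
  haveI := hi; haveI := hic; haveI := hBsm; haveI := hBc
  haveI : IsAffine B.left := isAffine_of_isAffineHom i.left
  by_cases hu : Set.range i.left.base = Set.univ
  · haveI : Surjective i.left := ⟨Set.range_eq_univ.1 hu⟩
    exact isSolvableGrp_of_points (isSolvable_of_surjective i (isSolvable_points hBs))
  haveI := GrothLib.Rigidity.irreducibleSpace_of_connected G
  haveI := GrothLib.Kleiman27.noetherianSpace G.hom
  have hB1 : topologicalKrullDim ↥B.left ≤ 1 := by
    have hlt := GrothLib.ConnDim.dim_lt (Z := Set.range i.left.base) (C := (Set.univ : Set G.left)) (Set.subset_univ _)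
      hu i.left.isClosedEmbedding.isClosed_range isClosed_univ (IrreducibleSpace.isIrreducible_univ _)
      (by rw [(Homeomorph.Set.univ G.left).isHomeomorph.topologicalKrullDim_eq]
          exact lt_of_le_of_lt hd (WithBot.coe_lt_coe.2 (ENat.natCast_lt_top 2)))
    rw [(Homeomorph.Set.univ G.left).isHomeomorph.topologicalKrullDim_eq,
      ← (i.left.isClosedEmbedding.isEmbedding.toHomeomorph).isHomeomorph.topologicalKrullDim_eq] at hlt
    exact withBot_le_of_lt_succ 1 (lt_of_lt_of_le hlt (hd.trans_eq (by norm_num)))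
  refine isSolvableGrp_of_points ?_
  exact isSolvable_of_comm (comm_of_borel_comm hB (comm_of_dim_le_one hB1))

end GrothLib.Flag27
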