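import Groth.Agent.Lib.Flag27.NoSubtorus
import Groth.Agent.Lib.Flag27.GeomPt
import Groth.Agent.Lib.RankCell14.Centralizer
import Groth.Prelude.Def_Par

/-!
# Maximal unipotent subgroups and unipotent radicals of Borel subgroups
-/

set_option autoImplicit false
set_option linter.all false
set_option backward.isDefEq.respectTransparency false

universe u

open CategoryTheory CategoryTheory.Limits MonoidalCategory CartesianMonoidalCategory MonObj GrpObj AlgebraicGeometry
open scoped TensorProduct

namespace GrothLib.Flag27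

open GrothLib.MultHopf14 GrothLib.CentMT14

section Hom

variable {k : Type u} [Field k] {U : Over (Spec (CommRingCat.of k))} [GrpObj U]

/-- Homomorphisms from unipotent groups to tori are trivial. -/
theorem IsUnip.hom_torus_eq_one (h : IsUnip k U) {D : Over (Spec (CommRingCat.of k))} [GrpObj D] [IsAffine D.left]
    [LocallyOfFiniteType D.hom] (hD : Red.IsTorus D) (χ : U ⟶ D) [IsMonHom χ] : χ = 1 := by
  obtain ⟨A, _, _, hft, hu, ⟨e⟩⟩ := h
  obtain ⟨M, _, _, ⟨eM⟩⟩ := exists_hopf D (isAffineHom_of_isAffine _)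
  haveI := finiteType_of_grpIso eM
  obtain ⟨φ, hφ⟩ := exists_specMap eM e χ
  have h1 := specMap_eq_one φ ((Groth.Agent.S2966.result (isDiagonalizable_of_isTorus eM hD) hu).2 φ)
  haveI : IsMonHom eM.hom.hom.hom := eM.hom.hom.isMonHom_hom
  have he : e.inv.hom.hom ≫ e.hom.hom.hom = 𝟙 U := congrArg (fun w => w.hom.hom) e.inv_hom_id
  rw [h1, MonObj.one_comp] at hφ
  rw [← Category.id_comp χ, ← he, Category.assoc, ← hφ, MonObj.comp_one]

end Hom

variable {k : Type u} [Field k] [IsAlgClosed k]

/-- The geometric fibre conditions, over an algebraically closed field. -/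
theorem geomFibre_conditions {U : Over (Spec (CommRingCat.of k))} [GrpObj U] :
    (∀ s : Spec (CommRingCat.of k), ConnectedSpace (Red.geomFibre s U).left ∧
      Red.HasNoSubtorus (AlgebraicClosure ((Spec (CommRingCat.of k)).residueField s)) (Red.geomFibre s U)) ↔
    ConnectedSpace U.left ∧ Red.HasNoSubtorus k U := by
  constructor
  · intro h
    let s : Spec (CommRingCat.of k) := IsLocalRing.closedPoint k
    haveI := isIso_geomPt (k := k) s
    exact ⟨(connectedSpace_bc_iff (Red.geomPt s) U).1 (h s).1, hasNoSubtorus_of_bc (Red.geomPt s) (h s).2⟩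
  · intro h s
    haveI := isIso_geomPt (k := k) s
    exact ⟨(connectedSpace_bc_iff (Red.geomPt s) U).2 h.1, hasNoSubtorus_bc (Red.geomPt s) h.2⟩

variable {G : Over (Spec (CommRingCat.of k))} [GrpObj G] [IsAffine G.left] [Smooth G.hom] [ConnectedSpace G.left]

/-- A connected subgroup without subtori is, up to conjugation, in every Borel subgroup. -/
theorem exists_conj_unip_into_borel {B : Over (Spec (CommRingCat.of k))} [GrpObj B] {iB : B ⟶ G}
    (hB : Red.IsBorelOver k iB) {U : Over (Spec (CommRingCat.of k))} [GrpObj U] (iU : U ⟶ G) [IsMonHom iU]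
    [IsClosedImmersion iU.left] [Smooth U.hom] [ConnectedSpace U.left] (hn : Red.HasNoSubtorus k U) :
    ∃ (g : 𝟙_ (Over (Spec (CommRingCat.of k))) ⟶ G) (l : U ⟶ B), l ≫ iB = AGF.conjBy g iU := by
  obtain ⟨hi, hic, hBsm, -⟩ := id hB
  haveI := hi; haveI := hic; haveI := hBsm
  haveI : IsAffine U.left := isAffine_of_isAffineHom iU.left
  obtain ⟨X, a, o, hX, hXp⟩ := isProper_quotient_good (uc_of_borel hB)
  haveI := hXp
  exact exists_conj_into a o hX iU (isUnip_of_noSubtorus hn).2

/-- A homomorphism from a connected group without subtori to a split group lands in the unipotent part. -/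
theorem exists_lift_unipPart {B D U₀ U : Over (Spec (CommRingCat.of k))} [GrpObj B] [GrpObj D] [GrpObj U₀] [GrpObj U]
    [IsAffine U.left] [Smooth U.hom] [ConnectedSpace U.left] (hn : Red.HasNoSubtorus k U)
    [IsAffine D.left] [Smooth D.hom] (hDt : Red.IsTorus D) (p : B ⟶ D) (s : D ⟶ B) (u₀ : U₀ ⟶ B) (r : B ⟶ U₀)
    [IsMonHom p] (hr : r ≫ u₀ = 𝟙 B * (p ≫ s)⁻¹) [IsMonHom s] (l : U ⟶ B) [IsMonHom l] :
    (l ≫ r) ≫ u₀ = l := by
  have hlp : l ≫ p = 1 := (isUnip_of_noSubtorus hn).1.hom_torus_eq_one hDt (l ≫ p)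
  rw [Category.assoc, hr, MonObj.comp_mul, GrpObj.comp_inv, ← Category.assoc, hlp, MonObj.one_comp, inv_one,
    Category.comp_id, _root_.mul_one]

end GrothLib.Flag27
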