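import Groth.Agent.Lib.Flag27.More
import Groth.Agent.Lib.TorusPrim24.Criterion
import Groth.Agent.Lib.CentMT14.Reductive
import Groth.Agent.Lib.Rigidity.SemiAbelian
import Groth.Agent.Lib.RankCell14.Compat
import Groth.Agent.Lib.DiagGrp.Torus
import Groth.Agent.S2966
import Groth.Agent.S7986
import Groth.Agent.Lib.Flag27.Geom

/-!
# Unipotent group schemes over a field
-/

set_option autoImplicit false
set_option linter.all false
set_option backward.isDefEq.respectTransparency false

universe u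

open CategoryTheory CategoryTheory.Limits MonoidalCategory CartesianMonoidalCategory MonObj GrpObj AlgebraicGeometry
open scoped TensorProduct

namespace GrothLib.Flag27

open GrothLib.MultHopf14 GrothLib.MultDef14 GrothLib.CentMT14

variable {k : Type u} [Field k]


/-- A group which is the group of a unipotent Hopf algebra of finite type. -/
def IsUnip (k : Type u) [Field k] (U : Over (Spec (CommRingCat.of k))) [GrpObj U] : Prop :=
  ∃ (A : Type u) (_ : CommRing A) (_ : HopfAlgebra k A), Algebra.FiniteType k A ∧ HopfRep.IsUnipotent k A ∧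
    Nonempty (Grp.mk (specGrp (R := k) A) ≅ Grp.mk U)

/-- The coordinate ring of a group of finite type is of finite type. -/
theorem finiteType_of_grpIso {A : Type u} [CommRing A] [HopfAlgebra k A] {G : Over (Spec (CommRingCat.of k))} [GrpObj G]
    [LocallyOfFiniteType G.hom] (e : Grp.mk (specGrp (R := k) A) ≅ Grp.mk G) : Algebra.FiniteType k A := by
  let i : specGrp (R := k) A ≅ G := (Grp.forget _).mapIso e
  haveI : IsIso i.hom.left := inferInstanceAs (IsIso ((Over.forget _).map i.hom))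
  have h : LocallyOfFiniteType (specGrp (R := k) A).hom := by rw [← Over.w i.hom]; infer_instance
  exact RingHom.finiteType_algebraMap.1 ((HasRingHomProperty.Spec_iff (P := @LocallyOfFiniteType)).1 h)

/-- Homomorphisms of affine groups come from maps of Hopf algebras. -/
theorem exists_specMap {A A' : Type u} [CommRing A] [HopfAlgebra k A] [CommRing A'] [HopfAlgebra k A']
    {G G' : Over (Spec (CommRingCat.of k))} [GrpObj G] [GrpObj G'] (e : Grp.mk (specGrp (R := k) A) ≅ Grp.mk G)
    (e' : Grp.mk (specGrp (R := k) A') ≅ Grp.mk G') (f : G' ⟶ G) [IsMonHom f] :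
    ∃ φ : A →ₐc[k] A', specMap φ ≫ e.hom.hom.hom = e'.hom.hom.hom ≫ f := by
  let fg : Grp.mk G' ⟶ Grp.mk G := Grp.ofHom f
  let q : (hopfSpec (CommRingCat.of k)).obj (Opposite.op (CommHopfAlgCat.of k A')) ⟶
      (hopfSpec (CommRingCat.of k)).obj (Opposite.op (CommHopfAlgCat.of k A)) := e'.hom ≫ fg ≫ e.inv
  haveI : (hopfSpec (CommRingCat.of k)).Full := hopfSpec.instFull
  obtain ⟨ψ, hψ⟩ := (hopfSpec (CommRingCat.of k)).map_surjective q
  refine ⟨ψ.unop.hom, ?_⟩
  have h1 : specMap ψ.unop.hom = e'.hom.hom.hom ≫ f ≫ e.inv.hom.hom :=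
    Over.OverMorphism.ext (congrArg (fun w => w.hom.hom.left) hψ)
  have he : e.inv.hom.hom ≫ e.hom.hom.hom = 𝟙 G := congrArg (fun w => w.hom.hom) e.inv_hom_id
  rw [h1, Category.assoc, Category.assoc, he, Category.comp_id]

/-- The trivial map of Hopf algebras gives the trivial homomorphism. -/
theorem specMap_eq_one {A B : Type u} [CommRing A] [HopfAlgebra k A] [CommRing B] [HopfAlgebra k B]
    (φ : B →ₐc[k] A) (h : ∀ b : B, φ b = algebraMap k A (Coalgebra.counit (R := k) b)) :
    specMap φ = (1 : specGrp (R := k) A ⟶ specGrp (R := k) B) := by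
  refine Over.OverMorphism.ext ?_
  rw [one_left, specMap_left]
  show _ = Spec.map (CommRingCat.ofHom (algebraMap k A)) ≫ Spec.map _
  rw [← Spec.map_comp, ← CommRingCat.ofHom_comp]
  exact congrArg (fun r => Spec.map (CommRingCat.ofHom r)) (RingHom.ext fun b => h b)

/-- A torus is split by a field extension, on functions. -/
theorem exists_split_functions {A : Type u} [CommRing A] [HopfAlgebra k A] {G : Over (Spec (CommRingCat.of k))} [GrpObj G]
    (e : Grp.mk (specGrp (R := k) A) ≅ Grp.mk G) (hG : Red.IsTorus G) :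
    ∃ (L : Type u) (_ : Field L) (_ : Algebra k L), HopfRep.IsDiagonalizable L (L ⊗[k] A) := by
  obtain ⟨L, _, _, _, r, ⟨eL⟩⟩ := Rigidity.exists_split hG
  let q := Spec.map (CommRingCat.ofHom (algebraMap k L))
  let e' : Grp.mk (Red.bc (q ≫ 𝟙 (Spec (CommRingCat.of k))) (specGrp (R := k) A)) ≅ Grp.mk (Red.DS (Spec (CommRingCat.of L)) (Fin r → ℤ)) :=
    eqToIso (by rw [Category.comp_id]; rfl) ≪≫ (Over.pullback q).mapGrp.mapIso e ≪≫ eL
  obtain ⟨g, hg⟩ := exists_frame_of_chart (q := 𝟙 (Spec (CommRingCat.of k))) e' (isUniv_specPt A) (isComul_specPt A)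
  refine ⟨L, inferInstance, inferInstance, Submodule.eq_top_iff'.2 fun a => ?_⟩
  obtain ⟨z, rfl⟩ := hg.equiv.toLinearEquiv.surjective a
  induction z using MonoidAlgebra.induction_on with
  | of m => exact Submodule.subset_span ((MonoidAlgebra.isGroupLikeElem_single_one m).map hg.equiv)
  | add p q hp hq => rw [map_add]; exact add_mem hp hq
  | smul c p hp => rw [map_smul]; exact Submodule.smul_mem _ c hp

/-- The functions of a torus are diagonalisable over an algebraic closure. -/
theorem isDiagonalizable_of_isTorus {A : Type u} [CommRing A] [HopfAlgebra k A] {G : Over (Spec (CommRingCat.of k))} [GrpObj G]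
    (e : Grp.mk (specGrp (R := k) A) ≅ Grp.mk G) (hG : Red.IsTorus G) :
    HopfRep.IsDiagonalizable (AlgebraicClosure k) (AlgebraicClosure k ⊗[k] A) := by
  obtain ⟨L, _, _, hL⟩ := exists_split_functions e hG
  haveI : Coalgebra.IsCocomm k A := NoPrim.isCocomm_of_isDiagonalizable L hL
  exact NoPrim.isDiagonalizable_of_isAlgClosed
    (NoPrim.noPrim_baseChange (AlgebraicClosure k) (TorusPrim24.noPrimElt_of_isTorus e hG))

variable {U : Over (Spec (CommRingCat.of k))} [GrpObj U]

theorem IsUnip.isAffine (h : IsUnip k U) : IsAffine U.left := by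
  obtain ⟨A, _, _, -, -, ⟨e⟩⟩ := h
  let i : specGrp (R := k) A ≅ U := (Grp.forget _).mapIso e
  haveI : IsIso i.inv.left := inferInstanceAs (IsIso ((Over.forget _).map i.inv))
  haveI : IsAffine (specGrp (R := k) A).left := inferInstanceAs (IsAffine (Spec (CommRingCat.of A)))
  exact .of_isIso i.inv.left

theorem IsUnip.of_iso (h : IsUnip k U) {U' : Over (Spec (CommRingCat.of k))} [GrpObj U'] (f : U ⟶ U') [IsMonHom f] [IsIso f] :
    IsUnip k U' := by
  obtain ⟨A, i₁, i₂, hft, hu, ⟨e⟩⟩ := h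
  exact ⟨A, i₁, i₂, hft, hu, ⟨e ≪≫ Grp.mkIso (asIso f) (IsMonHom.one_hom f) (IsMonHom.mul_hom f)⟩⟩

/-- Homomorphisms from tori to unipotent groups are trivial. -/
theorem IsUnip.torus_hom_eq_one (h : IsUnip k U) {T : Over (Spec (CommRingCat.of k))} [GrpObj T] (hT : Red.IsTorus T) (j : T ⟶ U)
    [IsMonHom j] : j = 1 := by
  obtain ⟨A, _, _, -, hu, ⟨e⟩⟩ := h
  let i : specGrp (R := k) A ≅ U := (Grp.forget _).mapIso e
  haveI : IsMonHom i.inv := e.inv.hom.isMonHom_hom
  haveI : IsMonHom i.hom := e.hom.hom.isMonHom_hom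
  suffices hj : j ≫ i.inv = 1 by
    rw [← Category.comp_id j, ← i.inv_hom_id, ← Category.assoc, hj, MonObj.one_comp]
  let f : (Spec (CommRingCat.of k)) ⟶ (Spec (CommRingCat.of k)) := 𝟙 (Spec (CommRingCat.of k))
  haveI : (Over.pullback f).Faithful := Functor.Faithful.of_iso (Over.pullbackId (X := (Spec (CommRingCat.of k)))).symm
  obtain ⟨S'', π, hflat, hsurj, hcov, hloc⟩ := DiagGrp.hasChartsFpqc_of_isTorus hT
  have hH : DiagGrp.HasChartsFpqc DiagGrp.fgM (Red.bc f T) := by
    refine ⟨S'', π, hflat, hsurj, hcov, fun P => ?_⟩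
    obtain ⟨V, hV, M, inst, hM, ⟨eM⟩⟩ := hloc P
    exact ⟨V, hV, M, inst, hM, ⟨(DiagGrp.bcGrpComp T f (V.ι ≫ π) (V.ι ≫ π) (Category.comp_id _).symm).symm ≪≫ eM⟩⟩
  have h1 := hom_eq_one A f hH hu ((Over.pullback f).map (j ≫ i.inv))
  refine (Over.pullback f).map_injective (h1.trans ?_)
  exact (Functor.map_one (Over.pullback f)).symm

/-- A unipotent group contains no non-trivial torus. -/
theorem IsUnip.hasNoSubtorus (h : IsUnip k U) : Red.HasNoSubtorus k U := by
  intro T _ j _ _ hT
  have hid : 𝟙 T = 1 := by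
    rw [← cancel_mono j, Category.id_comp, MonObj.one_comp]
    exact h.torus_hom_eq_one hT j
  refine ⟨η[T].left, ?_, Over.w η[T]⟩
  have h2 : toUnit T ≫ η[T] = 𝟙 T := by rw [hid, Hom.one_def]
  exact congrArg Over.Hom.left h2

/-- A unipotent group has no non-trivial characters. -/
theorem IsUnip.char_eq_one (h : IsUnip k U) (χ : U ⟶ Red.Gm (Spec (CommRingCat.of k))) [IsMonHom χ] : χ = 1 := by
  obtain ⟨A, _, _, hft, hu, ⟨e⟩⟩ := h
  haveI : IsAffine (Red.Gm (Spec (CommRingCat.of k))).left := by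
    haveI : IsAffine (Red.diag (ULift.{u} ℤ) ℤ).left := inferInstanceAs (IsAffine (Spec _))
    exact isAffine_bc (Limits.IsTerminal.from specULiftZIsTerminal (Spec (CommRingCat.of k))) (Red.diag (ULift.{u} ℤ) ℤ)
  haveI : Smooth (Red.Gm (Spec (CommRingCat.of k))).hom := TorusNorm25.smooth_of_isTorus (RankCell14.isTorus_Gm (Spec (CommRingCat.of k)))
  obtain ⟨M, _, _, ⟨eM⟩⟩ := exists_hopf (Red.Gm (Spec (CommRingCat.of k))) (isAffineHom_of_isAffine _)
  haveI := finiteType_of_grpIso eM
  obtain ⟨φ, hφ⟩ := exists_specMap eM e χ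
  have h1 := specMap_eq_one φ ((Groth.Agent.S2966.result
    (isDiagonalizable_of_isTorus eM (RankCell14.isTorus_Gm (Spec (CommRingCat.of k)))) hu).2 φ)
  haveI : IsMonHom eM.hom.hom.hom := eM.hom.hom.isMonHom_hom
  have he : e.inv.hom.hom ≫ e.hom.hom.hom = 𝟙 U := congrArg (fun w => w.hom.hom) e.inv_hom_id
  rw [h1, MonObj.one_comp] at hφ
  rw [← Category.id_comp χ, ← he, Category.assoc, ← hφ, MonObj.comp_one]

/-- Unipotent groups have solvable groups of rational points. -/
theorem IsUnip.isSolvable_points [IsAlgClosed k] (h : IsUnip k U) : IsSolvable (𝟙_ (Over (Spec (CommRingCat.of k))) ⟶ U) := by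
  obtain ⟨A, _, _, hft, hu, ⟨e⟩⟩ := h
  haveI := hft
  haveI : Group.IsNilpotent (WithConv (A →ₐ[k] k)) := Groth.Agent.S7986.result k A hu
  haveI : Group.IsSolvable (WithConv (A →ₐ[k] k)) := inferInstance
  refine (isSolvable_pt_iff U).1 ?_
  haveI : IsMonHom e.hom.hom.hom := e.hom.hom.isMonHom_hom
  refine solvable_of_surjective
    (f := (GrothLib.RankOne.postHom e.hom.hom.hom (VecGrp.pt k k)).comp (Spec.mapMulEquiv (R := k) (S := A) (T := k)).toMonoidHom) ?_
  intro v
  have he : e.inv.hom.hom ≫ e.hom.hom.hom = 𝟙 U := congrArg (fun w => w.hom.hom) e.inv_hom_id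
  refine ⟨Spec.mapMulEquiv.symm (v ≫ e.inv.hom.hom), ?_⟩
  show Spec.mapMulEquiv (Spec.mapMulEquiv.symm (v ≫ e.inv.hom.hom)) ≫ e.hom.hom.hom = v
  rw [MulEquiv.apply_symm_apply, Category.assoc, he, Category.comp_id]

end GrothLib.Flag27
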