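import Groth.Agent.Lib.Flag27.BorelTori
import Groth.Prelude.Def_SGA3x

/-!
# Conjugacy of Borel subgroups, their maximal tori and Cartan subgroups
-/

set_option autoImplicit false
set_option linter.all false
set_option backward.isDefEq.respectTransparency false
set_option synthInstance.maxHeartbeats 80000

universe u

open CategoryTheory CategoryTheory.Limits MonoidalCategory CartesianMonoidalCategory MonObj GrpObj AlgebraicGeometry

namespace GrothLib.Flag27

variable {k : Type u} [Field k] [IsAlgClosed k] {G : Over (Spec (CommRingCat.of k))} [GrpObj G] [Smooth G.hom]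
  [QuasiCompact G.hom]

/-- Borel subgroups lie in the identity component. -/
theorem exists_neutral_closed :
    ∃ (G₀ : Over (Spec (CommRingCat.of k))) (_ : GrpObj G₀) (j : G₀ ⟶ G) (_ : IsMonHom j) (_ : IsClosedImmersion j.left)
      (_ : Smooth G₀.hom) (_ : QuasiCompact G₀.hom) (_ : ConnectedSpace G₀.left),
      ∀ (H : Over (Spec (CommRingCat.of k))) [GrpObj H] [ConnectedSpace H.left] (f : H ⟶ G) [IsMonHom f],
        ∃ (f₀ : H ⟶ G₀) (_ : IsMonHom f₀), f₀ ≫ j = f := by
  obtain ⟨G₀, _, j, hj, hjo, hconn, hfac⟩ := GrothLib.Induce27.exists_neutral G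
  haveI := hj; haveI := hjo; haveI := hconn
  haveI : LocallyOfFiniteType G.hom := inferInstance
  haveI : IsClosedImmersion j.left := IsClosedImmersion.of_isPreimmersion j.left
    (GrothLib.GrpSchField.isClosed_range_of_isLocallyClosed j j.left.isOpenEmbedding.isOpen_range.isLocallyClosed)
  haveI : Smooth G₀.hom := by rw [← Over.w j]; infer_instance
  haveI : QuasiCompact G₀.hom := by rw [← Over.w j]; infer_instance
  exact ⟨G₀, inferInstance, j, hj, inferInstance, inferInstance, inferInstance, hconn, hfac⟩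

/-- A Borel subgroup is one of the identity component. -/
theorem exists_borel_neutral {G₀ : Over (Spec (CommRingCat.of k))} [GrpObj G₀] (j : G₀ ⟶ G) [IsMonHom j]
    [IsClosedImmersion j.left]
    (hfac : ∀ (H : Over (Spec (CommRingCat.of k))) [GrpObj H] [ConnectedSpace H.left] (f : H ⟶ G) [IsMonHom f],
      ∃ (f₀ : H ⟶ G₀) (_ : IsMonHom f₀), f₀ ≫ j = f)
    {B : Over (Spec (CommRingCat.of k))} [GrpObj B] {b : B ⟶ G} (hB : Red.IsBorelOver k b) :
    ∃ b₀ : B ⟶ G₀, Red.IsBorelOver k b₀ ∧ b₀ ≫ j = b := by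
  obtain ⟨hbm, hbc, hbs, hbconn, hbsolv, -⟩ := id hB
  haveI := hbm; haveI := hbc; haveI := hbconn
  obtain ⟨b₀, hb₀, e⟩ := hfac B b
  haveI := hb₀
  haveI : IsClosedImmersion (b₀.left ≫ j.left) := by rw [← Over.comp_left, e]; infer_instance
  haveI : IsClosedImmersion b₀.left := IsClosedImmersion.of_comp b₀.left j.left
  refine ⟨b₀, ⟨hb₀, inferInstance, hbs, hbconn, hbsolv, fun B' _ i' _ f hc hs hcn hsv hf => ?_⟩, e⟩
  haveI := hc
  exact hB.2.2.2.2.2 B' (i' ≫ j) f (inferInstanceAs (IsClosedImmersion (i'.left ≫ j.left))) hs hcn hsv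
    (by rw [reassoc_of% hf, e])

set_option maxHeartbeats 800000 in
/-- Borel subgroups of a smooth group are conjugate. -/
theorem borel_conj_smooth {B₁ B₂ : Over (Spec (CommRingCat.of k))} [GrpObj B₁] [GrpObj B₂] {b₁ : B₁ ⟶ G} {b₂ : B₂ ⟶ G}
    (h₁ : Red.IsBorelOver k b₁) (h₂ : Red.IsBorelOver k b₂) :
    ∃ g : 𝟙_ (Over (Spec (CommRingCat.of k))) ⟶ G, SGA3x.ConjBy b₁ b₂ g := by
  obtain ⟨G₀, _, j, hj, hjc, hs, hq, hconn, hfac⟩ := exists_neutral_closed (G := G)
  haveI := hj; haveI := hjc; haveI := hs; haveI := hq; haveI := hconn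
  obtain ⟨c₁, hc₁, e₁⟩ := exists_borel_neutral j hfac h₁
  obtain ⟨c₂, hc₂, e₂⟩ := exists_borel_neutral j hfac h₂
  obtain ⟨g, φ, hφ⟩ := borel_conj_general hc₁ hc₂
  refine ⟨g ≫ j, φ, ?_⟩
  rw [← e₁, ← e₂, reassoc_of% hφ]
  simp only [AGF.conjBy, MonObj.mul_comp, GrpObj.inv_comp, Category.assoc]

set_option maxHeartbeats 800000 in
/-- Maximal tori of Borel subgroups are maximal tori. -/
theorem isMaximalTorus_comp_borel {B T : Over (Spec (CommRingCat.of k))} [GrpObj B] [GrpObj T] {b : B ⟶ G}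
    (hB : Red.IsBorelOver k b) {t : T ⟶ B} (hT : Red.IsMaximalTorus t) : Red.IsMaximalTorus (t ≫ b) := by
  haveI : LocallyOfFiniteType G.hom := inferInstance
  obtain ⟨G₀, _, j, hj, hjc, hs, hq, hconn, hfac⟩ := exists_neutral_closed (G := G)
  haveI := hj; haveI := hjc; haveI := hs; haveI := hq; haveI := hconn
  haveI : Mono j := Over.mono_of_mono_left j
  obtain ⟨b₀, hb₀, e⟩ := exists_borel_neutral j hfac hB
  haveI := hB.2.2.1
  haveI : LocallyOfFiniteType B.hom := inferInstance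
  obtain ⟨hm, hmono, hTt, hmax⟩ := isMaxTorus_comp_borel hb₀ (GrothLib.Chev24.isMaxTorus_of_isMaximalTorus hT)
  haveI := hm; haveI := hmono
  have h' : (t ≫ b₀) ≫ j = t ≫ b := by rw [Category.assoc, e]
  haveI : Mono ((t ≫ b₀) ≫ j) := mono_comp _ _
  refine isMaximalTorus_of_isMaxTorus ⟨h' ▸ inferInstance, h' ▸ ‹Mono ((t ≫ b₀) ≫ j)›, hTt, fun R _ r _ _ f hR hf => ?_⟩
  obtain ⟨-, -, -, hRc⟩ := GrothLib.Chev24.torus_facts' hR r
  haveI := hRc
  obtain ⟨r₀, hr₀, er⟩ := hfac R r
  haveI := hr₀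
  haveI : Mono (r₀ ≫ j) := by rw [er]; infer_instance
  haveI : Mono r₀ := mono_of_mono r₀ j
  exact hmax R r₀ f hR (by rw [← cancel_mono j, Category.assoc, er, hf, h'])

set_option maxHeartbeats 800000 in
/-- Cartan subgroups of Borel subgroups are Cartan subgroups. -/
theorem isCartanOver_comp_borel [ConnectedSpace G.left] {B C : Over (Spec (CommRingCat.of k))} [GrpObj B] [GrpObj C]
    {b : B ⟶ G} (hB : Red.IsBorelOver k b) {c : C ⟶ B} (hC : SGA3x.IsCartanOver k c) :
    SGA3x.IsCartanOver k (c ≫ b) := by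
  obtain ⟨hcm, hcmono, T, _, t, hT, hcen⟩ := hC
  haveI := hcm; haveI := hcmono
  obtain ⟨hbm, hbc, hbs, -⟩ := id hB
  haveI := hbm; haveI := hbc; haveI := hbs
  haveI : Mono b := Over.mono_of_mono_left b
  haveI : LocallyOfFiniteType G.hom := inferInstance
  haveI : IsSeparated G.hom := GrothLib.GrpSchField.isSeparated G
  haveI : LocallyOfFiniteType B.hom := inferInstance
  have hTB := GrothLib.Chev24.isMaxTorus_of_isMaximalTorus hT
  have hTG := isMaximalTorus_comp_borel hB hT
  obtain ⟨htm, htmono, hTt, -⟩ := id hTG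
  haveI := htm; haveI := htmono
  obtain ⟨_, hTa, hTs, hTc⟩ := GrothLib.Chev24.torus_facts' hTt (t ≫ b)
  haveI := hTs; haveI := hTc
  haveI : GeometricallyConnected T.hom := DescentHom.geometricallyConnected_of_geomPt T.hom fun s' => by
    haveI := isIso_geomPt s'
    exact connectedSpace_bc (Red.geomPt s') T
  haveI : GeometricallyIrreducible T.hom := SecLocus.geometricallyIrreducible_of_smooth T.hom
  obtain ⟨Z, _, z, hz, hzc, -⟩ := GrothLib.SecLocus.exists_centralizer (t ≫ b)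
  haveI := hzc
  obtain ⟨φ, hφ⟩ := exists_factor_centralizer_borel hB hTB hz
  refine ⟨inferInstance, inferInstance, T, inferInstance, t ≫ b, hTG, inferInstance, inferInstance, fun X g => ?_⟩
  constructor
  · rintro ⟨v, rfl⟩ X' x h
    have e := (hcen.2.2 X (v ≫ c)).1 ⟨v, rfl⟩ X' x h
    have := congrArg (· ≫ b) e
    simpa only [MonObj.mul_comp, Category.assoc] using this
  · intro hg
    obtain ⟨v, hv⟩ := (hz.2.2 X g).2 hg
    obtain ⟨w, hw⟩ := (hcen.2.2 X (v ≫ φ)).2 fun X' x h => by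
      rw [← cancel_mono b]
      simp only [MonObj.mul_comp, Category.assoc, hφ, hv]
      simpa only [Category.assoc] using hg X' x h
    exact ⟨w, by rw [reassoc_of% hw, hφ, hv]⟩

end GrothLib.Flag27
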