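import Groth.Agent.Lib.Flag27.GeomPt
import Groth.Prelude.Def_AGF

/-!
# Maximal tori over an algebraically closed field and geometric points
-/

set_option autoImplicit false
set_option linter.all false
set_option backward.isDefEq.respectTransparency false
set_option synthInstance.maxHeartbeats 80000

universe u

open CategoryTheory CategoryTheory.Limits MonoidalCategory CartesianMonoidalCategory MonObj GrpObj AlgebraicGeometry

namespace GrothLib.Flag27

/-- Base change along equal maps. -/
noncomputable def pullbackEq {S S' : Scheme.{u}} {f g : S' ⟶ S} (h : f = g) : Over.pullback f ≅ Over.pullback g := by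
  subst h; exact Iso.refl _

/-- Base change along an isomorphism and back. -/
noncomputable def bcBackIso {S S' : Scheme.{u}} (q : S' ⟶ S) [IsIso q] :
    (Over.pullback q).mapGrp ⋙ (Over.pullback (inv q)).mapGrp ≅ 𝟭 (Grp (Over S)) :=
  Functor.mapGrpCompIso.symm ≪≫
    Functor.mapGrpNatIso ((Over.pullbackComp (inv q) q).symm ≪≫
      pullbackEq (IsIso.inv_hom_id q) ≪≫ Over.pullbackId) ≪≫ Functor.mapGrpIdIso

variable {k : Type u} [Field k] [IsAlgClosed k]

set_option maxHeartbeats 800000 in
/-- Over an algebraically closed field a torus maximal among tori is a maximal torus. -/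
theorem isMaximalTorus_of_isMaxTorus {G T : Over (Spec (CommRingCat.of k))} [GrpObj G] [GrpObj T] {i : T ⟶ G}
    (h : AGF.IsMaxTorus i) : Red.IsMaximalTorus i := by
  obtain ⟨hm, hmono, hT, -⟩ := id h
  haveI := hm; haveI := hmono
  refine ⟨hm, hmono, hT, fun s T' _ j _ _ f hT' hf => ?_⟩
  haveI := isIso_geomPt s
  let q := Red.geomPt s
  let R := Red.bc (inv q) T'
  let eG := (bcBackIso q).app (Grp.mk G)
  let eT := (bcBackIso q).app (Grp.mk T)
  have hnat : (Over.pullback (inv q)).map ((Over.pullback q).map i) ≫ eG.hom.hom.hom = eT.hom.hom.hom ≫ i :=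
    congrArg (fun m : Grp.mk (Red.bc (inv q) (Red.bc q T)) ⟶ Grp.mk G => m.hom.hom)
      ((bcBackIso q).hom.naturality (Grp.homMk i : Grp.mk T ⟶ Grp.mk G))
  haveI : IsMonHom eG.hom.hom.hom := eG.hom.hom.isMonHom_hom
  haveI : Mono eG.hom.hom.hom := inferInstanceAs (Mono ((Grp.forget _).mapIso eG).hom)
  haveI : (Over.pullback (inv q)).IsRightAdjoint := (Over.mapPullbackAdj _).isRightAdjoint
  let j' : R ⟶ G := (Over.pullback (inv q)).map j ≫ eG.hom.hom.hom
  haveI : Mono j' := inferInstance
  haveI : IsMonHom j' := inferInstance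
  let f' : T ⟶ R := eT.inv.hom.hom ≫ (Over.pullback (inv q)).map f
  have hf' : f' ≫ j' = i := by
    show (eT.inv.hom.hom ≫ (Over.pullback (inv q)).map f) ≫ (Over.pullback (inv q)).map j ≫ eG.hom.hom.hom = i
    rw [Category.assoc, ← Functor.map_comp_assoc, hf, hnat, ← Category.assoc]
    have : eT.inv.hom.hom ≫ eT.hom.hom.hom = 𝟙 _ := congrArg (fun m => m.hom.hom) eT.inv_hom_id
    rw [this, Category.id_comp]
  haveI : IsIso f' := h.2.2.2 R j' f' (isTorus_bc_of_isIso (inv q) hT') hf'
  haveI : IsIso eT.inv.hom.hom := inferInstanceAs (IsIso ((Grp.forget _).mapIso eT).inv)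
  haveI : IsIso ((Over.pullback (inv q)).map f) := IsIso.of_isIso_comp_left eT.inv.hom.hom _
  haveI : (Over.pullback (inv q)).Faithful := by
    let e : 𝟭 _ ≅ Over.pullback (inv q) ⋙ Over.pullback q :=
      Over.pullbackId.symm ≪≫ pullbackEq (IsIso.hom_inv_id q).symm ≪≫ Over.pullbackComp q (inv q)
    haveI : (Over.pullback (inv q) ⋙ Over.pullback q).Faithful := Functor.Faithful.of_iso e
    exact Functor.Faithful.of_comp _ (Over.pullback q)
  let e : 𝟭 _ ≅ Over.pullback (inv q) ⋙ Over.pullback q :=
    Over.pullbackId.symm ≪≫ pullbackEq (IsIso.hom_inv_id q).symm ≪≫ Over.pullbackComp q (inv q)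
  exact (NatIso.isIso_map_iff e f).2 (inferInstanceAs (IsIso ((Over.pullback q).map ((Over.pullback (inv q)).map f))))

end GrothLib.Flag27
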