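import Groth.Agent.Lib.Flag27.MaxTori
import Groth.Prelude.Def_Red2

/-!
# Borel pairs and centralisers of maximal tori
-/

set_option autoImplicit false
set_option linter.all false
set_option backward.isDefEq.respectTransparency false

universe u

open CategoryTheory MonoidalCategory CartesianMonoidalCategory MonObj GrpObj AlgebraicGeometry

namespace GrothLib.Flag27

variable {k : Type u} [Field k] [IsAlgClosed k] {G : Over (Spec (CommRingCat.of k))} [GrpObj G] [IsAffine G.left]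
  [Smooth G.hom] [ConnectedSpace G.left]

/-- A maximal torus contained in a Borel subgroup maps isomorphically to the torus quotient and is conjugate
there to the section. -/
theorem exists_iso_section_in_borel {B D U : Over (Spec (CommRingCat.of k))} [GrpObj B] [GrpObj D] [GrpObj U]
    {iB : B ⟶ G} (hB : Red.IsBorelOver k iB) (p : B ⟶ D) (s : D ⟶ B) (u : U ⟶ B) (r : B ⟶ U)
    [IsMonHom p] [IsMonHom s] [IsMonHom u] [IsClosedImmersion u.left] [Smooth U.hom]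
    (hsp : s ≫ p = 𝟙 D) (hup : u ≫ p = 1) (hru : r ≫ u = 𝟙 B * (p ≫ s)⁻¹) (hU : IsUnip k U) (hD : Red.IsTorus D)
    {T : Over (Spec (CommRingCat.of k))} [GrpObj T] (iT : T ⟶ G) (hT : AGF.IsMaxTorus iT)
    (t : T ⟶ B) (ht : t ≫ iB = iT) :
    IsIso (t ≫ p) ∧ ∃ h : 𝟙_ (Over (Spec (CommRingCat.of k))) ⟶ B, AGF.conjBy h t = t ≫ p ≫ s := by
  obtain ⟨hm, hmono, hTt, hmax⟩ := hT
  haveI := hm; haveI := hmono
  obtain ⟨hi, hic, hBsm, -⟩ := id hB
  haveI := hi; haveI := hic; haveI := hBsm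
  haveI : Mono iB := Over.mono_of_mono_left iB
  haveI : IsAffine B.left := isAffine_of_isAffineHom iB.left
  haveI : IsAffine U.left := isAffine_of_isAffineHom u.left
  haveI : Mono u := Over.mono_of_mono_left u
  obtain ⟨hTc, hTa, hTs, -⟩ := torus_facts hTt iT
  haveI := hTa; haveI := hTs
  haveI : IsMonHom (t ≫ iB) := by rw [ht]; exact hm
  haveI : IsMonHom t := GrothLib.CentMT14.isMonHom_of_comp t iB
  obtain ⟨h, hh⟩ := exists_conj_section hU p s u r hsp hup hru hTt t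
  refine ⟨?_, h, hh⟩
  haveI : IsSplitMono s := IsSplitMono.mk' ⟨p, hsp⟩
  haveI : Mono (s ≫ iB) := inferInstance
  haveI : IsClosedImmersion (s ≫ iB).left := (torus_facts hD (s ≫ iB)).1
  haveI : IsMonHom (AGF.conjBy (h ≫ iB)⁻¹ (s ≫ iB)) := isMonHom_conjBy _ (s ≫ iB)
  haveI : IsClosedImmersion (AGF.conjBy (h ≫ iB)⁻¹ (s ≫ iB)).left := isClosedImmersion_conjBy _ (s ≫ iB)
  haveI : Mono (AGF.conjBy (h ≫ iB)⁻¹ (s ≫ iB)) := Over.mono_of_mono_left _
  refine hmax D (AGF.conjBy (h ≫ iB)⁻¹ (s ≫ iB)) (t ≫ p) hD ?_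
  have e : (t ≫ p) ≫ s ≫ iB = AGF.conjBy (h ≫ iB) iT := by
    rw [← ht, show AGF.conjBy (h ≫ iB) (t ≫ iB) = AGF.conjBy h t ≫ iB by
      simp only [AGF.conjBy, MonObj.mul_comp, GrpObj.inv_comp, Category.assoc], hh]
    simp only [Category.assoc]
  rw [comp_conjBy', e, conjBy_conjBy, inv_mul_cancel, conjBy_one]

omit [IsAlgClosed k] [IsAffine G.left] [Smooth G.hom] [ConnectedSpace G.left] in
/-- Centralisers are carried along by conjugation. -/
theorem centralizer_conj {T T' C C' : Over (Spec (CommRingCat.of k))} {iT : T ⟶ G} {iT' : T' ⟶ G}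
    [GrpObj C] [GrpObj C'] {c : C ⟶ G} {c' : C' ⟶ G} (hc : Red.IsCentralizerOf iT c)
    (hc' : Red.IsCentralizerOf iT' c') (g : 𝟙_ (Over (Spec (CommRingCat.of k))) ⟶ G) (f : T ≅ T')
    (hf : f.hom ≫ iT' = AGF.conjBy g iT) : ∃ l : C ⟶ C', l ≫ c' = AGF.conjBy g c := by
  refine (hc'.2.2 C _).2 fun X x h => ?_
  have hh : h ≫ iT' = (toUnit X ≫ g) * ((h ≫ f.inv) ≫ iT) * (toUnit X ≫ g)⁻¹ := by
    rw [← comp_conjBy g iT, ← hf, Category.assoc, f.inv_hom_id_assoc]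
  have hcomm := (hc.2.2 C c).1 ⟨𝟙 C, Category.id_comp c⟩ X x (h ≫ f.inv)
  rw [hh, comp_conjBy]
  generalize toUnit X ≫ g = w₀
  calc w₀ * (x ≫ c) * w₀⁻¹ * (w₀ * ((h ≫ f.inv) ≫ iT) * w₀⁻¹)
      = w₀ * ((x ≫ c) * ((h ≫ f.inv) ≫ iT)) * w₀⁻¹ := by group
    _ = w₀ * (((h ≫ f.inv) ≫ iT) * (x ≫ c)) * w₀⁻¹ := by rw [hcomm]
    _ = w₀ * ((h ≫ f.inv) ≫ iT) * w₀⁻¹ * (w₀ * (x ≫ c) * w₀⁻¹) := by group

end GrothLib.Flag27
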