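import Groth.Agent.Lib.CharFG28.GroupLike
import Groth.Prelude.Def_HopfRep
import Mathlib

/-!
# Torsion points of tori are dense
-/

set_option autoImplicit false
set_option linter.all false

universe u

open scoped TensorProduct
open WithConv

namespace GrothLib.Flag27

variable {k : Type u} [Field k] [IsAlgClosed k] {A : Type u} [CommRing A] [HopfAlgebra k A]
  [Algebra.FiniteType k A] [IsDomain A]

omit [IsAlgClosed k] [Algebra.FiniteType k A] [IsDomain A] in
theorem conv_mul_groupLike (φ φ' : WithConv (A →ₐ[k] k)) (g : GroupLike k A) :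
    (φ * φ') (g : A) = φ (g : A) * φ' (g : A) := by
  rw [AlgHom.convMul_apply, g.2.comul_eq_tmul_self, Algebra.TensorProduct.lift_tmul]

omit [IsAlgClosed k] [Algebra.FiniteType k A] [IsDomain A] in
theorem conv_pow_groupLike (φ : WithConv (A →ₐ[k] k)) (g : GroupLike k A) (n : ℕ) :
    (φ ^ n) (g : A) = φ (g : A) ^ n := by
  induction n with
  | zero =>
    rw [pow_zero, pow_zero]
    show algebraMap k k (Coalgebra.counit (R := k) (g : A)) = 1
    rw [g.2.1, map_one]
  | succ n ih => rw [pow_succ, pow_succ, conv_mul_groupLike, ih]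

omit [IsAlgClosed k] [Algebra.FiniteType k A] [IsDomain A] in
theorem conv_ext_groupLike (hA : HopfRep.IsDiagonalizable k A) {φ φ' : WithConv (A →ₐ[k] k)}
    (h : ∀ g : GroupLike k A, φ (g : A) = φ' (g : A)) : φ = φ' := by
  refine WithConv.ext (AlgHom.ext fun a => ?_)
  have ha : a ∈ Submodule.span k {a : A | IsGroupLikeElem k a} := (show Submodule.span k _ = ⊤ from hA) ▸ trivial
  induction ha using Submodule.span_induction with
  | mem c hc => exact h ⟨c, hc⟩
  | zero => simp
  | add c d _ _ hc hd => rw [map_add, map_add, hc, hd]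
  | smul r c _ hc => rw [map_smul, map_smul, hc]

omit [IsAlgClosed k] [Algebra.FiniteType k A] [IsDomain A] in
theorem exists_point (hA : HopfRep.IsDiagonalizable k A) (θ : GroupLike k A →* k) :
    ∃ φ : WithConv (A →ₐ[k] k), ∀ g : GroupLike k A, φ (g : A) = θ g := by
  have hsurj : Function.Surjective (MonoidAlgebra.liftGroupLikeBialgHom (R := k) (A := A)) := fun a => by
    have ha : a ∈ Submodule.span k {a : A | IsGroupLikeElem k a} := (show Submodule.span k _ = ⊤ from hA) ▸ trivial
    induction ha using Submodule.span_induction with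
    | mem c hc => exact ⟨MonoidAlgebra.single ⟨c, hc⟩ 1, by simp⟩
    | zero => exact ⟨0, map_zero _⟩
    | add c d _ _ hc hd =>
      obtain ⟨c', rfl⟩ := hc
      obtain ⟨d', rfl⟩ := hd
      exact ⟨c' + d', map_add _ _ _⟩
    | smul r c _ hc =>
      obtain ⟨c', rfl⟩ := hc
      exact ⟨r • c', map_smul _ _ _⟩
  let E : MonoidAlgebra k (GroupLike k A) ≃ₐ[k] A :=
    AlgEquiv.ofBijective (MonoidAlgebra.liftGroupLikeBialgHom (R := k) (A := A) : MonoidAlgebra k (GroupLike k A) →ₐ[k] A)
      ⟨CharFG28.liftGroupLike_injective k A, hsurj⟩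
  refine ⟨toConv ((MonoidAlgebra.lift k k (GroupLike k A) θ).comp E.symm.toAlgHom), fun g => ?_⟩
  have hE : E (MonoidAlgebra.single g 1) = (g : A) := by
    show MonoidAlgebra.liftGroupLikeBialgHom (R := k) (A := A) (MonoidAlgebra.single g 1) = _
    simp
  show MonoidAlgebra.lift k k (GroupLike k A) θ (E.symm (g : A)) = θ g
  rw [← hE, AlgEquiv.symm_apply_apply, MonoidAlgebra.lift_single, one_smul]

omit [IsAlgClosed k] [IsDomain A] in
theorem finite_torsion (hA : HopfRep.IsDiagonalizable k A) {n : ℕ} (hn : 0 < n) :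
    Set.Finite {φ : WithConv (A →ₐ[k] k) | φ ^ n = 1} := by
  classical
  haveI := CharFG28.fg_groupLike k A
  haveI : Monoid.FG (GroupLike k A) := Group.fg_iff_monoid_fg.1 inferInstance
  obtain ⟨S, hS⟩ := (Monoid.fg_def.1 ‹Monoid.FG (GroupLike k A)› : _)
  let F : {φ : WithConv (A →ₐ[k] k) | φ ^ n = 1} → (S → {x : k // x ∈ (Polynomial.nthRootsFinset n (1 : k))}) :=
    fun φ g => ⟨φ.1 ((g : GroupLike k A) : A), by
      rw [Polynomial.mem_nthRootsFinset hn, ← conv_pow_groupLike, show φ.1 ^ n = 1 from φ.2]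
      show algebraMap k k (Coalgebra.counit (R := k) ((g : GroupLike k A) : A)) = 1
      rw [(g : GroupLike k A).2.1, map_one]⟩
  refine @Set.toFinite _ _ (Finite.of_injective F fun φ φ' h => Subtype.ext (conv_ext_groupLike hA fun g => ?_))
  have hg : g ∈ Submonoid.closure (S : Set (GroupLike k A)) := hS ▸ trivial
  induction hg using Submonoid.closure_induction with
  | mem x hx => exact congrArg Subtype.val (congrFun h ⟨x, hx⟩)
  | one => simp
  | mul x y _ _ hx hy => rw [GroupLike.val_mul, map_mul, map_mul, hx, hy]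

/-- The points of order dividing a power of a prime invertible in the field detect functions. -/
theorem eq_zero_of_torsion (hA : HopfRep.IsDiagonalizable k A) {ℓ : ℕ} (hℓ : 1 < ℓ) (hℓk : (ℓ : k) ≠ 0)
    (a : A) (h : ∀ (N : ℕ) (φ : WithConv (A →ₐ[k] k)), φ ^ ℓ ^ N = 1 → φ a = 0) : a = 0 := by
  classical
  haveI := CharFG28.fg_groupLike k A
  let M := GroupLike k A
  haveI : IsMulTorsionFree M := by
    refine ⟨fun m hm g g' hgg => ?_⟩
    have h1 : (g / g') ^ m = 1 := by
      rw [div_pow]; exact div_eq_one.2 hgg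
    have hint : IsIntegral k ((g / g' : M) : A) := IsIntegral.of_pow (Nat.pos_of_ne_zero hm) (by
      rw [← GroupLike.val_pow, h1, GroupLike.val_one]; exact isIntegral_one)
    haveI : Algebra.IsIntegral k (Algebra.adjoin k {((g / g' : M) : A)}) :=
      Algebra.IsIntegral.adjoin (by rintro y rfl; exact hint)
    obtain ⟨c, hc⟩ := (IsAlgClosed.algebraMap_bijective_of_isIntegral (k := k)
      (K := Algebra.adjoin k {((g / g' : M) : A)})).2 ⟨_, Algebra.subset_adjoin rfl⟩
    have hc' : algebraMap k A c = ((g / g' : M) : A) := congrArg Subtype.val hc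
    have hcc : c = 1 := by
      have := (g / g').2.1
      rw [← hc', Bialgebra.counit_algebraMap] at this
      exact this
    exact div_eq_one.1 (GroupLike.val_injective (by rw [← hc', hcc, map_one, GroupLike.val_one]))
  haveI : Module.Finite ℤ (Additive M) := Module.Finite.iff_addGroup_fg.2 inferInstance
  let b : Module.Basis (Fin (Module.finrank ℤ (Additive M))) ℤ (Additive M) := Module.finBasis ℤ _
  let co : M → Fin (Module.finrank ℤ (Additive M)) → ℤ := fun m => b.equivFun (Additive.ofMul m)
  -- write the function in characters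
  obtain ⟨s, c, hsum⟩ : ∃ (s : Finset M) (c : M → k), a = ∑ m ∈ s, c m • (m : A) := by
    have ha : a ∈ Submodule.span k (Set.range fun m : M => (m : A)) := by
      have : Set.range (fun m : M => (m : A)) = {a : A | IsGroupLikeElem k a} := by
        ext x
        exact ⟨by rintro ⟨m, rfl⟩; exact m.2, fun hx => ⟨⟨x, hx⟩, rfl⟩⟩
      rw [this, show Submodule.span k _ = ⊤ from hA]
      trivial
    obtain ⟨c, hc⟩ := Finsupp.mem_span_range_iff_exists_finsupp.1 ha
    exact ⟨c.support, c, hc.symm⟩
  obtain ⟨N, hN⟩ : ∃ N : ℕ, ∀ m ∈ s, ∀ i, 2 * (co m i).natAbs < ℓ ^ N := by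
    refine ⟨∑ m ∈ s, ∑ i, 2 * (co m i).natAbs, fun m hm i => ?_⟩
    refine lt_of_le_of_lt ?_ (Nat.lt_pow_self hℓ)
    refine le_trans ?_ (Finset.single_le_sum (f := fun m => ∑ i, 2 * (co m i).natAbs) (fun _ _ => Nat.zero_le _) hm)
    exact Finset.single_le_sum (f := fun i => 2 * (co m i).natAbs) (fun _ _ => Nat.zero_le _) (Finset.mem_univ i)
  let n := ℓ ^ N
  haveI : NeZero (n : k) := ⟨by rw [Nat.cast_pow]; exact pow_ne_zero _ hℓk⟩
  obtain ⟨ζ, hζ⟩ := HasEnoughRootsOfUnity.exists_primitiveRoot k n
  let z : kˣ := (hζ.isUnit (NeZero.ne' (n := (n : k)) |> fun h e => h (by rw [e, Nat.cast_zero]))).unit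
  have hz : (z : k) = ζ := rfl
  let P := {φ : WithConv (A →ₐ[k] k) // φ ^ n = 1}
  -- the exponentials of the coordinates
  let θ : Fin (Module.finrank ℤ (Additive M)) → M →* k := fun i =>
    { toFun := fun m => ((z ^ co m i : kˣ) : k)
      map_one' := by simp [co]
      map_mul' := fun m m' => by
        rw [show co (m * m') i = co m i + co m' i by simp [co], zpow_add, Units.val_mul] }
  have hsep : ∀ m ∈ s, ∀ m' ∈ s, (∀ φ : P, φ.1 (m : A) = φ.1 (m' : A)) → m = m' := by
    intro m hm m' hm' he
    have hco : co m = co m' := by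
      funext i
      obtain ⟨φ, hφ⟩ := exists_point hA (θ i)
      have hφn : φ ^ n = 1 := conv_ext_groupLike hA fun g => by
        rw [conv_pow_groupLike, hφ]
        show ((z ^ co g i : kˣ) : k) ^ n = algebraMap k k (Coalgebra.counit (R := k) (g : A))
        rw [g.2.1, map_one, ← Units.val_pow_eq_pow_val, ← zpow_natCast, ← zpow_mul, mul_comm, zpow_mul,
          zpow_natCast, show z ^ n = 1 from Units.ext (by rw [Units.val_pow_eq_pow_val, hz, hζ.pow_eq_one]; rfl),
          one_zpow, Units.val_one]
      have h' := he ⟨φ, hφn⟩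
      rw [hφ, hφ] at h'
      have h'' : z ^ (co m i - co m' i) = 1 := by
        rw [zpow_sub, mul_inv_eq_one]; exact Units.ext h'
      have hzz : IsPrimitiveRoot z n := IsPrimitiveRoot.coe_units_iff.1 hζ
      obtain ⟨q, hq⟩ := (hzz.zpow_eq_one_iff_dvd _).1 h''
      have h1 : 2 * (co m i).natAbs < n := hN m hm i
      have h2 : 2 * (co m' i).natAbs < n := hN m' hm' i
      rcases eq_or_ne q 0 with hq0 | hq0
      · rw [hq0, mul_zero, sub_eq_zero] at hq; exact hq
      · have h3 : (n : ℤ) ≤ |co m i - co m' i| := by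
          rw [hq, abs_mul, Nat.abs_cast]
          exact le_mul_of_one_le_right (Int.natCast_nonneg n) (Int.one_le_abs hq0)
        have h4 : (co m i - co m' i).natAbs ≤ (co m i).natAbs + (co m' i).natAbs := Int.natAbs_sub_le _ _
        rw [Int.abs_eq_natAbs] at h3
        omega
    exact Additive.ofMul.injective (b.equivFun.injective hco)
  haveI : Finite P := (finite_torsion hA (show 0 < n from Nat.pow_pos (by omega))).to_subtype
  -- the characters of the torsion points
  let Γ : Submonoid (WithConv (A →ₐ[k] k)) :=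
    { carrier := {φ | φ ^ n = 1}
      one_mem' := one_pow n
      mul_mem' := fun {φ φ'} hφ hφ' => conv_ext_groupLike hA fun g => by
        have e1 := congrArg (fun ψ : WithConv (A →ₐ[k] k) => ψ (g : A)) (show φ ^ n = 1 from hφ)
        have e2 := congrArg (fun ψ : WithConv (A →ₐ[k] k) => ψ (g : A)) (show φ' ^ n = 1 from hφ')
        simp only [conv_pow_groupLike] at e1 e2 ⊢
        rw [conv_mul_groupLike, mul_pow, e1, e2]
        show algebraMap k k (Coalgebra.counit (R := k) (g : A)) * algebraMap k k (Coalgebra.counit (R := k) (g : A)) = _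
        rw [g.2.1, map_one, mul_one]
        show 1 = algebraMap k k (Coalgebra.counit (R := k) (g : A))
        rw [g.2.1, map_one] }
  let ev : M → (Γ →* k) := fun m =>
    { toFun := fun φ => φ.1 (m : A)
      map_one' := by
        show algebraMap k k (Coalgebra.counit (R := k) (m : A)) = 1
        rw [m.2.1, map_one]
      map_mul' := fun φ φ' => conv_mul_groupLike φ.1 φ'.1 m }
  have hinj : Set.InjOn ev s := fun m hm m' hm' he =>
    hsep m hm m' hm' fun φ => DFunLike.congr_fun he ⟨φ.1, φ.2⟩
  have hli := (linearIndependent_monoidHom Γ k).comp (fun m : s => ev m.1)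
    (fun m m' he => Subtype.ext (hinj m.2 m'.2 he))
  have hrel : ∑ m : s, c m.1 • (fun φ => ev m.1 φ : Γ → k) = 0 := by
    funext φ
    rw [Finset.sum_apply, Pi.zero_apply]
    have := h N φ.1 φ.2
    rw [hsum, map_sum] at this
    rw [← this, ← Finset.sum_attach s]
    refine Finset.sum_congr rfl fun m _ => ?_
    rw [Pi.smul_apply, map_smul]
    rfl
  have hc0 := Fintype.linearIndependent_iff.1 hli (fun m => c m.1) hrel
  rw [hsum]
  exact Finset.sum_eq_zero fun m hm => by rw [show c m = 0 from hc0 ⟨m, hm⟩, zero_smul]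

end GrothLib.Flag27
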