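import Groth.Agent.Lib.Flag27.TorusCentConn
import Groth.Agent.Lib.Flag27.TorsionPts

/-!
# A torsion point of a torus with the same centralizer as the torus
-/

set_option autoImplicit false
set_option linter.all false
set_option backward.isDefEq.respectTransparency false

universe u

open CategoryTheory MonoidalCategory CartesianMonoidalCategory MonObj GrpObj AlgebraicGeometry VecGrp
open WithConv
open scoped TensorProduct

namespace GrothLib.Flag27

open GrothLib.Repr GrothLib.MultHopf14 GrothLib.CentMT14 GrothLib.DynMeth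

variable {k : Type u} [Field k] [IsAlgClosed k]

set_option maxHeartbeats 800000 in
/-- A torsion point of a split torus with the same centralizer as the torus. -/
theorem exists_regular_hopf {A K : Type u} [CommRing A] [HopfAlgebra k A] [Algebra.FiniteType k A]
    [CommRing K] [HopfAlgebra k K] [Algebra.FiniteType k K] [IsDomain K] (hK : HopfRep.IsDiagonalizable k K)
    (θ : A →ₐc[k] K) {ℓ : ℕ} (hℓ : 1 < ℓ) (hℓk : (ℓ : k) ≠ 0) :
    ∃ (N : ℕ) (φ : WithConv (K →ₐ[k] k)), φ ^ ℓ ^ N = 1 ∧
      ∀ (R : Type u) [CommRing R] [Algebra k R] (g : WithConv (A →ₐ[k] R)),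
        Commute g (pullPt θ (toConv ((Algebra.ofId k R).comp φ.ofConv))) →
        ∀ t : WithConv (K →ₐ[k] R), Commute g (pullPt θ t) := by
  classical
  let M := GroupLike k K
  have hspan : Submodule.span k (Set.range fun m : M => (m : K)) = ⊤ := by
    have : Set.range (fun m : M => (m : K)) = {a : K | IsGroupLikeElem k a} := by
      ext x
      exact ⟨by rintro ⟨m, rfl⟩; exact m.2, fun hx => ⟨⟨x, hx⟩, rfl⟩⟩
    rw [this]; exact hK
  have hind : LinearIndependent k (fun m : M => (m : K)) := by
    rw [linearIndependent_iff_ker, LinearMap.ker_eq_bot]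
    intro x y hxy
    refine congrArg MonoidAlgebra.coeff (CharFG28.liftGroupLike_injective k K
      (a₁ := MonoidAlgebra.ofCoeff x) (a₂ := MonoidAlgebra.ofCoeff y) ?_)
    have key : ∀ z : M →₀ k, MonoidAlgebra.liftGroupLikeBialgHom (R := k) (A := K) (MonoidAlgebra.ofCoeff z) =
        Finsupp.linearCombination k (fun m : M => (m : K)) z := fun z => by
      induction z using Finsupp.induction_linear with
      | zero => simp
      | add p q hp hq => rw [MonoidAlgebra.ofCoeff_add, map_add, map_add, hp, hq]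
      | single m c =>
        rw [Finsupp.linearCombination_single]
        show MonoidAlgebra.liftGroupLikeBialgHom (R := k) (A := K) (MonoidAlgebra.single m c) = _
        simp
    rw [key, key, hxy]
  let bK : Module.Basis M k K := Module.Basis.mk hind hspan.ge
  have hb : ∀ m, bK m = (m : K) := fun m => Module.Basis.mk_apply _ _ m
  let B := Algebra.TensorProduct.basis A bK
  -- the coaction by conjugation
  let iR : A →ₐ[k] A ⊗[k] K := Algebra.TensorProduct.includeLeft
  let iK : K →ₐ[k] A ⊗[k] K := Algebra.TensorProduct.includeRight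
  let c : A →ₐ[k] A ⊗[k] K := (pullPt θ (toConv iK) * toConv iR * (pullPt θ (toConv iK))⁻¹).ofConv
  obtain ⟨s, hs⟩ := (inferInstance : Algebra.FiniteType k A).out
  let F : Finset M := (s.biUnion fun a => (B.repr (c a)).support).erase 1
  have hne : ∏ m ∈ F, ((m : K) - 1) ≠ 0 := Finset.prod_ne_zero_iff.2 fun m hm h =>
    (Finset.mem_erase.1 hm).1 (GroupLike.val_injective (by rw [sub_eq_zero.1 h, GroupLike.val_one]))
  obtain ⟨N, φ, hφN, hφ⟩ : ∃ (N : ℕ) (φ : WithConv (K →ₐ[k] k)), φ ^ ℓ ^ N = 1 ∧
      φ (∏ m ∈ F, ((m : K) - 1)) ≠ 0 := by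
    by_contra h
    push Not at h
    exact hne (eq_zero_of_torsion hK hℓ hℓk _ fun N φ hφ => h N φ hφ)
  refine ⟨N, φ, hφN, fun R _ _ g hg t => ?_⟩
  let jR : R →ₐ[k] R ⊗[k] K := Algebra.TensorProduct.includeLeft
  let jK : K →ₐ[k] R ⊗[k] K := Algebra.TensorProduct.includeRight
  let Q : WithConv (K →ₐ[k] R ⊗[k] K) := toConv jK
  let S : WithConv (K →ₐ[k] R ⊗[k] K) := toConv ((Algebra.ofId k (R ⊗[k] K)).comp φ.ofConv)
  let G' : WithConv (A →ₐ[k] R ⊗[k] K) := toConv (jR.comp g.ofConv)
  have hSG : Commute G' (pullPt θ S) := by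
    have h := congrArg (fun f => toConv (jR.comp (ofConv f))) hg
    rw [DynMeth.comp_mul, DynMeth.comp_mul] at h
    have e : toConv (jR.comp (pullPt θ (toConv ((Algebra.ofId k R).comp φ.ofConv))).ofConv) = pullPt θ S := by
      refine WithConv.ext (AlgHom.ext fun a => ?_)
      show jR (algebraMap k R _) = algebraMap k (R ⊗[k] K) _
      rw [AlgHom.commutes]
--      rfl
    rw [e] at h
    exact h
  have hSQ : S * Q = Q * S := WithConv.ext (ext_groupLike hK fun m => by
    rw [conv_groupLike, conv_groupLike, _root_.mul_comm])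
  let cg : WithConv (A →ₐ[k] R ⊗[k] K) := pullPt θ Q * G' * (pullPt θ Q)⁻¹
  -- the translation
  let τ : K →ₐ[k] R ⊗[k] K := (S * Q).ofConv
  let σ : R ⊗[k] K →ₐ[k] R ⊗[k] K := Algebra.TensorProduct.lift jR τ fun _ _ => Commute.all _ _
  have hσR : σ.comp jR = jR := AlgHom.ext fun x => by simp [σ, jR]
  have hσQ : toConv (σ.comp jK) = S * Q := WithConv.ext (AlgHom.ext fun x => by simp [σ, τ, jK])
  have hσcg : toConv (σ.comp cg.ofConv) = cg := by
    simp only [cg]
    rw [DynMeth.comp_mul, DynMeth.comp_mul, DynMeth.comp_inv]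
    have e1 : toConv (σ.comp (pullPt θ Q).ofConv) = pullPt θ (S * Q) := by
      rw [← hσQ]; rfl
    have e2 : toConv (σ.comp G'.ofConv) = G' := by
      refine WithConv.ext ?_
      show σ.comp (jR.comp g.ofConv) = jR.comp g.ofConv
      rw [← AlgHom.comp_assoc, hσR]
    rw [e1, e2, hSQ, pullPt_mul, _root_.mul_inv_rev]
    simp only [← _root_.mul_assoc]
    rw [_root_.mul_assoc (pullPt θ Q) (pullPt θ S) G', ← hSG.eq, ← _root_.mul_assoc, mul_inv_cancel_right]
  let gK : A ⊗[k] K →ₐ[k] R ⊗[k] K := Algebra.TensorProduct.map g.ofConv (AlgHom.id k K)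
  have hcg : toConv (gK.comp c) = cg := by
    simp only [c, cg]
    rw [DynMeth.comp_mul, DynMeth.comp_mul, DynMeth.comp_inv]
    have e1 : toConv (gK.comp (pullPt θ (toConv iK)).ofConv) = pullPt θ Q :=
      WithConv.ext (AlgHom.ext fun a => by simp [gK, iK, Q, jK, pullPt])
    have e2 : toConv (gK.comp (toConv iR).ofConv) = G' :=
      WithConv.ext (AlgHom.ext fun a => by simp [gK, iR, G', jR])
    rw [e1, e2]
  let ev : R ⊗[k] K →ₐ[k] R :=
    Algebra.TensorProduct.lift (AlgHom.id k R) ((Algebra.ofId k R).comp (Bialgebra.counitAlgHom k K))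
      fun _ _ => Commute.all _ _
  have hev : toConv (ev.comp cg.ofConv) = g := by
    simp only [cg]
    rw [DynMeth.comp_mul, DynMeth.comp_mul, DynMeth.comp_inv]
    have e1 : toConv (ev.comp (pullPt θ Q).ofConv) = 1 := by
      refine Eq.trans ?_ (pullPt_one θ (R := R))
      refine WithConv.ext (AlgHom.ext fun a => ?_)
      show ev ((1 : R) ⊗ₜ[k] θ a) = (1 : WithConv (K →ₐ[k] R)).ofConv (θ a)
      rw [GrothLib.DynMeth.one_apply]
      simp [ev]
    have e2 : toConv (ev.comp G'.ofConv) = g := WithConv.ext (AlgHom.ext fun a => by simp [ev, G', jR])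
    rw [e1, e2, inv_one, _root_.one_mul, _root_.mul_one]
  -- the components are constant
  let BR := Algebra.TensorProduct.basis R bK
  have hBR : ∀ x : A ⊗[k] K, ∀ m, BR.repr (gK x) m = g.ofConv (B.repr x m) := fun x m => by
    induction x using TensorProduct.induction_on with
    | zero => simp
    | add p q hp hq => simp only [map_add, Finsupp.coe_add, Pi.add_apply, hp, hq]
    | tmul p q => simp [gK, B, BR]
  have hσB : ∀ y : R ⊗[k] K, ∀ m, BR.repr (σ y) m = φ.ofConv (m : K) • BR.repr y m := fun y m => by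
    induction y using TensorProduct.induction_on with
    | zero => simp
    | add p q hp hq => simp only [map_add, Finsupp.coe_add, Pi.add_apply, hp, hq, smul_add]
    | tmul p q =>
      have hq' : q ∈ Submodule.span k (Set.range fun m : M => (m : K)) := hspan ▸ trivial
      induction hq' using Submodule.span_induction with
      | zero => simp
      | add u v _ _ hu hv => simp only [TensorProduct.tmul_add, map_add, Finsupp.coe_add, Pi.add_apply, hu, hv, smul_add]
      | smul r u _ hu =>
        rw [TensorProduct.tmul_smul, map_smul]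
        simp only [BR, B, LinearEquiv.map_smul] at hu ⊢
        rw [show BR.repr (r • σ (p ⊗ₜ[k] u)) = r • BR.repr (σ (p ⊗ₜ[k] u)) from
            (BR.repr.restrictScalars k).map_smul r _,
          show BR.repr (r • (p ⊗ₜ[k] u)) = r • BR.repr (p ⊗ₜ[k] u) from (BR.repr.restrictScalars k).map_smul r _]
        simp only [Finsupp.coe_smul, Pi.smul_apply, BR] at hu ⊢
        rw [hu, smul_comm]
      | mem u hu =>
        obtain ⟨n, rfl⟩ := hu
        have e : σ (p ⊗ₜ[k] (n : K)) = φ.ofConv (n : K) • (p ⊗ₜ[k] (n : K)) := by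
          show Algebra.TensorProduct.lift jR τ _ (p ⊗ₜ[k] (n : K)) = _
          rw [Algebra.TensorProduct.lift_tmul]
          show jR p * (S * Q).ofConv (n : K) = _
          rw [conv_groupLike]
          simp [S, Q, jR, jK, Algebra.smul_def, _root_.mul_comm p]
        rw [e, show BR.repr (φ.ofConv (n : K) • (p ⊗ₜ[k] (n : K))) = φ.ofConv (n : K) • BR.repr (p ⊗ₜ[k] (n : K)) from
          (BR.repr.restrictScalars k).map_smul _ _, Finsupp.smul_apply]
        simp only [BR, Algebra.TensorProduct.basis_repr_tmul, ← hb, Module.Basis.repr_self, Finsupp.smul_apply,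
          Finsupp.mapRange_apply, Finsupp.single_apply]
        split_ifs with h
        · rw [h]
        · simp
  have hconst : cg = G' := by
    refine WithConv.ext (AlgHom.ext_of_adjoin_eq_top hs fun a ha => ?_)
    have hy : ∀ m, m ≠ 1 → BR.repr (cg.ofConv a) m = 0 := by
      intro m hm
      by_cases hmF : m ∈ F
      · have h1 := hσB (cg.ofConv a) m
        have h2 : σ (cg.ofConv a) = cg.ofConv a := DFunLike.congr_fun (congrArg ofConv hσcg) a
        rw [h2] at h1
        have h3 : φ.ofConv (m : K) - 1 ≠ 0 := by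
          intro h0
          refine hφ ?_
          rw [map_prod]
          exact Finset.prod_eq_zero hmF (by rw [map_sub, map_one]; exact h0)
        have h4 : (φ.ofConv (m : K) - 1) • BR.repr (cg.ofConv a) m = 0 := by
          rw [sub_smul, one_smul, ← h1, sub_self]
        exact (smul_eq_zero_iff_right h3).1 h4
      · rw [← DFunLike.congr_fun (congrArg ofConv hcg) a]
        show BR.repr (gK (c a)) m = 0
        rw [hBR]
        have : B.repr (c a) m = 0 := by
          by_contra h
          exact hmF (Finset.mem_erase.2 ⟨hm, Finset.mem_biUnion.2 ⟨a, ha, Finsupp.mem_support_iff.2 h⟩⟩)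
        rw [this, map_zero]
    have hrepr : cg.ofConv a = BR.repr (cg.ofConv a) 1 ⊗ₜ[k] (1 : K) := by
      apply BR.repr.injective
      ext m
      rw [Algebra.TensorProduct.basis_repr_tmul]
      have h1 : bK.repr (1 : K) = Finsupp.single 1 1 := by
        rw [← GroupLike.val_one (R := k) (A := K), ← hb, Module.Basis.repr_self]
      rcases eq_or_ne m 1 with rfl | hm
      · simp [h1]
      · simp [h1, hy m hm, Finsupp.single_apply, hm.symm]
    have h5 : ev (cg.ofConv a) = g.ofConv a := DFunLike.congr_fun (congrArg ofConv hev) a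
    rw [hrepr] at h5
    have h6 : ev (BR.repr (cg.ofConv a) 1 ⊗ₜ[k] (1 : K)) = BR.repr (cg.ofConv a) 1 := by simp [ev]
    rw [h6] at h5
    rw [hrepr, h5]
    rfl
  let spec : R ⊗[k] K →ₐ[k] R := Algebra.TensorProduct.lift (AlgHom.id k R) t.ofConv fun _ _ => Commute.all _ _
  have hfin := congrArg (fun f => toConv (spec.comp (ofConv f))) hconst
  simp only [cg] at hfin
  rw [DynMeth.comp_mul, DynMeth.comp_mul, DynMeth.comp_inv] at hfin
  have e1 : toConv (spec.comp (pullPt θ Q).ofConv) = pullPt θ t :=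
    WithConv.ext (AlgHom.ext fun a => by simp [spec, Q, jK, pullPt])
  have e2 : toConv (spec.comp G'.ofConv) = g := WithConv.ext (AlgHom.ext fun a => by simp [spec, G', jR])
  rw [e1, e2, mul_inv_eq_iff_eq_mul] at hfin
  exact hfin.symm

variable {G T : Over (Spec (CommRingCat.of k))} [GrpObj G] [GrpObj T] [IsAffine G.left] [LocallyOfFiniteType G.hom]

/-- A torsion point of a subtorus with the same centralizer as the subtorus. -/
theorem exists_regular_pt (iT : T ⟶ G) [IsMonHom iT] [Mono iT] (hT : Red.IsTorus T) {ℓ : ℕ} (hℓ : 1 < ℓ) (hℓk : (ℓ : k) ≠ 0) :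
    ∃ (N : ℕ) (s : 𝟙_ (Over (Spec (CommRingCat.of k))) ⟶ T), s ^ ℓ ^ N = 1 ∧
      ∀ (X : Over (Spec (CommRingCat.of k))) (g : X ⟶ G),
        g * (toUnit X ≫ s ≫ iT) = (toUnit X ≫ s ≫ iT) * g →
        ∀ (X' : Over (Spec (CommRingCat.of k))) (x : X' ⟶ X) (h : X' ⟶ T),
          (x ≫ g) * (h ≫ iT) = (h ≫ iT) * (x ≫ g) := by
  obtain ⟨-, hTa, hTs, hTconn⟩ := torus_facts hT iT
  haveI := hTa; haveI := hTs; haveI := hTconn
  obtain ⟨A, _, _, ⟨eG⟩⟩ := exists_hopf G (isAffineHom_of_isAffine _)
  haveI := finiteType_of_grpIso eG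
  obtain ⟨K, _, _, ⟨eT⟩⟩ := exists_hopf T (isAffineHom_of_isAffine _)
  haveI := finiteType_of_grpIso eT
  haveI : IsDomain K := by
    haveI := GrothLib.Rigidity.irreducibleSpace_of_connected T
    haveI : IsReduced T.left := GrothLib.RedSmooth.isReduced_of_smooth T.hom
    haveI : IsIntegral T.left := isIntegral_of_irreducibleSpace_of_isReduced _
    let i : specGrp (R := k) K ≅ T := (Grp.forget _).mapIso eT
    haveI : IsIso i.inv.left := inferInstanceAs (IsIso ((Over.forget _).map i.inv))
    haveI : IsIntegral (Spec (CommRingCat.of K)) := .of_isIso i.inv.left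
    exact (affine_isIntegral_iff (CommRingCat.of K)).1 inferInstance
  have hK : HopfRep.IsDiagonalizable k K := by
    obtain ⟨L, _, _, hL⟩ := exists_split_functions eT hT
    haveI : Coalgebra.IsCocomm k K := NoPrim.isCocomm_of_isDiagonalizable L hL
    exact NoPrim.isDiagonalizable_of_isAlgClosed (TorusPrim24.noPrimElt_of_isTorus eT hT)
  obtain ⟨θ, hθ⟩ := exists_specMap eG eT iT
  obtain ⟨N, φ, hφN, hφ⟩ := exists_regular_hopf hK θ hℓ hℓk
  refine ⟨N, ptOne.inv ≫ ptsEquiv eT φ, ?_, fun X g hg X' x h => hom_ext_pts fun R _ _ v => ?_⟩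
  · rw [← MonObj.comp_pow, ← map_pow, hφN, map_one, MonObj.comp_one]
  obtain ⟨gR, hgR⟩ := (algPt_bijective eG).2 ((v ≫ x) ≫ g)
  obtain ⟨tR, htR⟩ := (algPt_bijective eT).2 (v ≫ h)
  have hunit : (v ≫ x) ≫ toUnit X ≫ ptOne.inv = ptMap (Algebra.ofId k R) := by
    rw [← cancel_mono ptOne.hom]
    simp only [Category.assoc, Iso.inv_hom_id, Category.comp_id]
    exact toUnit_unique _ _
  have hs : (v ≫ x) ≫ toUnit X ≫ (ptOne.inv ≫ ptsEquiv eT φ) ≫ iT =
      algPt eG (pullPt θ (toConv ((Algebra.ofId k R).comp φ.ofConv))) := by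
    have e : ptsEquiv eT φ = algPt eT φ := rfl
    rw [← algPt_comp_hom eG eT θ iT hθ, ← ptMap_algPt, ← e, ← hunit]
    simp only [Category.assoc]
  have h1 := congrArg ((v ≫ x) ≫ ·) hg
  simp only [MonObj.comp_mul] at h1
  rw [← hgR, hs, ← algPt_mul, ← algPt_mul] at h1
  have h2 := hφ R gR ((algPt_bijective eG).1 h1) tR
  simp only [MonObj.comp_mul, ← Category.assoc]
  rw [← hgR, ← htR, algPt_comp_hom eG eT θ iT hθ, ← algPt_mul, ← algPt_mul, h2.eq]

end GrothLib.Flag27
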