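import Mathlib

/-!
# Conjugacy of complements for finite groups of order prime to a uniquely divisible nilpotent group
-/

set_option autoImplicit false
set_option linter.all false

universe u v

namespace GrothLib.Flag27

/-- Unique roots of order `n` in a subgroup. -/
def UniqueRoots {B : Type u} [Group B] (U : Subgroup B) (n : ℕ) : Prop :=
  (∀ x ∈ U, ∃ y ∈ U, y ^ n = x) ∧ ∀ x ∈ U, ∀ y ∈ U, x ^ n = y ^ n → x = y

variable {Γ : Type v} [CommGroup Γ] [Fintype Γ]

/-- The abelian step: one central twist. -/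
theorem exists_twist {B : Type u} [Group B] (Z : Subgroup B) [Z.Normal] (hZc : ∀ a ∈ Z, ∀ b ∈ Z, a * b = b * a)
    (hZ : UniqueRoots Z (Fintype.card Γ)) (χ ψ : Γ →* B) (h : ∀ σ, ψ σ * (χ σ)⁻¹ ∈ Z) :
    ∃ a ∈ Z, ∀ σ, a * χ σ * a⁻¹ = ψ σ := by
  classical
  letI : CommGroup Z := { (inferInstance : Group Z) with mul_comm := fun a b => Subtype.ext (hZc a a.2 b b.2) }
  let c : Γ → Z := fun σ => ⟨ψ σ * (χ σ)⁻¹, h σ⟩
  let act : Γ → Z →* Z := fun σ =>
    { toFun := fun a => ⟨χ σ * a * (χ σ)⁻¹, (inferInstance : Z.Normal).conj_mem (a : B) a.2 (χ σ)⟩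
      map_one' := Subtype.ext (by simp)
      map_mul' := fun a b => Subtype.ext (by simp [mul_assoc]) }
  have hc : ∀ σ τ, c (σ * τ) = c σ * act σ (c τ) := fun σ τ => Subtype.ext (by
    simp [c, act, map_mul, mul_assoc])
  let P : Z := ∏ τ, c τ
  have hP : ∀ σ, P = c σ ^ Fintype.card Γ * act σ P := fun σ => by
    calc P = ∏ τ, c (σ * τ) := (Fintype.prod_equiv (Equiv.mulLeft σ) _ _ fun τ => rfl).symm
      _ = ∏ τ, c σ * act σ (c τ) := Finset.prod_congr rfl fun τ _ => hc σ τ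
      _ = _ := by rw [Finset.prod_mul_distrib, Finset.prod_const, Finset.card_univ, ← map_prod]
  obtain ⟨a, ha, haP⟩ := hZ.1 P P.2
  refine ⟨a, ha, fun σ => ?_⟩
  let a' : Z := ⟨a, ha⟩
  have hn : a' ^ Fintype.card Γ = P := Subtype.ext (by simpa [a'] using haP)
  have h1 : a' ^ Fintype.card Γ = (c σ * act σ a') ^ Fintype.card Γ := by
    rw [mul_pow, ← map_pow, hn, ← hP]
  have h2 : a = ψ σ * (χ σ)⁻¹ * (χ σ * a * (χ σ)⁻¹) :=
    hZ.2 a ha _ (c σ * act σ a').2 (congrArg (fun z : Z => (z : B)) h1)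
  calc a * χ σ * a⁻¹ = ψ σ * (χ σ)⁻¹ * (χ σ * a * (χ σ)⁻¹) * χ σ * a⁻¹ := by rw [← h2]
    _ = ψ σ := by group

/-- Two sections agreeing modulo a uniquely divisible nilpotent normal subgroup are conjugate. -/
theorem exists_conj_of_congr (m : ℕ) : ∀ (B : Type u) [Group B] (U : Subgroup B) [U.Normal] [Group.IsNilpotent U],
    Group.nilpotencyClass U ≤ m → UniqueRoots U (Fintype.card Γ) → ∀ (φ ψ : Γ →* B),
      (∀ σ, ψ σ * (φ σ)⁻¹ ∈ U) → ∃ u ∈ U, ∀ σ, u * φ σ * u⁻¹ = ψ σ := by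
  induction m with
  | zero =>
    intro B _ U _ _ hm _ φ ψ h
    haveI : Subsingleton U := nilpotencyClass_zero_iff_subsingleton.1 (Nat.le_zero.1 hm)
    refine ⟨1, one_mem U, fun σ => ?_⟩
    have := congrArg Subtype.val (Subsingleton.elim (⟨_, h σ⟩ : U) 1)
    rw [one_mul, inv_one, mul_one]
    exact (mul_inv_eq_one.1 this).symm
  | succ m ih =>
    intro B _ U _ _ hm hU φ ψ h
    let Z : Subgroup B := (Subgroup.center U).map U.subtype
    haveI : Z.Normal := inferInstance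
    have hZU : Z ≤ U := Subgroup.map_subtype_le _
    have hmem : ∀ z : U, (z : B) ∈ Z ↔ ∀ x : U, x * z = z * x := fun z => by
      exact (Subgroup.mem_map_iff_mem (f := U.subtype) Subtype.val_injective).trans Subgroup.mem_center_iff
    have hZroots : UniqueRoots Z (Fintype.card Γ) := by
      refine ⟨fun x hx => ?_, fun x hx y hy => hU.2 x (hZU hx) y (hZU hy)⟩
      obtain ⟨y, hy, hyx⟩ := hU.1 x (hZU hx)
      refine ⟨y, (hmem ⟨y, hy⟩).2 fun g => ?_, hyx⟩
      have e : (g : B) * y * (g : B)⁻¹ = y := by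
        refine hU.2 _ (mul_mem (mul_mem g.2 hy) (inv_mem g.2)) y hy ?_
        rw [conj_pow, hyx]
        have := (hmem ⟨x, hZU hx⟩).1 hx g
        rw [mul_inv_eq_iff_eq_mul]
        exact congrArg Subtype.val this
      exact Subtype.ext (mul_inv_eq_iff_eq_mul.1 e)
    let π : B →* B ⧸ Z := QuotientGroup.mk' Z
    haveI : (U.map π).Normal := Subgroup.Normal.map inferInstance π (QuotientGroup.mk'_surjective Z)
    let f : U ⧸ Subgroup.center U →* U.map π :=
      QuotientGroup.lift (Subgroup.center U) (π.subgroupMap U) fun z hz => Subtype.ext <| by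
        show π z = 1
        exact (QuotientGroup.eq_one_iff _).2 ⟨z, hz, rfl⟩
    have hf : Function.Surjective f := fun y => by
      obtain ⟨z, hz⟩ := π.subgroupMap_surjective U y
      exact ⟨z, hz⟩
    haveI : Group.IsNilpotent (U.map π) := Group.nilpotent_of_surjective f hf
    have hcls : Group.nilpotencyClass (U.map π) ≤ m := by
      refine (Group.nilpotencyClass_le_of_surjective f hf).trans ?_
      rw [Group.nilpotencyClass_quotient_center]
      omega
    have hroots : UniqueRoots (U.map π) (Fintype.card Γ) := by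
      refine ⟨?_, ?_⟩
      · rintro _ ⟨x, hx, rfl⟩
        obtain ⟨y, hy, hyx⟩ := hU.1 x hx
        exact ⟨π y, ⟨y, hy, rfl⟩, by rw [← map_pow, hyx]⟩
      · rintro _ ⟨x, hx, rfl⟩ _ ⟨y, hy, rfl⟩ hxy
        rw [← map_pow, ← map_pow] at hxy
        have hz : (y ^ Fintype.card Γ)⁻¹ * x ^ Fintype.card Γ ∈ Z := by
          rw [← QuotientGroup.eq]
          exact hxy.symm
        obtain ⟨w, hw, hwz⟩ := hZroots.1 _ hz
        have hcomm : Commute y w := congrArg Subtype.val ((hmem ⟨w, hZU hw⟩).1 hw ⟨y, hy⟩)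
        have hxe : x = y * w := hU.2 x hx _ (mul_mem hy (hZU hw)) (by
          rw [hcomm.mul_pow, hwz, mul_inv_cancel_left])
        rw [hxe, map_mul, (QuotientGroup.eq_one_iff w).2 hw |> (fun e => show π w = 1 from e), mul_one]
    obtain ⟨_, ⟨u, hu, rfl⟩, hconj⟩ := ih (B ⧸ Z) (U.map π) hcls hroots (π.comp φ) (π.comp ψ) fun σ =>
      ⟨_, h σ, by simp⟩
    let χ : Γ →* B := (MulAut.conj u).toMonoidHom.comp φ
    obtain ⟨a, ha, hac⟩ := exists_twist Z (fun a ha b hb => by
        obtain ⟨a, ha', rfl⟩ := ha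
        obtain ⟨b, hb', rfl⟩ := hb
        exact congrArg Subtype.val (Subgroup.mem_center_iff.1 hb' a))
      hZroots χ ψ fun σ => by
        rw [← QuotientGroup.eq_one_iff]
        show π (ψ σ * (u * φ σ * u⁻¹)⁻¹) = 1
        have e := hconj σ
        simp only [MonoidHom.comp_apply] at e
        rw [map_mul, map_inv, map_mul, map_mul, map_inv, e, mul_inv_cancel]
    refine ⟨a * u, mul_mem (hZU ha) hu, fun σ => ?_⟩
    rw [← hac σ]
    show a * u * φ σ * (a * u)⁻¹ = a * (u * φ σ * u⁻¹) * a⁻¹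
    group

end GrothLib.Flag27
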