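import Groth.Agent.Lib.HopfAG.UnipPts
import Groth.Prelude.Def_HopfRep
import Mathlib

/-!
# Unique roots in unipotent groups
-/

set_option autoImplicit false
set_option linter.all false

universe u

open WithConv

namespace GrothLib.Flag27

variable {k : Type u} [Field k] {A : Type u} [CommRing A] [HopfAlgebra k A] [Algebra.FiniteType k A]

/-- Rational points of unipotent groups have unique roots of orders invertible in the field. -/
theorem bijective_pow_points (hU : HopfRep.IsUnipotent k A) {n : ℕ} (hn : (n : k) ≠ 0) :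
    Function.Bijective fun g : WithConv (A →ₐ[k] k) => g ^ n := by
  have hs := GrothLib.Unip.exists_mem_soc hU
  refine ⟨GrothLib.Unip.pow_injective hs hn, ?_⟩
  obtain ⟨p, hp⟩ := CharP.exists k
  rcases CharP.char_is_prime_or_zero k p with hpp | hp0
  · haveI := Fact.mk hpp
    obtain ⟨s, hs'⟩ := GrothLib.Unip.pow_char_pow_eq_one (A := A) hs p
    have hcop : Nat.Coprime n (p ^ s) := by
      refine Nat.Coprime.pow_right s ((Nat.coprime_comm.1 ((Nat.Prime.coprime_iff_not_dvd hpp).2 fun hd => hn ?_)))
      exact (CharP.cast_eq_zero_iff k p n).2 hd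
    intro g
    rcases Nat.eq_zero_or_pos s with hs0 | hs0
    · subst hs0
      exact ⟨1, by simpa using (hs' g).symm⟩
    have h1p : 1 < p ^ s := Nat.one_lt_pow hs0.ne' hpp.one_lt
    obtain ⟨v, -, hv⟩ := Nat.exists_mul_mod_eq_one_of_coprime hcop h1p
    refine ⟨g ^ v, ?_⟩
    show (g ^ v) ^ n = g
    rw [← pow_mul, mul_comm v n, ← Nat.mod_add_div (n * v) (p ^ s), hv, pow_add, pow_mul, hs' g, one_pow, mul_one,
      pow_one]
  · subst hp0
    haveI : CharZero k := CharP.charP_to_charZero k
    exact GrothLib.Unip.pow_surjective hs (fun h => hn (by rw [h, Nat.cast_zero]))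

end GrothLib.Flag27
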