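import Groth.Agent.Lib.Flag27.UnipRad
import Groth.Agent.Lib.Flag27.ConjGrp
import Groth.Agent.Lib.Flag27.UnipRoots
import Groth.Agent.Lib.Flag27.TorsionPts
import Groth.Agent.Lib.Flag27.GeomPt
import Groth.Agent.Lib.Induce27.Obs
import Groth.Agent.Lib.TorusNorm25.Torus

/-!
# Tori in split solvable groups are conjugate into the section
-/

set_option autoImplicit false
set_option linter.all false
set_option backward.isDefEq.respectTransparency false

universe u

open CategoryTheory MonoidalCategory CartesianMonoidalCategory MonObj GrpObj AlgebraicGeometry VecGrp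
open scoped TensorProduct

noncomputable section

namespace GrothLib.Flag27

open GrothLib.Repr GrothLib.Induce27 Groth.Agent.S11191 GrothLib.MultHopf14 GrothLib.CentMT14

variable {k : Type u} [Field k] [IsAlgClosed k]

/-- The rational points of an affine group as algebra maps. -/
def ptsEquiv {A : Type u} [CommRing A] [HopfAlgebra k A] {G : Over (Spec (CommRingCat.of k))} [GrpObj G]
    (e : Grp.mk (specGrp (R := k) A) ≅ Grp.mk G) : WithConv (A →ₐ[k] k) ≃* (pt k k ⟶ G) :=
  haveI : IsMonHom e.hom.hom.hom := e.hom.hom.isMonHom_hom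
  MulEquiv.mk
    { toFun := fun φ => Spec.mapMulEquiv φ ≫ e.hom.hom.hom
      invFun := fun v => Spec.mapMulEquiv.symm (v ≫ e.inv.hom.hom)
      left_inv := fun φ => by
        have he : e.hom.hom.hom ≫ e.inv.hom.hom = 𝟙 (specGrp (R := k) A) := congrArg (fun w => w.hom.hom) e.hom_inv_id
        show Spec.mapMulEquiv.symm ((Spec.mapMulEquiv φ ≫ e.hom.hom.hom) ≫ e.inv.hom.hom) = φ
        rw [Category.assoc, he, Category.comp_id, MulEquiv.symm_apply_apply]
      right_inv := fun v => by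
        have he : e.inv.hom.hom ≫ e.hom.hom.hom = 𝟙 G := congrArg (fun w => w.hom.hom) e.inv_hom_id
        show Spec.mapMulEquiv (Spec.mapMulEquiv.symm (v ≫ e.inv.hom.hom)) ≫ e.hom.hom.hom = v
        rw [MulEquiv.apply_symm_apply, Category.assoc, he, Category.comp_id] }
    (fun φ ψ => by
      show Spec.mapMulEquiv (φ * ψ) ≫ e.hom.hom.hom = _
      rw [map_mul, MonObj.mul_comp])

/-- The universal point of an affine group. -/
def univPt {A : Type u} [CommRing A] [HopfAlgebra k A] {G : Over (Spec (CommRingCat.of k))} [GrpObj G]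
    (e : Grp.mk (specGrp (R := k) A) ≅ Grp.mk G) : pt k A ⟶ G :=
  (show pt k A ⟶ specGrp (R := k) A from 𝟙 _) ≫ e.hom.hom.hom

theorem valAt_ptsEquiv {A : Type u} [CommRing A] [HopfAlgebra k A] {G : Over (Spec (CommRingCat.of k))} [GrpObj G]
    (e : Grp.mk (specGrp (R := k) A) ≅ Grp.mk G) (φ : WithConv (A →ₐ[k] k)) (f : Fn G) :
    valAt (ptsEquiv e φ) f = φ.ofConv (valAt (univPt e) f) := by
  rw [← valAt_ptMap_comp]
  rfl

/-- Rational points of a group with unipotent points have unique roots. -/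
theorem IsUnip.bijective_pow {U : Over (Spec (CommRingCat.of k))} [GrpObj U] (hU : IsUnip k U) {n : ℕ}
    (hn : (n : k) ≠ 0) : Function.Bijective fun g : pt k k ⟶ U => g ^ n := by
  obtain ⟨A, _, _, hft, hu, ⟨e⟩⟩ := hU
  haveI := hft
  have hb := bijective_pow_points hu hn
  have : (fun g : pt k k ⟶ U => g ^ n) = (ptsEquiv e) ∘ (fun g => g ^ n) ∘ (ptsEquiv e).symm := by
    funext g; simp
  rw [this]
  exact (ptsEquiv e).bijective.comp (hb.comp (ptsEquiv e).symm.bijective)

theorem IsUnip.isNilpotent_points {U : Over (Spec (CommRingCat.of k))} [GrpObj U] (hU : IsUnip k U) :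
    Group.IsNilpotent (pt k k ⟶ U) := by
  obtain ⟨A, _, _, hft, hu, ⟨e⟩⟩ := hU
  haveI := hft
  haveI := Groth.Agent.S7986.result k A hu
  exact Group.nilpotent_of_surjective (ptsEquiv e).toMonoidHom (ptsEquiv e).surjective

/-- A prime invertible in the field. -/
theorem exists_prime_invertible : ∃ ℓ : ℕ, ℓ.Prime ∧ (ℓ : k) ≠ 0 := by
  by_cases h2 : (2 : k) = 0
  · refine ⟨3, Nat.prime_three, fun h3 => one_ne_zero (α := k) ?_⟩
    rw [show (1 : k) = ((3 : ℕ) : k) - 2 by norm_num, h3, h2, sub_zero]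
  · exact ⟨2, Nat.prime_two, by exact_mod_cast h2⟩

variable {B D U : Over (Spec (CommRingCat.of k))} [GrpObj B] [GrpObj D] [GrpObj U] [IsAffine B.left] [Smooth B.hom]
  [IsAffine U.left] [Smooth U.hom]

set_option maxHeartbeats 800000 in
/-- A homomorphism from a torus to a split group is conjugate to its composite with the section. -/
theorem exists_conj_section (hU : IsUnip k U) (p : B ⟶ D) (s : D ⟶ B) (u : U ⟶ B) (r : B ⟶ U) [IsMonHom p]
    [IsMonHom s] [IsMonHom u] [Mono u] (hsp : s ≫ p = 𝟙 D) (hup : u ≫ p = 1)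
    (hru : r ≫ u = 𝟙 B * (p ≫ s)⁻¹) {T : Over (Spec (CommRingCat.of k))} [GrpObj T] [IsAffine T.left]
    [LocallyOfFiniteType T.hom] (hT : Red.IsTorus T) (j : T ⟶ B) [IsMonHom j] :
    ∃ g : 𝟙_ (Over (Spec (CommRingCat.of k))) ⟶ B, AGF.conjBy g j = j ≫ p ≫ s := by
  classical
  haveI : Smooth T.hom := TorusNorm25.smooth_of_isTorus hT
  haveI : ConnectedSpace T.left := (Rigidity.smooth_connected_of_isTorus T hT).2
  haveI := GrothLib.Rigidity.irreducibleSpace_of_connected T
  haveI : IsReduced T.left := GrothLib.RedSmooth.isReduced_of_smooth T.hom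
  haveI : IsIntegral T.left := isIntegral_of_irreducibleSpace_of_isReduced _
  obtain ⟨A, _, _, ⟨e⟩⟩ := exists_hopf T (isAffineHom_of_isAffine _)
  haveI := finiteType_of_grpIso e
  haveI : IsDomain A := by
    let i : specGrp (R := k) A ≅ T := (Grp.forget _).mapIso e
    haveI : IsIso i.inv.left := inferInstanceAs (IsIso ((Over.forget _).map i.inv))
    haveI : IsIntegral (Spec (CommRingCat.of A)) := .of_isIso i.inv.left
    exact (affine_isIntegral_iff (CommRingCat.of A)).1 inferInstance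
  have hA : HopfRep.IsDiagonalizable k A := by
    obtain ⟨L, _, _, hL⟩ := exists_split_functions e hT
    haveI : Coalgebra.IsCocomm k A := NoPrim.isCocomm_of_isDiagonalizable L hL
    exact NoPrim.isDiagonalizable_of_isAlgClosed (TorusPrim24.noPrimElt_of_isTorus e hT)
  obtain ⟨ℓ, hℓ, hℓk⟩ := exists_prime_invertible (k := k)
  letI : CommGroup (pt k k ⟶ T) :=
    { (inferInstance : Group (pt k k ⟶ T)) with mul_comm := fun a b => GrothLib.RankCell14.comm_torus hT a b }
  let Γ : ℕ → Subgroup (pt k k ⟶ T) := fun N => (powMonoidHom (ℓ ^ N)).ker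
  have hΓ : ∀ N, Finite (Γ N) := fun N => by
    haveI := (finite_torsion hA (n := ℓ ^ N) (Nat.pow_pos hℓ.pos)).to_subtype
    refine Finite.of_injective (fun t : Γ N =>
      (⟨(ptsEquiv e).symm t.1, ?_⟩ : {φ : WithConv (A →ₐ[k] k) | φ ^ ℓ ^ N = 1})) fun a b h => ?_
    · show _ ^ ℓ ^ N = 1
      rw [← map_pow, show t.1 ^ ℓ ^ N = 1 from t.2, map_one]
    · exact Subtype.ext ((ptsEquiv e).symm.injective (congrArg Subtype.val h))
  -- conjugation on each finite level
  have hstep : ∀ N, ∃ x : pt k k ⟶ U, ∀ t ∈ Γ N,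
      (x ≫ u) * (t ≫ j) * (x ≫ u)⁻¹ = t ≫ j ≫ p ≫ s := by
    intro N
    haveI := hΓ N
    haveI := Fintype.ofFinite (Γ N)
    let pH := GrothLib.RankOne.postHom p (pt k k)
    let uH := GrothLib.RankOne.postHom u (pt k k)
    haveI := hU.isNilpotent_points
    let eK : (pt k k ⟶ U) ≃* pH.ker :=
      MulEquiv.ofBijective (uH.codRestrict pH.ker fun x => by
          show (x ≫ u) ≫ p = 1
          rw [Category.assoc, hup, MonObj.comp_one])
        ⟨fun x y h => (cancel_mono u).1 (congrArg Subtype.val h), fun w => ⟨w.1 ≫ r, Subtype.ext (by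
          show (w.1 ≫ r) ≫ u = w.1
          rw [Category.assoc, hru, MonObj.comp_mul, GrpObj.comp_inv, ← Category.assoc,
            show w.1 ≫ p = 1 from w.2, MonObj.one_comp, inv_one, Category.comp_id, _root_.mul_one])⟩⟩
    haveI : Group.IsNilpotent pH.ker := Group.nilpotent_of_surjective eK.toMonoidHom eK.surjective
    have hcard : ((Fintype.card (Γ N) : ℕ) : k) ≠ 0 := by
      haveI : Fact ℓ.Prime := ⟨hℓ⟩
      have hP : IsPGroup ℓ (Γ N) := fun t => ⟨N, Subtype.ext (by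
        rw [Subgroup.coe_pow]; exact t.2)⟩
      obtain ⟨i, hi⟩ := IsPGroup.iff_card.1 hP
      rw [← Nat.card_eq_fintype_card, hi, Nat.cast_pow]
      exact pow_ne_zero _ hℓk
    have hroots : UniqueRoots pH.ker (Fintype.card (Γ N)) := by
      have hb := hU.bijective_pow hcard
      refine ⟨fun x hx => ?_, fun x hx y hy hxy => ?_⟩
      · obtain ⟨y, hy⟩ := hb.2 (eK.symm ⟨x, hx⟩)
        refine ⟨(eK y).1, (eK y).2, ?_⟩
        have := congrArg eK hy
        rw [map_pow, MulEquiv.apply_symm_apply] at this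
        exact congrArg Subtype.val this
      · have h1 : eK.symm ⟨x, hx⟩ = eK.symm ⟨y, hy⟩ := hb.1 (by
          show eK.symm ⟨x, hx⟩ ^ _ = eK.symm ⟨y, hy⟩ ^ _
          rw [← map_pow, ← map_pow]
          exact congrArg eK.symm (Subtype.ext hxy))
        exact congrArg Subtype.val (eK.symm.injective h1)
    obtain ⟨w, hw, hwc⟩ := exists_conj_of_congr (Group.nilpotencyClass pH.ker) _ pH.ker le_rfl hroots
      ((GrothLib.RankOne.postHom j (pt k k)).comp (Γ N).subtype)
      ((GrothLib.RankOne.postHom (j ≫ p ≫ s) (pt k k)).comp (Γ N).subtype) fun t => by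
        show ((t.1 ≫ j ≫ p ≫ s) * (t.1 ≫ j)⁻¹) ≫ p = 1
        rw [MonObj.mul_comp, GrpObj.inv_comp, Category.assoc, Category.assoc, Category.assoc, hsp, Category.comp_id,
          Category.assoc, mul_inv_cancel]
    refine ⟨eK.symm ⟨w, hw⟩, fun t ht => ?_⟩
    rw [show eK.symm ⟨w, hw⟩ ≫ u = w from congrArg Subtype.val (eK.apply_symm_apply ⟨w, hw⟩)]
    exact hwc ⟨t, ht⟩
  -- one point works for every level
  haveI := isNoetherianRing_fn U
  let ct : (pt k k ⟶ T) → (U ⟶ B) := fun t => u * (toUnit U ≫ ptOne.inv ≫ t ≫ j) * u⁻¹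
  have hct : ∀ (x : pt k k ⟶ U) (t : pt k k ⟶ T), x ≫ ct t = (x ≫ u) * (t ≫ j) * (x ≫ u)⁻¹ := fun x t => by
    rw [MonObj.comp_mul, MonObj.comp_mul, GrpObj.comp_inv, ← Category.assoc x (toUnit U), ← Category.assoc,
      show (x ≫ toUnit U) ≫ ptOne.inv = 𝟙 (pt k k) by
        rw [show x ≫ toUnit U = ptOne.hom from toUnit_unique _ _, Iso.hom_inv_id], Category.id_comp]
  let R : Set (Fn U) := {F | ∃ (N : ℕ) (t : pt k k ⟶ T) (f : Fn B), t ∈ Γ N ∧
    F = fnMap (ct t) f - algebraMap k (Fn U) (valAt (t ≫ j ≫ p ≫ s) f)}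
  obtain ⟨S, hSR, hS⟩ := Submodule.fg_span_iff_fg_span_finset_subset R |>.mp (IsNoetherian.noetherian (Ideal.span R))
  obtain ⟨N₀, hN₀⟩ : ∃ N₀ : ℕ, ∀ F ∈ S, ∃ (t : pt k k ⟶ T) (f : Fn B), t ∈ Γ N₀ ∧
      F = fnMap (ct t) f - algebraMap k (Fn U) (valAt (t ≫ j ≫ p ≫ s) f) := by
    choose Nf tf ff htf hFf using fun F : S => hSR F.2
    refine ⟨Finset.univ.sup Nf, fun F hF => ⟨tf ⟨F, hF⟩, ff ⟨F, hF⟩, ?_, hFf ⟨F, hF⟩⟩⟩
    obtain ⟨d, hd⟩ := Nat.exists_eq_add_of_le (Finset.le_sup (f := Nf) (Finset.mem_univ ⟨F, hF⟩))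
    show tf ⟨F, hF⟩ ^ ℓ ^ Finset.univ.sup Nf = 1
    rw [hd, pow_add, pow_mul, show tf ⟨F, hF⟩ ^ ℓ ^ Nf ⟨F, hF⟩ = 1 from htf ⟨F, hF⟩, one_pow]
  obtain ⟨x, hx⟩ := hstep N₀
  have hkill : ∀ F ∈ Ideal.span R, valAt x F = 0 := by
    intro F hF
    have hle : Ideal.span R ≤ RingHom.ker (valAt x : Fn U →ₐ[k] k) := by
      rw [Ideal.span, hS, Submodule.span_le]
      intro F' hF'
      obtain ⟨t, f, ht, rfl⟩ := hN₀ F' hF'
      show valAt x (_ - _) = 0
      rw [map_sub, AlgHom.commutes, ← valAt_comp, hct, hx t ht, sub_eq_zero]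
      rfl
    exact hle hF
  let g : 𝟙_ (Over (Spec (CommRingCat.of k))) ⟶ B := ptOne.inv ≫ x ≫ u
  refine ⟨g, ?_⟩
  haveI : IsSeparated B.hom := inferInstance
  have hval : ∀ f : Fn B, fnMap (AGF.conjBy g j) f = fnMap (j ≫ p ≫ s) f := by
    intro f
    refine sub_eq_zero.1 ?_
    set a := fnMap (AGF.conjBy g j) f - fnMap (j ≫ p ≫ s) f with ha
    have h0 : valAt (univPt e) a = 0 := by
      refine eq_zero_of_torsion hA hℓ.one_lt hℓk _ fun N φ hφ => ?_
      show φ.ofConv _ = 0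
      rw [← valAt_ptsEquiv, ha, map_sub, ← valAt_comp, ← valAt_comp, sub_eq_zero]
      have hmem : ptsEquiv e φ ∈ Γ N := by
        show ptsEquiv e φ ^ ℓ ^ N = 1
        rw [← map_pow, hφ, map_one]
      have h2 := hkill _ (Ideal.subset_span ⟨N, ptsEquiv e φ, f, hmem, rfl⟩)
      rw [map_sub, AlgHom.commutes, ← valAt_comp, hct, sub_eq_zero] at h2
      have hg : toUnit (pt k k) ≫ g = x ≫ u := by
        show toUnit (pt k k) ≫ ptOne.inv ≫ x ≫ u = x ≫ u
        rw [← Category.assoc, show toUnit (pt k k) ≫ ptOne.inv = 𝟙 (pt k k) by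
          rw [show toUnit (pt k k) = ptOne.hom from toUnit_unique _ _, Iso.hom_inv_id], Category.id_comp]
      rw [comp_conjBy]
      show valAt ((toUnit (pt k k) ≫ g) * _ * (toUnit (pt k k) ≫ g)⁻¹) f = _
      rw [hg]
      exact h2.trans rfl
    refine ext_valAt fun t => ?_
    obtain ⟨φ, rfl⟩ := (ptsEquiv e).surjective t
    rw [valAt_ptsEquiv, h0, map_zero, map_zero]
  refine GrothLib.Rigidity.ext_of_points _ _ fun t => ?_
  have h2 : (ptOne.hom ≫ t) ≫ AGF.conjBy g j = (ptOne.hom ≫ t) ≫ j ≫ p ≫ s :=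
    pt_ext (AlgHom.ext fun f => by rw [valAt_comp, hval f, ← valAt_comp])
  rw [Category.assoc, Category.assoc] at h2
  exact (cancel_epi ptOne.hom).1 h2

end GrothLib.Flag27
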