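import Groth.Agent.Lib.Flag27.CentMax
import Groth.Agent.Lib.Flag27.RegularPt
import Groth.Agent.Lib.Flag27.TorusConj
import Groth.Agent.Lib.Flag27.BorelPairs
import Groth.Agent.Lib.Conj27.Main
import Groth.Agent.S3279

/-!
# The conjugates of a Cartan subgroup
-/

set_option autoImplicit false
set_option linter.all false
set_option backward.isDefEq.respectTransparency false

universe u

open CategoryTheory CategoryTheory.Limits MonoidalCategory CartesianMonoidalCategory MonObj GrpObj AlgebraicGeometry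
open VecGrp WithConv

namespace GrothLib.Flag27

open GrothLib.Repr GrothLib.MultHopf14 GrothLib.CentMT14

variable {k : Type u} [Field k] [IsAlgClosed k]
  {G : Over (Spec (CommRingCat.of k))} [GrpObj G] [IsAffine G.left] [Smooth G.hom] [ConnectedSpace G.left]

omit [ConnectedSpace G.left] [Smooth G.hom] in
/-- A torus has finitely many rational points of a given order. -/
theorem finite_torsion_pts [LocallyOfFiniteType G.hom] {T : Over (Spec (CommRingCat.of k))} [GrpObj T]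
    (iT : T ⟶ G) [IsMonHom iT] [Mono iT] (hT : Red.IsTorus T) {n : ℕ} (hn : 0 < n) :
    Set.Finite {t : 𝟙_ (Over (Spec (CommRingCat.of k))) ⟶ T | t ^ n = 1} := by
  obtain ⟨-, hTa, hTs, hTconn⟩ := torus_facts hT iT
  haveI := hTa; haveI := hTs; haveI := hTconn
  obtain ⟨K, _, _, ⟨eT⟩⟩ := exists_hopf T (isAffineHom_of_isAffine _)
  haveI := finiteType_of_grpIso eT
  have hK : HopfRep.IsDiagonalizable k K := by
    obtain ⟨L, _, _, hL⟩ := exists_split_functions eT hT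
    haveI : Coalgebra.IsCocomm k K := NoPrim.isCocomm_of_isDiagonalizable L hL
    exact NoPrim.isDiagonalizable_of_isAlgClosed (TorusPrim24.noPrimElt_of_isTorus eT hT)
  refine ((finite_torsion hK hn).image fun φ => ptOne.inv ≫ ptsEquiv eT φ).subset fun t ht => ?_
  refine ⟨(ptsEquiv eT).symm (ptOne.hom ≫ t), ?_, ?_⟩
  · show ((ptsEquiv eT).symm (ptOne.hom ≫ t)) ^ n = 1
    rw [← map_pow, ← MonObj.comp_pow, show t ^ n = 1 from ht, MonObj.comp_one, map_one]
  · show ptOne.inv ≫ ptsEquiv eT ((ptsEquiv eT).symm (ptOne.hom ≫ t)) = t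
    rw [MulEquiv.apply_symm_apply, Iso.inv_hom_id_assoc]

/-- A subtorus lies in some Borel subgroup. -/
theorem exists_borel_containing {T : Over (Spec (CommRingCat.of k))} [GrpObj T] (iT : T ⟶ G) [IsMonHom iT] [Mono iT]
    (hT : Red.IsTorus T) :
    ∃ (B : Over (Spec (CommRingCat.of k))) (_ : GrpObj B) (iB : B ⟶ G) (t : T ⟶ B),
      Red.IsBorelOver k iB ∧ t ≫ iB = iT := by
  obtain ⟨B, _, i, hB, hU⟩ := exists_borel (G := G)
  obtain ⟨hTc, hTa, hTs, hTconn⟩ := torus_facts hT iT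
  haveI := hTc; haveI := hTa; haveI := hTs; haveI := hTconn
  obtain ⟨hi, hic, hBsm, hBc, hBsolv, -⟩ := id hB
  haveI := hi; haveI := hic; haveI := hBsm; haveI := hBc
  obtain ⟨X, a, o, hX, hXp⟩ := isProper_quotient_good hU
  haveI := hXp
  obtain ⟨g, l, hl⟩ := exists_conj_into a o hX iT
    (isSolvable_of_comm fun x y => GrothLib.RankCell14.comm_torus hT x y)
  haveI : IsMonHom (AGF.conjBy g⁻¹ i) := isMonHom_conjBy g⁻¹ i
  haveI : IsClosedImmersion (AGF.conjBy g⁻¹ i).left := isClosedImmersion_conjBy g⁻¹ i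
  refine ⟨B, inferInstance, AGF.conjBy g⁻¹ i, l, ?_, ?_⟩
  · exact isBorelOver_conjBy hB hBsolv (Iso.refl B) g⁻¹ (by simp)
  · rw [comp_conjBy', hl, conjBy_conjBy, inv_mul_cancel, conjBy_one]

/-- The centralizer of a maximal torus has solvable group of points. -/
theorem isSolvable_centralizer {T C : Over (Spec (CommRingCat.of k))} [GrpObj T] [GrpObj C] {iT : T ⟶ G}
    (hT : AGF.IsMaxTorus iT) {c : C ⟶ G} (hc : Red.IsCentralizerOf iT c) :
    IsSolvable (𝟙_ (Over (Spec (CommRingCat.of k))) ⟶ C) := by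
  obtain ⟨hTm, hTmono, hTt, -⟩ := id hT
  haveI := hTm; haveI := hTmono
  obtain ⟨B, _, iB, t, hB, ht⟩ := exists_borel_containing iT hTt
  obtain ⟨f, hf⟩ := exists_factor_centralizer hT hc hB t ht
  obtain ⟨hBm, hBc, -, -, hBsolv, -⟩ := id hB
  haveI := hBm; haveI := hBc
  obtain ⟨hcm, hcmono, -⟩ := id hc
  haveI := hcm; haveI := hcmono
  haveI : IsMonHom (f ≫ iB) := by rw [hf]; exact hcm
  haveI : Mono iB := Over.mono_of_mono_left iB
  haveI : IsMonHom f := GrothLib.CentMT14.isMonHom_of_comp f iB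
  haveI : Mono (f ≫ iB) := by rw [hf]; exact hcmono
  haveI : Mono f := mono_of_mono f iB
  haveI : Group.IsSolvable (𝟙_ (Over (Spec (CommRingCat.of k))) ⟶ B) := isSolvable_points hBsolv
  exact solvable_of_solvable_injective (f := MonoidHom.mk'
    (fun v : 𝟙_ (Over (Spec (CommRingCat.of k))) ⟶ C => v ≫ f) fun v w => MonObj.mul_comp v w f)
    fun v w h => (cancel_mono f).1 h

/-- Points of the centralizer of a maximal torus of order invertible in the field lie in the torus. -/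
theorem mem_torus_of_pow_eq_one {T C : Over (Spec (CommRingCat.of k))} [GrpObj T] [GrpObj C] {iT : T ⟶ G}
    (hT : AGF.IsMaxTorus iT) {c : C ⟶ G} (hc : Red.IsCentralizerOf iT c) {n : ℕ} (hn : (n : k) ≠ 0)
    (v : 𝟙_ (Over (Spec (CommRingCat.of k))) ⟶ C) (hv : v ^ n = 1) :
    ∃ t : 𝟙_ (Over (Spec (CommRingCat.of k))) ⟶ T, t ^ n = 1 ∧ t ≫ iT = v ≫ c := by
  obtain ⟨hTm, hTmono, hTt, hmax⟩ := id hT
  haveI := hTm; haveI := hTmono
  obtain ⟨hcc, hCa, hCs, hCconn⟩ := centralizer_facts iT hTt hc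
  haveI := hcc; haveI := hCa; haveI := hCs; haveI := hCconn
  obtain ⟨hcm, hcmono, hciff⟩ := id hc
  haveI := hcm; haveI := hcmono
  obtain ⟨tC, htC⟩ := (hciff _ iT).2 fun X x h => by
    rw [← MonObj.mul_comp, ← MonObj.mul_comp, GrothLib.RankCell14.comm_torus hTt (x) h]
  haveI : IsMonHom (tC ≫ c) := by rw [htC]; infer_instance
  haveI : IsMonHom tC := GrothLib.CentMT14.isMonHom_of_comp tC c
  haveI : Mono (tC ≫ c) := by rw [htC]; infer_instance
  haveI : Mono tC := mono_of_mono tC c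
  have hTC : AGF.IsMaxTorus tC := by
    refine ⟨inferInstance, inferInstance, hTt, fun T' _ j _ _ f hT' hf => ?_⟩
    exact hmax T' (j ≫ c) f hT' (by rw [reassoc_of% hf, htC])
  have hcentral : ∀ (X : Over (Spec (CommRingCat.of k))) (g : X ⟶ C) (w : X ⟶ T),
      g * (w ≫ tC) = (w ≫ tC) * g := fun X g w => by
    rw [← cancel_mono c, MonObj.mul_comp, MonObj.mul_comp, Category.assoc, htC]
    have := (hciff _ (g ≫ c)).1 ⟨g, rfl⟩ X (𝟙 X) w
    rwa [Category.id_comp] at this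
  have hsolv := isSolvable_centralizer hT hc
  haveI : IsClosedImmersion (𝟙 C : C ⟶ C).left := by
    show IsClosedImmersion (𝟙 C.left); infer_instance
  have hBC : Red.IsBorelOver k (𝟙 C) := by
    refine ⟨inferInstance, inferInstance, hCs, hCconn, isSolvableGrp_of_points hsolv, ?_⟩
    intro B' _ i' _ f hic' hsm' hc' hs' hf
    haveI := hic'
    haveI : Mono i' := Over.mono_of_mono_left i'
    exact ⟨i', hf, by rw [← cancel_mono i', Category.assoc, hf, Category.comp_id, Category.id_comp]⟩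
  obtain ⟨D, _, U, _, p, s, u, r, hp, hs, hu, hsp, hDt, hDa, hDs, -, huc, hup, -, hru, hUu, hUs, -⟩ :=
    hasSplit_of_solvable hsolv
  haveI := hp; haveI := hs; haveI := hu; haveI := huc; haveI := hUs
  haveI : Mono u := Over.mono_of_mono_left u
  obtain ⟨hiso, h, hh⟩ := exists_iso_section_in_borel hBC p s u r hsp hup hru hUu hDt tC hTC tC (Category.comp_id _)
  haveI := hiso
  have htps : tC ≫ p ≫ s = tC := by
    have e := hcentral T (toUnit T ≫ h) (𝟙 T)
    rw [Category.id_comp] at e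
    rw [← hh, AGF.conjBy, e, mul_inv_cancel_right]
  obtain ⟨t, ht_def⟩ : ∃ t, t = v ≫ p ≫ inv (tC ≫ p) := ⟨_, rfl⟩
  haveI : IsMonHom (inv (tC ≫ p) ≫ tC ≫ p) := by rw [IsIso.inv_hom_id]; infer_instance
  haveI : IsMonHom (inv (tC ≫ p)) := GrothLib.CentMT14.isMonHom_of_comp (inv (tC ≫ p)) (tC ≫ p)
  have ht : t ^ n = 1 := by
    rw [ht_def, ← MonObj.pow_comp, hv, MonObj.one_comp]
  refine ⟨t, ht, ?_⟩
  have htv : t ≫ tC = v ≫ p ≫ s := by
    calc t ≫ tC = t ≫ (tC ≫ p) ≫ s := by rw [Category.assoc, htps]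
      _ = v ≫ p ≫ s := by
        rw [ht_def, Category.assoc, Category.assoc, IsIso.inv_hom_id_assoc]
  have hw : (v ≫ r) ≫ u = v * (t ≫ tC)⁻¹ := by
    rw [htv, Category.assoc, hru, MonObj.comp_mul, Category.comp_id, GrpObj.comp_inv]
  have hcomm : Commute v (t ≫ tC)⁻¹ := Commute.inv_right (hcentral _ v t)
  have hwn : ((v ≫ r) ^ n) = 1 := by
    rw [← cancel_mono u, MonObj.pow_comp, hw, hcomm.mul_pow, hv, _root_.one_mul, inv_pow, ← MonObj.pow_comp, ht,
      MonObj.one_comp, inv_one, MonObj.one_comp]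
  have hw1 : v ≫ r = 1 := by
    have h1 : ptOne.hom ≫ v ≫ r = 1 := (hUu.bijective_pow hn).1 (by
      show (ptOne.hom ≫ v ≫ r) ^ n = 1 ^ n
      rw [one_pow, ← MonObj.comp_pow, hwn, MonObj.comp_one])
    rw [← cancel_epi ptOne.hom, h1, MonObj.comp_one]
  rw [hw1, MonObj.one_comp, eq_comm, mul_inv_eq_one] at hw
  rw [hw, Category.assoc, htC]

set_option maxHeartbeats 800000 in
/-- The conjugates of the centralizer of a maximal torus contain an open set. -/
theorem exists_open_subset_cartan {T C : Over (Spec (CommRingCat.of k))} [GrpObj T] [GrpObj C] {iT : T ⟶ G}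
    (hT : AGF.IsMaxTorus iT) {c : C ⟶ G} (hc : Red.IsCentralizerOf iT c) :
    ∃ U : G.left.Opens, (U : Set G.left).Nonempty ∧ (U : Set G.left) ⊆ Set.range (Conj27.conjMap c).left.base := by
  obtain ⟨hTm, hTmono, hTt, -⟩ := id hT
  haveI := hTm; haveI := hTmono
  obtain ⟨hcc, hCa, hCs, hCconn⟩ := centralizer_facts iT hTt hc
  haveI := hcc; haveI := hCa; haveI := hCs; haveI := hCconn
  obtain ⟨hcm, hcmono, hciff⟩ := id hc
  haveI := hcm; haveI := hcmono
  obtain ⟨X, a, o, h₁, -, h₂, h₃, h₄⟩ := Groth.Agent.S3279.result k G C c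
  have hX : AGF.IsQuotient c X a o := ⟨h₁, h₂, h₃, h₄⟩
  haveI := h₁; haveI := h₃
  obtain ⟨ℓ, hℓ, hℓk⟩ := exists_prime_invertible (k := k)
  obtain ⟨N, s, hsN, hs⟩ := exists_regular_pt iT hTt hℓ.one_lt hℓk
  let n := ℓ ^ N
  have hn : (n : k) ≠ 0 := by simp only [n, Nat.cast_pow]; exact pow_ne_zero _ hℓk
  have hn0 : 0 < n := Nat.pow_pos hℓ.pos
  obtain ⟨h₀, hh₀⟩ := (hciff _ (s ≫ iT)).2 fun X' x h => by
    rw [← Category.assoc, ← MonObj.mul_comp, ← MonObj.mul_comp, GrothLib.RankCell14.comm_torus hTt (x ≫ s) h]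
  refine Conj27.exists_open_subset c hX h₀ ?_
  have hid : toUnit (𝟙_ (Over (Spec (CommRingCat.of k)))) = 𝟙 _ := toUnit_unique _ _
  have hmem : ∀ z : 𝟙_ (Over (Spec (CommRingCat.of k))) ⟶ G, z * (s ≫ iT) = (s ≫ iT) * z → ∃ w, w ≫ c = z :=
    fun z hz => (hciff _ z).2 (hs _ z (by rw [hid, Category.id_comp]; exact hz))
  refine ((finite_torsion_pts iT hTt hn0).biUnion
    (t := fun t => {x | ∃ g : 𝟙_ (Over (Spec (CommRingCat.of k))) ⟶ G,
      g ≫ a.orbitMap o = x ∧ g⁻¹ * (s ≫ iT) * g = t ≫ iT}) fun t _ => Set.Subsingleton.finite ?_).subset ?_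
  · rintro x ⟨g, rfl, hg⟩ y ⟨g₁, rfl, hg₁⟩
    have hz : (g * g₁⁻¹) * (s ≫ iT) = (s ≫ iT) * (g * g₁⁻¹) := by
      calc (g * g₁⁻¹) * (s ≫ iT) = g * (g₁⁻¹ * (s ≫ iT) * g₁) * g₁⁻¹ := by group
        _ = g * (g⁻¹ * (s ≫ iT) * g) * g₁⁻¹ := by rw [hg₁, hg]
        _ = (s ≫ iT) * (g * g₁⁻¹) := by group
    obtain ⟨z, hzc⟩ := hmem _ hz
    haveI : IsReduced C.left := GrothLib.RedSmooth.isReduced_of_smooth C.hom
    obtain ⟨φ, hφ⟩ := exists_lift_of_pts (AGF.conjBy g₁ c) c fun v => hmem _ (by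
      have h1 : (v ≫ c) * (t ≫ iT) = (t ≫ iT) * (v ≫ c) := by
        have := (hciff _ (v ≫ c)).1 ⟨v, rfl⟩ _ (𝟙 _) t
        rwa [Category.id_comp] at this
      rw [comp_conjBy', AGF.conjBy, hid, Category.id_comp]
      have h2 : s ≫ iT = g₁ * (t ≫ iT) * g₁⁻¹ := by rw [← hg₁]; group
      rw [h2]
      calc g₁ * (v ≫ c) * g₁⁻¹ * (g₁ * (t ≫ iT) * g₁⁻¹) = g₁ * ((v ≫ c) * (t ≫ iT)) * g₁⁻¹ := by group
        _ = g₁ * ((t ≫ iT) * (v ≫ c)) * g₁⁻¹ := by rw [h1]
        _ = g₁ * (t ≫ iT) * g₁⁻¹ * (g₁ * (v ≫ c) * g₁⁻¹) := by group)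
    haveI : IsClosedImmersion (φ.left ≫ c.left) := by
      rw [← Over.comp_left, hφ]; exact isClosedImmersion_conjBy g₁ c
    haveI : IsClosedImmersion φ.left := IsClosedImmersion.of_comp φ.left c.left
    haveI : IsIso φ := isIso_of_endo φ φ
    refine (Conj27.orbitMap_eq_iff c hX g₁ g).2 ⟨z ≫ inv φ, ?_⟩ |>.symm
    have h3 : z ≫ c = g₁ * ((z ≫ inv φ) ≫ c) * g₁⁻¹ := by
      conv_lhs => rw [show z = (z ≫ inv φ) ≫ φ by rw [Category.assoc, IsIso.inv_hom_id, Category.comp_id]]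
      rw [Category.assoc _ φ c, hφ, comp_conjBy', AGF.conjBy, hid, Category.id_comp]
    calc g₁ * ((z ≫ inv φ) ≫ c) = g₁ * ((z ≫ inv φ) ≫ c) * g₁⁻¹ * g₁ := by group
      _ = g := by rw [← h3, hzc, inv_mul_cancel_right]
  · intro x hx
    obtain ⟨g, -, rfl⟩ := exists_cl_lift (a.orbitMap o) (E := Set.univ) isClosed_univ.isLocallyClosed (w := x)
      (by rw [Set.image_univ]; exact (a.orbitMap o).left.surjective _)
    have h1 : lift (h₀ ≫ c) (g ≫ a.orbitMap o) ≫ a.act = ((h₀ ≫ c) * g) ≫ a.orbitMap o := by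
      rw [GrothLib.FlatFactor.comp_orbitMap, GrothLib.FlatFactor.comp_orbitMap, GrothLib.DiagGrp.act_mul]
    have h2 : ((h₀ ≫ c) * g) ≫ a.orbitMap o = g ≫ a.orbitMap o := h1.symm.trans hx
    obtain ⟨v, hv⟩ := (Conj27.orbitMap_eq_iff c hX g ((h₀ ≫ c) * g)).1 h2.symm
    have hvc : v ≫ c = g⁻¹ * (s ≫ iT) * g := by
      rw [← hh₀, _root_.mul_assoc, ← hv, inv_mul_cancel_left]
    have hvn : v ^ n = 1 := by
      rw [← cancel_mono c, MonObj.pow_comp, hvc, MonObj.one_comp]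
      have e : ∀ w : 𝟙_ (Over (Spec (CommRingCat.of k))) ⟶ G, w ^ n = 1 → (g⁻¹ * w * g) ^ n = 1 := fun w hw => by
        rw [show g⁻¹ * w * g = g⁻¹ * w * g⁻¹⁻¹ by rw [_root_.inv_inv], conj_pow, hw]
        group
      exact e _ (by rw [← MonObj.pow_comp, hsN, MonObj.one_comp])
    obtain ⟨t, ht, htc⟩ := mem_torus_of_pow_eq_one hT hc hn v hvn
    exact Set.mem_iUnion₂.2 ⟨t, ht, g, rfl, (htc.trans hvc).symm⟩

end GrothLib.Flag27
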