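import Groth.Agent.Lib.Flag27.Cartan

/-!
# A connected group is the union of its Borel subgroups
-/

set_option autoImplicit false
set_option linter.all false
set_option backward.isDefEq.respectTransparency false

universe u

open CategoryTheory CategoryTheory.Limits MonoidalCategory CartesianMonoidalCategory MonObj GrpObj AlgebraicGeometry

namespace GrothLib.Flag27

variable {k : Type u} [Field k] [IsAlgClosed k]
  {G : Over (Spec (CommRingCat.of k))} [GrpObj G] [IsAffine G.left] [Smooth G.hom] [ConnectedSpace G.left]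

/-- The section of a split Borel subgroup is a maximal torus. -/
theorem isMaxTorus_section {B D U : Over (Spec (CommRingCat.of k))} [GrpObj B] [GrpObj D] [GrpObj U]
    {iB : B ⟶ G} (hB : Red.IsBorelOver k iB) (p : B ⟶ D) (s : D ⟶ B) (u : U ⟶ B) (r : B ⟶ U)
    [IsMonHom p] [IsMonHom s] [IsMonHom u] [IsClosedImmersion u.left] [Smooth U.hom]
    (hsp : s ≫ p = 𝟙 D) (hup : u ≫ p = 1) (hru : r ≫ u = 𝟙 B * (p ≫ s)⁻¹) (hU : IsUnip k U) (hD : Red.IsTorus D) :
    AGF.IsMaxTorus (s ≫ iB) := by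
  obtain ⟨hi, hic, -⟩ := id hB
  haveI := hi; haveI := hic
  haveI : Mono iB := Over.mono_of_mono_left iB
  haveI : IsSplitMono s := IsSplitMono.mk' ⟨p, hsp⟩
  haveI : Mono (s ≫ iB) := inferInstance
  obtain ⟨hDc, hDa, hDs, hDconn⟩ := torus_facts hD (s ≫ iB)
  haveI := hDc; haveI := hDa; haveI := hDs; haveI := hDconn
  refine ⟨inferInstance, inferInstance, hD, fun T' _ j _ _ f hT' hf => ?_⟩
  obtain ⟨hTc, hTa, hTs, hTconn⟩ := torus_facts hT' j
  haveI := hTc; haveI := hTa; haveI := hTs; haveI := hTconn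
  obtain ⟨g, f', hf'⟩ := exists_conj_into_section hB p s u r hsp hup hru hU hT' j
  haveI : IsClosedImmersion (f'.left ≫ (s ≫ iB).left) := by
    rw [← Over.comp_left, hf']; exact isClosedImmersion_conjBy g j
  haveI : IsClosedImmersion f'.left := IsClosedImmersion.of_comp f'.left (s ≫ iB).left
  haveI : IsClosedImmersion (f.left ≫ j.left) := by rw [← Over.comp_left, hf]; exact hDc
  haveI : IsClosedImmersion f.left := IsClosedImmersion.of_comp f.left j.left
  exact isIso_of_endo f f'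

/-- Maximal tori exist. -/
theorem exists_maxTorus : ∃ (T : Over (Spec (CommRingCat.of k))) (_ : GrpObj T) (iT : T ⟶ G), AGF.IsMaxTorus iT := by
  obtain ⟨B, _, iB, hB, -⟩ := exists_borel (G := G)
  obtain ⟨hi, hic, hBsm, hBconn, hBsolv, -⟩ := id hB
  haveI := hi; haveI := hic; haveI := hBsm; haveI := hBconn
  haveI : IsAffine B.left := isAffine_of_isAffineHom iB.left
  obtain ⟨D, _, U, _, p, s, u, r, hp, hs, hu, hsp, hDt, hDa, hDs, -, huc, hup, -, hru, hUu, hUs, -⟩ :=
    hasSplit_of_solvable (isSolvable_points hBsolv)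
  haveI := hp; haveI := hs; haveI := hu; haveI := huc; haveI := hUs
  exact ⟨D, inferInstance, s ≫ iB, isMaxTorus_section hB p s u r hsp hup hru hUu hDt⟩

omit [IsAlgClosed k] [IsAffine G.left] [Smooth G.hom] [ConnectedSpace G.left] in
theorem conjBy_pt (g v : 𝟙_ (Over (Spec (CommRingCat.of k))) ⟶ G) : AGF.conjBy g v = g * v * g⁻¹ := by
  rw [AGF.conjBy, toUnit_unique (toUnit _) (𝟙 _), Category.id_comp]

set_option maxHeartbeats 800000 in
/-- A connected group is the union of the conjugates of a Borel subgroup. -/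
theorem exists_conj_mem_borel {B : Over (Spec (CommRingCat.of k))} [GrpObj B] {iB : B ⟶ G}
    (hB : Red.IsBorelOver k iB) (g : 𝟙_ (Over (Spec (CommRingCat.of k))) ⟶ G) :
    ∃ (x : 𝟙_ (Over (Spec (CommRingCat.of k))) ⟶ G) (b : 𝟙_ (Over (Spec (CommRingCat.of k))) ⟶ B),
      x * (b ≫ iB) * x⁻¹ = g := by
  obtain ⟨hBm, hBc, hBsm, hBconn, -⟩ := id hB
  haveI := hBm; haveI := hBc; haveI := hBsm; haveI := hBconn
  obtain ⟨T, _, iT, hT⟩ := exists_maxTorus (G := G)
  obtain ⟨hTm, hTmono, hTt, -⟩ := id hT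
  haveI := hTm; haveI := hTmono
  obtain ⟨C, _, c, hc, -⟩ := GrothLib.MultDef14.exists_centralizer
    (GrothLib.DiagGrp.hasChartsFpqc_of_isTorus hTt) (inferInstance : Smooth G.hom) (isAffineHom_of_isAffine _) iT
  obtain ⟨U, hUne, hU⟩ := exists_open_subset_cartan hT hc
  obtain ⟨B₁, _, iB₁, t, hB₁, ht⟩ := exists_borel_containing iT hTt
  obtain ⟨l, hl⟩ := exists_factor_centralizer hT hc hB₁ t ht
  obtain ⟨h, e, he⟩ := borel_conj hB₁ hB
  obtain ⟨hcc, hCa, hCs, hCconn⟩ := centralizer_facts iT hTt hc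
  haveI := hcc; haveI := hCa; haveI := hCs
  obtain ⟨X, a, o, hX, hXp⟩ := isProper_quotient_good (uc_of_borel hB)
  haveI := hXp
  haveI : LocallyOfFiniteType (G ⊗ B).hom := by
    show LocallyOfFiniteType (pullback.fst G.hom B.hom ≫ G.hom); infer_instance
  haveI : LocallyOfFiniteType (G ⊗ C).hom := by
    show LocallyOfFiniteType (pullback.fst G.hom C.hom ≫ G.hom); infer_instance
  let R := Set.range (Conj27.conjMap iB).left.base
  have hR : IsClosed R := Conj27.isClosed_range iB hX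
  have huniv : (Set.univ : Set G.left) ⊆ R ∪ (U : Set G.left)ᶜ := by
    refine subset_of_cl isClosed_univ (hR.union U.2.isClosed_compl) fun z _ => ?_
    by_cases hz : cl z ∈ (U : Set G.left)
    · refine Or.inl ?_
      obtain ⟨p, -, hp⟩ := exists_cl_lift (Conj27.conjMap c) (E := Set.univ)
        isClosed_univ.isLocallyClosed (w := z) (by rw [Set.image_univ]; exact hU hz)
      have hpz : (p ≫ fst G C) * ((p ≫ snd G C) ≫ c) * (p ≫ fst G C)⁻¹ = z := by
        rw [← Conj27.comp_conjMap, lift_comp_fst_snd, hp]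
      have hy : (p ≫ snd G C) ≫ c = h⁻¹ * ((((p ≫ snd G C) ≫ l) ≫ e.hom) ≫ iB) * h := by
        have e1 := congrArg (((p ≫ snd G C) ≫ l) ≫ ·) he
        simp only [Category.assoc, comp_conjBy', conjBy_pt, hl] at e1
        simp only [Category.assoc]
        rw [e1]; group
      refine ⟨cl (lift ((p ≫ fst G C) * h⁻¹) (((p ≫ snd G C) ≫ l) ≫ e.hom)), ?_⟩
      rw [← cl_comp, Conj27.comp_conjMap, ← hpz, hy]
      congr 1
      group
    · exact Or.inr hz
  haveI : IrreducibleSpace G.left := GrothLib.Rigidity.irreducibleSpace_of_connected G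
  have hdense : Dense (U : Set G.left) := U.2.dense hUne
  have hUR : (U : Set G.left) ⊆ R := fun y hy => (huniv (Set.mem_univ y)).resolve_right (fun hn => hn hy)
  have hall : R = Set.univ := by
    rw [← Set.univ_subset_iff, ← hdense.closure_eq]
    exact closure_minimal hUR hR
  obtain ⟨p, -, hp⟩ := exists_cl_lift (Conj27.conjMap iB) (E := Set.univ) isClosed_univ.isLocallyClosed (w := g)
    (by rw [Set.image_univ]; exact hall.ge (Set.mem_univ _))
  exact ⟨p ≫ fst G B, p ≫ snd G B, by rw [← Conj27.comp_conjMap, lift_comp_fst_snd, hp]⟩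

/-- A solvable connected subgroup lies in some Borel subgroup. -/
theorem exists_borel_containing_solvable {H : Over (Spec (CommRingCat.of k))} [GrpObj H] (j : H ⟶ G) [IsMonHom j]
    [IsClosedImmersion j.left] [Smooth H.hom] [ConnectedSpace H.left] (hs : Red.IsSolvableGrp H) :
    ∃ (B : Over (Spec (CommRingCat.of k))) (_ : GrpObj B) (iB : B ⟶ G) (f : H ⟶ B),
      Red.IsBorelOver k iB ∧ f ≫ iB = j := by
  obtain ⟨B, _, i, hB, hU⟩ := exists_borel (G := G)
  obtain ⟨hi, hic, hBsm, hBc, hBsolv, -⟩ := id hB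
  haveI := hi; haveI := hic; haveI := hBsm; haveI := hBc
  obtain ⟨X, a, o, hX, hXp⟩ := isProper_quotient_good hU
  haveI := hXp
  obtain ⟨g, l, hl⟩ := exists_conj_into a o hX j (isSolvable_points hs)
  haveI : IsMonHom (AGF.conjBy g⁻¹ i) := isMonHom_conjBy g⁻¹ i
  haveI : IsClosedImmersion (AGF.conjBy g⁻¹ i).left := isClosedImmersion_conjBy g⁻¹ i
  refine ⟨B, inferInstance, AGF.conjBy g⁻¹ i, l, ?_, ?_⟩
  · exact isBorelOver_conjBy hB hBsolv (Iso.refl B) g⁻¹ (by simp)
  · rw [comp_conjBy', hl, conjBy_conjBy, inv_mul_cancel, conjBy_one]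

set_option maxHeartbeats 800000 in
/-- A point centralizing a torus lies with it in a Borel subgroup. -/
theorem exists_borel_torus_pt {S : Over (Spec (CommRingCat.of k))} [GrpObj S] (iS : S ⟶ G) [IsMonHom iS] [Mono iS]
    (hS : Red.IsTorus S) (v : 𝟙_ (Over (Spec (CommRingCat.of k))) ⟶ G)
    (hv : ∀ (X : Over (Spec (CommRingCat.of k))) (s : X ⟶ S), (toUnit X ≫ v) * (s ≫ iS) = (s ≫ iS) * (toUnit X ≫ v)) :
    ∃ (B : Over (Spec (CommRingCat.of k))) (_ : GrpObj B) (iB : B ⟶ G) (_ : Red.IsBorelOver k iB) (t : S ⟶ B)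
      (b : 𝟙_ (Over (Spec (CommRingCat.of k))) ⟶ B), t ≫ iB = iS ∧ b ≫ iB = v := by
  obtain ⟨C, _, c, hc, -⟩ := GrothLib.MultDef14.exists_centralizer
    (GrothLib.DiagGrp.hasChartsFpqc_of_isTorus hS) (inferInstance : Smooth G.hom) (isAffineHom_of_isAffine _) iS
  obtain ⟨hcc, hCa, hCs, hCconn⟩ := centralizer_facts iS hS hc
  haveI := hcc; haveI := hCa; haveI := hCs; haveI := hCconn
  obtain ⟨hcm, hcmono, hciff⟩ := id hc
  haveI := hcm; haveI := hcmono
  obtain ⟨w, hw⟩ := (hciff _ v).2 fun X x s => by rw [toUnit_unique x (toUnit X)]; exact hv X s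
  obtain ⟨tC, htC⟩ := (hciff _ iS).2 fun X x h => by
    rw [← MonObj.mul_comp, ← MonObj.mul_comp, GrothLib.RankCell14.comm_torus hS (x) h]
  haveI : IsMonHom (tC ≫ c) := by rw [htC]; infer_instance
  haveI : IsMonHom tC := GrothLib.CentMT14.isMonHom_of_comp tC c
  haveI : Mono (tC ≫ c) := by rw [htC]; infer_instance
  haveI : Mono tC := mono_of_mono tC c
  obtain ⟨D, _, iD, t, hD, ht⟩ := exists_borel_containing tC hS
  obtain ⟨x, d, hxd⟩ := exists_conj_mem_borel hD w
  obtain ⟨hDm, hDc, hDsm, hDconn, hDsolv, -⟩ := id hD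
  haveI := hDm; haveI := hDc; haveI := hDsm; haveI := hDconn
  let j : D ⟶ G := AGF.conjBy (x ≫ c) (iD ≫ c)
  haveI : IsClosedImmersion (iD ≫ c).left := by rw [Over.comp_left]; infer_instance
  haveI : IsMonHom j := isMonHom_conjBy (x ≫ c) (iD ≫ c)
  haveI : IsClosedImmersion j.left := isClosedImmersion_conjBy (x ≫ c) (iD ≫ c)
  obtain ⟨B, _, iB, f, hB, hf⟩ := exists_borel_containing_solvable j hDsolv
  refine ⟨B, inferInstance, iB, hB, t ≫ f, d ≫ f, ?_, ?_⟩
  · rw [Category.assoc, hf]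
    show t ≫ AGF.conjBy (x ≫ c) (iD ≫ c) = iS
    rw [comp_conjBy', reassoc_of% ht, htC, AGF.conjBy]
    have := (hciff _ (x ≫ c)).1 ⟨x, rfl⟩ S (toUnit S) (𝟙 S)
    rw [Category.id_comp] at this
    rw [this, mul_inv_cancel_right]
  · rw [Category.assoc, hf]
    show d ≫ AGF.conjBy (x ≫ c) (iD ≫ c) = v
    rw [comp_conjBy', conjBy_pt, ← hw, ← hxd, MonObj.mul_comp, MonObj.mul_comp, GrpObj.inv_comp, Category.assoc]

end GrothLib.Flag27
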