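import Groth.Agent.Lib.Flag27.ParabolicBC
import Groth.Agent.Lib.FibreFlat.Fibrewise

/-!
# Parabolic subgroups over a base are their own normalizers
-/

set_option autoImplicit false
set_option linter.all false
set_option backward.isDefEq.respectTransparency false

universe u

open CategoryTheory CategoryTheory.Limits MonoidalCategory CartesianMonoidalCategory MonObj GrpObj AlgebraicGeometry

namespace GrothLib.Flag27

open GrothLib.DiagGrp

variable {S : Scheme.{u}} {G P : Over S} [GrpObj G] [GrpObj P]

/-- An isomorphism on a geometric fibre is one on the fibre. -/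
theorem isIso_fibre_of_geom {A B : Over S} (v : A ⟶ B) [IsClosedImmersion v.left] (s : S)
    (h : IsIso ((Over.pullback (Red.geomPt s)).map v)) : IsIso (pullback.snd v.left (B.hom.fiberι s)) := by
  let σ : Spec (CommRingCat.of (AlgebraicClosure (S.residueField s))) ⟶ Spec (S.residueField s) :=
    Spec.map (CommRingCat.ofHom (algebraMap (S.residueField s) (AlgebraicClosure (S.residueField s))))
  let v' := (Over.pullback (S.fromSpecResidueField s)).map v
  have h' : IsIso ((Over.pullback σ).map v') :=
    (NatIso.isIso_map_iff (Over.pullbackComp σ (S.fromSpecResidueField s)) v).1 h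
  haveI : IsClosedImmersion v'.left :=
    MorphismProperty.of_isPullback (P := @IsClosedImmersion) (isPullback_overMap v (S.fromSpecResidueField s)).flip ‹_›
  haveI : Surjective σ := surjective_to_field σ
  haveI : Flat σ := flat_to_field σ
  haveI : IsIso ((Over.pullback σ).map v').left :=
    inferInstanceAs (IsIso ((Over.forget _).map ((Over.pullback σ).map v')))
  haveI : IsIso v'.left := MonoMT14.isIso_of_bc σ v' inferInstance
  have e := (isPullback_overMap v (S.fromSpecResidueField s)).flip
  exact (MorphismProperty.arrow_mk_iso_iff (MorphismProperty.isomorphisms Scheme.{u})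
    (Arrow.isoMk e.isoPullback (Iso.refl _) (by
      simp only [Arrow.mk_hom, Iso.refl_hom]
      exact (IsPullback.isoPullback_hom_snd e).trans (Category.comp_id _).symm))).1 ‹IsIso v'.left›

set_option maxHeartbeats 1600000 in
/-- A parabolic subgroup of a group with connected affine geometric fibres is its own normalizer. -/
theorem isNormalizerOf_parabolic_base (hG : Smooth G.hom) (hGa : IsAffineHom G.hom)
    (hconn : ∀ s : S, ConnectedSpace (Red.bc (Red.geomPt s) G).left) {i : P ⟶ G} (hP : Red.IsParabolic i) :
    Red.IsNormalizerOf i i := by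
  obtain ⟨hm, hc, hs, hgeo⟩ := hP
  haveI := hm; haveI := hc; haveI := hs; haveI := hG; haveI := hGa
  haveI : Mono i := Over.mono_of_mono_left i
  have hfib : ∀ s : S, IsAffine (Red.bc (Red.geomPt s) G).left ∧ Smooth (Red.bc (Red.geomPt s) G).hom := fun s =>
    ⟨@isAffine_of_isAffineHom _ _ (pullback.snd G.hom (Red.geomPt s))
      (MorphismProperty.pullback_snd _ _ hGa) inferInstance, inferInstanceAs (Smooth (pullback.snd _ _))⟩
  have hgc : ∀ s : S, ConnectedSpace (Red.bc (Red.geomPt s) P).left := fun s => by
    obtain ⟨hm', hc', hs', B', _, e, hb⟩ := hgeo s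
    haveI := hm'; haveI := hc'; haveI := hs'
    haveI := (hfib s).1; haveI := (hfib s).2; haveI := hconn s
    exact connectedSpace_parabolic e hb
  haveI : GeometricallyConnected P.hom := DescentHom.geometricallyConnected_of_geomPt P.hom hgc
  haveI : GeometricallyIrreducible P.hom := SecLocus.geometricallyIrreducible_of_smooth P.hom
  haveI : LocallyOfFiniteType G.hom := inferInstance
  obtain ⟨N, _, j, hN, hjc, hjfp⟩ := GrothLib.SecLocus.exists_normalizer i
  haveI := hjc; haveI := hjfp
  obtain ⟨hjm, hjmono, hjiff⟩ := id hN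
  haveI := hjm; haveI := hjmono
  obtain ⟨v, hv⟩ := (hjiff P i).2 fun X' x h =>
    ⟨⟨x * h * x⁻¹, by simp only [MonObj.mul_comp, GrpObj.inv_comp]⟩,
      ⟨x⁻¹ * h * x, by simp only [MonObj.mul_comp, GrpObj.inv_comp]⟩⟩
  haveI : IsClosedImmersion (v.left ≫ j.left) := by rw [← Over.comp_left, hv]; exact hc
  haveI : IsClosedImmersion v.left := IsClosedImmersion.of_comp v.left j.left
  haveI : LocallyOfFiniteType N.hom := by rw [← Over.w j]; infer_instance
  haveI : LocallyOfFinitePresentation (v.left ≫ N.hom) := by rw [Over.w v]; infer_instance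
  haveI : Flat (v.left ≫ N.hom) := by rw [Over.w v]; infer_instance
  have hiso : IsIso v.left := FibreFlat.isIso_of_fibrewise v.left N.hom fun s => isIso_fibre_of_geom v s (by
    obtain ⟨hm', hc', hs', B', _, e, hb⟩ := hgeo s
    haveI := hm'; haveI := hc'; haveI := hs'
    haveI := (hfib s).1; haveI := (hfib s).2; haveI := hconn s
    haveI : IsClosedImmersion ((Over.pullback (Red.geomPt s)).map j).left :=
      MorphismProperty.of_isPullback (P := @IsClosedImmersion) (isPullback_overMap j (Red.geomPt s)).flip hjc
    obtain ⟨φ, hφ⟩ := exists_factor_normalizer_parabolic e hb ((Over.pullback (Red.geomPt s)).map j)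
      (isNormalizerOf_bc _ hN)
    haveI : Mono ((Over.pullback (Red.geomPt s)).map j) := Over.mono_of_mono_left _
    haveI : Mono ((Over.pullback (Red.geomPt s)).map i) := Over.mono_of_mono_left _
    refine ⟨φ, ?_, ?_⟩
    · rw [← cancel_mono ((Over.pullback (Red.geomPt s)).map i), Category.assoc, hφ, ← Functor.map_comp, hv,
        Category.id_comp]
    · rw [← cancel_mono ((Over.pullback (Red.geomPt s)).map j), Category.assoc, ← Functor.map_comp, hv, hφ,
        Category.id_comp])
  haveI : IsIso ((Over.forget _).map v) := hiso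
  haveI : IsIso v := isIso_of_reflects_iso v (Over.forget _)
  refine ⟨hm, inferInstance, fun X g => ⟨?_, fun hg => ?_⟩⟩
  · rintro ⟨z, rfl⟩ X' x h
    exact ⟨⟨(x ≫ z) * h * (x ≫ z)⁻¹, by simp only [MonObj.mul_comp, GrpObj.inv_comp, Category.assoc]⟩,
      ⟨(x ≫ z)⁻¹ * h * (x ≫ z), by simp only [MonObj.mul_comp, GrpObj.inv_comp, Category.assoc]⟩⟩
  · obtain ⟨z, hz⟩ := (hjiff X g).2 hg
    exact ⟨z ≫ inv v, by rw [Category.assoc, ← hv, IsIso.inv_hom_id_assoc, hz]⟩

end GrothLib.Flag27
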