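import Groth.Agent.Lib.Flag27.BorelUnion
import Groth.Agent.Lib.Flag27.CentBC
import Groth.Agent.Lib.MultDef14.SubTransporter
import Groth.Agent.Lib.Torsor21.SmoothSection
import Groth.Agent.Lib.Induce27.Neutral

/-!
# Maximal tori are conjugate over a finite separable extension
-/

set_option autoImplicit false
set_option linter.all false
set_option backward.isDefEq.respectTransparency false

universe u

open CategoryTheory CategoryTheory.Limits MonoidalCategory CartesianMonoidalCategory MonObj GrpObj AlgebraicGeometry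
open VecGrp

namespace GrothLib.Flag27

open GrothLib.DiagGrp GrothLib.MultDef14

section Conn

variable {k : Type u} [Field k] [IsAlgClosed k] {G T T' : Over (Spec (CommRingCat.of k))} [GrpObj G] [GrpObj T]
  [GrpObj T'] [IsAffine G.left] [Smooth G.hom] {iT : T ⟶ G} {iT' : T' ⟶ G}

/-- Maximal tori of a connected group are conjugate. -/
theorem exists_conj_maxTori_connected [ConnectedSpace G.left] (hT : AGF.IsMaxTorus iT) (hT' : AGF.IsMaxTorus iT') :
    ∃ (g : 𝟙_ (Over (Spec (CommRingCat.of k))) ⟶ G) (f : T ≅ T'), f.hom ≫ iT' = AGF.conjBy g iT := by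
  obtain ⟨B, _, iB, hB, -⟩ := exists_borel (G := G)
  obtain ⟨hi, hic, hBsm, hBconn, hBsolv, -⟩ := id hB
  haveI := hi; haveI := hic; haveI := hBsm; haveI := hBconn
  haveI : IsAffine B.left := isAffine_of_isAffineHom iB.left
  obtain ⟨D, _, U, _, p, s, u, r, hp, hs, hu, hsp, hDt, hDa, hDs, -, huc, hup, -, hru, hUu, hUs, -⟩ :=
    hasSplit_of_solvable (isSolvable_points hBsolv)
  haveI := hp; haveI := hs; haveI := hu; haveI := huc; haveI := hUs
  obtain ⟨g, f, hf⟩ := exists_iso_section hB p s u r hsp hup hru hUu hDt iT hT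
  obtain ⟨g', f', hf'⟩ := exists_iso_section hB p s u r hsp hup hru hUu hDt iT' hT'
  have h' : iT' = AGF.conjBy g'⁻¹ (f'.hom ≫ s ≫ iB) := by rw [hf', conjBy_conjBy, inv_mul_cancel, conjBy_one]
  refine ⟨g'⁻¹ * g, f ≪≫ f'.symm, ?_⟩
  rw [h', Iso.trans_hom, Iso.symm_hom, comp_conjBy', Category.assoc, f'.inv_hom_id_assoc, hf, conjBy_conjBy]

/-- Maximal tori of a smooth affine group are conjugate. -/
theorem exists_conj_maxTori (hT : AGF.IsMaxTorus iT) (hT' : AGF.IsMaxTorus iT') :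
    ∃ (g : 𝟙_ (Over (Spec (CommRingCat.of k))) ⟶ G) (f : T ≅ T'), f.hom ≫ iT' = AGF.conjBy g iT := by
  obtain ⟨hm, hmono, hTt, hmax⟩ := id hT
  obtain ⟨hm', hmono', hTt', hmax'⟩ := id hT'
  haveI := hm; haveI := hmono; haveI := hm'; haveI := hmono'
  obtain ⟨G₀, _, j, hj, hjo, hconn, hfac⟩ := GrothLib.Induce27.exists_neutral G
  haveI := hj; haveI := hjo; haveI := hconn
  haveI : Mono j := Over.mono_of_mono_left j
  haveI : Smooth G₀.hom := by rw [← Over.w j]; infer_instance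
  haveI : IsClosedImmersion j.left := by
    exact IsClosedImmersion.of_isPreimmersion j.left
      (GrothLib.GrpSchField.isClosed_range_of_isLocallyClosed j j.left.isOpenEmbedding.isOpen_range.isLocallyClosed)
  haveI : IsAffine G₀.left := isAffine_of_isAffineHom j.left
  obtain ⟨-, -, -, hTc⟩ := torus_facts hTt iT
  obtain ⟨-, -, -, hTc'⟩ := torus_facts hTt' iT'
  haveI := hTc; haveI := hTc'
  obtain ⟨t, ht, htj⟩ := hfac T iT
  obtain ⟨t', ht', htj'⟩ := hfac T' iT'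
  haveI := ht; haveI := ht'
  haveI : Mono (t ≫ j) := by rw [htj]; infer_instance
  haveI : Mono t := mono_of_mono t j
  haveI : Mono (t' ≫ j) := by rw [htj']; infer_instance
  haveI : Mono t' := mono_of_mono t' j
  have h₁ : AGF.IsMaxTorus t := ⟨ht, inferInstance, hTt, fun R _ i _ _ f hR hf =>
    hmax R (i ≫ j) f hR (by rw [reassoc_of% hf, htj])⟩
  have h₂ : AGF.IsMaxTorus t' := ⟨ht', inferInstance, hTt', fun R _ i _ _ f hR hf =>
    hmax' R (i ≫ j) f hR (by rw [reassoc_of% hf, htj'])⟩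
  obtain ⟨g, f, hf⟩ := exists_conj_maxTori_connected h₁ h₂
  refine ⟨g ≫ j, f, ?_⟩
  rw [← htj', reassoc_of% hf, ← htj]
  simp only [AGF.conjBy, MonObj.mul_comp, GrpObj.inv_comp, Category.assoc]

end Conn

section BC

variable {S S' : Scheme.{u}} (f : S' ⟶ S) {H₁ H₂ G : Over S} [GrpObj H₁] [GrpObj H₂] [GrpObj G]
  {i₁ : H₁ ⟶ G} {i₂ : H₂ ⟶ G}

set_option synthInstance.maxHeartbeats 400000 in
set_option maxHeartbeats 800000 in
/-- A conjugation of points gives a map of the base changes. -/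
theorem exists_map_of_conjInto {g₀ : (Over.map f).obj (𝟙_ (Over S')) ⟶ G} (h : ConjInto i₁ i₂ g₀) :
    ∃ φ : Red.bc f H₁ ⟶ Red.bc f H₂, φ ≫ (Over.pullback f).map i₂ =
      AGF.conjBy (bcPointMulEquiv f G (𝟙_ (Over S')) g₀) ((Over.pullback f).map i₁) := by
  let Y := Red.bc f H₁
  obtain ⟨h', e⟩ := h ((Over.map f).obj Y) ((Over.map f).map (toUnit Y)) ((bcPoint f H₁ Y).symm (𝟙 Y))
  refine ⟨bcPoint f H₂ Y h', ?_⟩
  have e' := congrArg (bcPointMulEquiv f G Y) e
  have h1 : bcPointMulEquiv f G Y ((Over.map f).map (toUnit Y) ≫ g₀) =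
      toUnit Y ≫ bcPointMulEquiv f G (𝟙_ (Over S')) g₀ := bcPoint_comp f (toUnit Y) g₀
  have h2 : bcPointMulEquiv f G Y ((bcPoint f H₁ Y).symm (𝟙 Y) ≫ i₁) = 𝟙 Y ≫ (Over.pullback f).map i₁ :=
    (bcPoint_comp_right f _ i₁).trans (congrArg (· ≫ (Over.pullback f).map i₁) (Equiv.apply_symm_apply _ _))
  have h3 : bcPointMulEquiv f G Y (h' ≫ i₂) = bcPoint f H₂ Y h' ≫ (Over.pullback f).map i₂ :=
    bcPoint_comp_right f h' i₂
  rw [map_mul, map_mul, map_inv, h1, h2, h3, Category.id_comp] at e'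
  exact e'.symm

set_option synthInstance.maxHeartbeats 400000 in
set_option maxHeartbeats 800000 in
/-- A map of the base changes gives a conjugation of points. -/
theorem conjInto_of_map {g₀ : (Over.map f).obj (𝟙_ (Over S')) ⟶ G} (φ : Red.bc f H₁ ⟶ Red.bc f H₂)
    (hφ : φ ≫ (Over.pullback f).map i₂ =
      AGF.conjBy (bcPointMulEquiv f G (𝟙_ (Over S')) g₀) ((Over.pullback f).map i₁)) :
    ConjInto i₁ i₂ g₀ := by
  intro Y p h
  let X' : Over S' := Over.mk (p.left ≫ (𝟙_ (Over S')).hom)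
  let e : Y ≅ (Over.map f).obj X' := Over.isoMk (Iso.refl _) (by
    show 𝟙 _ ≫ (p.left ≫ (𝟙_ (Over S')).hom) ≫ f = Y.hom
    rw [Category.id_comp, Category.assoc]
    exact Over.w p)
  have hp : e.hom ≫ (Over.map f).map (toUnit X') = p :=
    Over.OverMorphism.ext ((Category.id_comp _).trans (Category.comp_id p.left))
  let x := bcPoint f H₁ X' (e.inv ≫ h)
  let h₂ := (bcPoint f H₂ X').symm (x ≫ φ)
  have h1 : bcPointMulEquiv f G X' ((Over.map f).map (toUnit X') ≫ g₀) =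
      toUnit X' ≫ bcPointMulEquiv f G (𝟙_ (Over S')) g₀ := bcPoint_comp f (toUnit X') g₀
  have h2 : bcPointMulEquiv f G X' ((e.inv ≫ h) ≫ i₁) = x ≫ (Over.pullback f).map i₁ :=
    bcPoint_comp_right f _ i₁
  have h3 : bcPointMulEquiv f G X' (h₂ ≫ i₂) = (x ≫ φ) ≫ (Over.pullback f).map i₂ :=
    (bcPoint_comp_right f h₂ i₂).trans (congrArg (· ≫ (Over.pullback f).map i₂) (Equiv.apply_symm_apply _ _))
  refine ⟨e.hom ≫ h₂, ?_⟩
  have key : ((Over.map f).map (toUnit X') ≫ g₀) * ((e.inv ≫ h) ≫ i₁) * ((Over.map f).map (toUnit X') ≫ g₀)⁻¹ =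
      h₂ ≫ i₂ := (bcPointMulEquiv f G X').injective (by
    rw [map_mul, map_mul, map_inv, h1, h2, h3, Category.assoc x, hφ, comp_conjBy]
    )
  have k4 := congrArg (e.hom ≫ ·) key
  simp only [MonObj.comp_mul, GrpObj.comp_inv, ← Category.assoc, Iso.hom_inv_id, Category.id_comp, hp] at k4
  exact k4

theorem conjSub_iff_conjInto {X : Over S} {g : X ⟶ G} :
    ConjSub i₁ i₂ g ↔ ConjInto i₁ i₂ g ∧ ConjInto i₂ i₁ g⁻¹ := by
  refine ⟨fun h => ⟨h.conjInto, h.symm.conjInto⟩, fun h Y p => ⟨h.1 Y p, fun h' => ?_⟩⟩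
  obtain ⟨h₁, e⟩ := h.2 Y p h'
  rw [GrpObj.comp_inv, _root_.inv_inv] at e
  exact ⟨h₁, e⟩

end BC

section Main

variable {k : Type u} [Field k]

set_option synthInstance.maxHeartbeats 400000 in
set_option maxHeartbeats 800000 in
/-- Maximal tori are conjugate over a finite separable extension. -/
theorem exists_conj_maxTori_separable {G T₁ T₂ : Over (Spec (CommRingCat.of k))} [GrpObj G] [GrpObj T₁] [GrpObj T₂]
    [IsAffine G.left] [Smooth G.hom] {i₁ : T₁ ⟶ G} {i₂ : T₂ ⟶ G}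
    (h₁ : Red.IsMaximalTorus i₁) (h₂ : Red.IsMaximalTorus i₂) :
    ∃ (k' : Type u) (_ : Field k') (_ : Algebra k k') (_ : FiniteDimensional k k') (_ : Algebra.IsSeparable k k')
      (g : 𝟙_ (Over (Spec (CommRingCat.of k'))) ⟶ Red.bc (Spec.map (CommRingCat.ofHom (algebraMap k k'))) G)
      (f : Red.bc (Spec.map (CommRingCat.ofHom (algebraMap k k'))) T₁ ≅
        Red.bc (Spec.map (CommRingCat.ofHom (algebraMap k k'))) T₂),
      f.hom ≫ (Over.pullback (Spec.map (CommRingCat.ofHom (algebraMap k k')))).map i₂ =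
        AGF.conjBy g ((Over.pullback (Spec.map (CommRingCat.ofHom (algebraMap k k')))).map i₁) := by
  obtain ⟨hm₁, hmono₁, ht₁, hmax₁⟩ := h₁
  obtain ⟨hm₂, hmono₂, ht₂, hmax₂⟩ := h₂
  haveI := hm₁; haveI := hmono₁; haveI := hm₂; haveI := hmono₂
  have hM₁ := GrothLib.QuotTorus14.isMultTypeFT_of_charts (GrothLib.DiagGrp.hasChartsFpqc_of_isTorus ht₁)
  have hM₂ := GrothLib.QuotTorus14.isMultTypeFT_of_charts (GrothLib.DiagGrp.hasChartsFpqc_of_isTorus ht₂)
  obtain ⟨P, j, hj, hPs, hP⟩ := exists_transporterSub hM₁ hM₂ (inferInstance : Smooth G.hom)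
    (isAffineHom_of_isAffine _) i₁ i₂
  -- a geometric point of the transporter
  let x₀ : ↥(Spec (CommRingCat.of k)) := (Classical.arbitrary (PrimeSpectrum k) : PrimeSpectrum k)
  let q := Red.geomPt x₀
  haveI : IsAffine (Red.bc q G).left := isAffine_bc q G
  haveI : Smooth (Red.bc q G).hom := inferInstanceAs (Smooth (pullback.snd G.hom q))
  have hT₁ : AGF.IsMaxTorus ((Over.pullback q).map i₁) :=
    ⟨inferInstance, inferInstance, isTorus_bc_field q ht₁, fun R _ i _ _ f a b => hmax₁ x₀ R i f a b⟩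
  have hT₂ : AGF.IsMaxTorus ((Over.pullback q).map i₂) :=
    ⟨inferInstance, inferInstance, isTorus_bc_field q ht₂, fun R _ i _ _ f a b => hmax₂ x₀ R i f a b⟩
  obtain ⟨gbar, φ, hφ⟩ := exists_conj_maxTori hT₁ hT₂
  let g₀ := (bcPointMulEquiv q G (𝟙_ _)).symm gbar
  have hg₀ : ConjSub i₁ i₂ g₀ := by
    refine conjSub_iff_conjInto.2 ⟨conjInto_of_map q φ.hom ?_, conjInto_of_map q φ.inv ?_⟩
    · rw [MulEquiv.apply_symm_apply]; exact hφ
    · rw [map_inv, MulEquiv.apply_symm_apply, Iso.inv_comp_eq, comp_conjBy', hφ, conjBy_conjBy, inv_mul_cancel,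
        conjBy_one]
  obtain ⟨t, -⟩ := (hP _ g₀).2 hg₀
  haveI : Nonempty P.left := ⟨t.left.base (IsLocalRing.closedPoint _)⟩
  haveI := hPs
  obtain ⟨L, hLF, hLA, hfin, hsep, c, hc⟩ := GrothLib.Torsor21.exists_separable_point P.hom
  let q' : Spec (CommRingCat.of L) ⟶ Spec (CommRingCat.of k) := Spec.map (CommRingCat.ofHom (algebraMap k L))
  let t' : (Over.map q').obj (𝟙_ (Over (Spec (CommRingCat.of L)))) ⟶ P :=
    Over.homMk c (by show c ≫ P.hom = 𝟙 _ ≫ q'; rw [hc, Category.id_comp])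
  obtain ⟨hinto, hinto'⟩ := conjSub_iff_conjInto.1 ((hP _ (t' ≫ j)).1 ⟨t', rfl⟩)
  obtain ⟨a, ha⟩ := exists_map_of_conjInto q' hinto
  obtain ⟨b, hb⟩ := exists_map_of_conjInto q' hinto'
  rw [map_inv] at hb
  refine ⟨L, hLF, hLA, hfin, hsep, _, ⟨a, b, ?_, ?_⟩, ha⟩
  · rw [← cancel_mono ((Over.pullback q').map i₁), Category.assoc, hb, comp_conjBy', ha, conjBy_conjBy,
      inv_mul_cancel, conjBy_one, Category.id_comp]
  · rw [← cancel_mono ((Over.pullback q').map i₂), Category.assoc, ha, comp_conjBy', hb, conjBy_conjBy,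
      mul_inv_cancel, conjBy_one, Category.id_comp]

end Main

end GrothLib.Flag27
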