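import Groth.Agent.Lib.Flag27.BorelGeneral
import Groth.Agent.Lib.Flag27.MaxTorusIso
import Groth.Agent.Lib.Chev24.Tori

/-!
# Borel subgroups, maximal tori and Cartan subgroups of groups which need not be affine
-/

set_option autoImplicit false
set_option linter.all false
set_option backward.isDefEq.respectTransparency false
set_option synthInstance.maxHeartbeats 80000

universe u

open CategoryTheory CategoryTheory.Limits MonoidalCategory CartesianMonoidalCategory MonObj GrpObj AlgebraicGeometry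

namespace GrothLib.Flag27

variable {k : Type u} [Field k] [IsAlgClosed k] {G : Over (Spec (CommRingCat.of k))} [GrpObj G] [Smooth G.hom]
  [QuasiCompact G.hom]

set_option maxHeartbeats 1600000 in
/-- A connected group is generated by an affine normal subgroup and central points killed by every map to an affine group. -/
theorem exists_point_decomp [ConnectedSpace G.left] {H : Over (Spec (CommRingCat.of k))} [GrpObj H] [IsAffine H.left]
    (ρ : G ⟶ H) [IsMonHom ρ] :
    ∃ (N : Over (Spec (CommRingCat.of k))) (_ : GrpObj N) (i : N ⟶ G) (_ : IsMonHom i) (_ : IsClosedImmersion i.left)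
      (_ : Smooth N.hom) (_ : ConnectedSpace N.left) (_ : IsAffine N.left),
      (∀ (K : Over (Spec (CommRingCat.of k))) [GrpObj K] (h : K ⟶ G) [IsMonHom h] [IsClosedImmersion h.left]
          [Smooth K.hom] [ConnectedSpace K.left] [IsAffine K.left], ∃ f : K ⟶ N, f ≫ i = h) ∧
      ∀ x : 𝟙_ (Over (Spec (CommRingCat.of k))) ⟶ G, ∃ (n : 𝟙_ (Over (Spec (CommRingCat.of k))) ⟶ N)
        (m : 𝟙_ (Over (Spec (CommRingCat.of k))) ⟶ G), (n ≫ i) * m = x ∧ m ≫ ρ = 1 ∧
          ∀ (X : Over (Spec (CommRingCat.of k))) (g : X ⟶ G), (toUnit X ≫ m) * g = g * (toUnit X ≫ m) := by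
  haveI : IsSeparated G.hom := GrpSchField.isSeparated G
  haveI : LocallyOfFiniteType G.hom := inferInstance
  obtain ⟨N, _, i, hi, hic, hNs, hNc, hNa, hNn, hmax⟩ := GrothLib.Chev24.exists_affPart (G := G)
  haveI := hi; haveI := hic; haveI := hNs; haveI := hNc; haveI := hNa
  haveI : Mono i := Over.mono_of_mono_left i
  obtain ⟨Q, _, q, hq, hQs, hQq, hqf, hqs, -, hker⟩ := GrothLib.Chev24.exists_quot i hNn
  haveI := hq; haveI := hQs; haveI := hQq; haveI := hqf; haveI := hqs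
  haveI := GrothLib.Chev24.isProper_quotient i hmax q hker
  obtain ⟨M, _, jM, hjM, hjMc, hM, -, hMmax, -⟩ := AntMax16.exists_ant G
  haveI := hjM; haveI := hjMc
  obtain ⟨hlM, hqM⟩ := AntMax16.props_of_mono jM
  haveI := hlM; haveI := hqM
  haveI hψs : Surjective ((i ⊗ₘ jM) ≫ μ[G]).left :=
    (AntMax16.ant_generates i q hker jM hM (fun K' _ _ _ b _ _ hb => hMmax K' b hb)).1
  haveI : LocallyOfFiniteType N.hom := inferInstance
  haveI : LocallyOfFiniteType (N ⊗ M).hom := by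
    rw [show (N ⊗ M).hom = pullback.fst N.hom M.hom ≫ N.hom from rfl]; infer_instance
  haveI : QuasiSeparated M.hom := by
    haveI : IsSeparated M.hom := GrpSchField.isSeparated M
    infer_instance
  have h1 : jM ≫ ρ = 1 := by
    rw [hM.eq_const (1 : 𝟙_ _ ⟶ M) (jM ≫ ρ), MonObj.one_comp, MonObj.comp_one]
  refine ⟨N, inferInstance, i, hi, hic, hNs, hNc, hNa,
    fun K _ h _ _ _ _ _ => GrothLib.Chev24.factor_affine i hmax hNn K h, fun x => ?_⟩
  obtain ⟨z, -, hz⟩ := exists_cl_lift ((i ⊗ₘ jM) ≫ μ[G]) (E := Set.univ) isClosed_univ.isLocallyClosed (w := x)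
    (by rw [Set.image_univ, Set.range_eq_univ.2 hψs.surj]; exact Set.mem_univ _)
  refine ⟨z ≫ fst N M, (z ≫ snd N M) ≫ jM, ?_, ?_, fun X g => ?_⟩
  · rw [← hz, Category.assoc, Category.assoc, ← MonObj.comp_mul, Hom.mul_def, lift_fst_comp_snd_comp]
  · rw [Category.assoc, h1, MonObj.comp_one]
  · rw [← Category.assoc]
    exact hM.central jM _ _

set_option maxHeartbeats 1600000 in
/-- Borel subgroups of a connected group are conjugate. -/
theorem borel_conj_general [ConnectedSpace G.left] {B₁ B₂ : Over (Spec (CommRingCat.of k))} [GrpObj B₁] [GrpObj B₂]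
    {b₁ : B₁ ⟶ G} {b₂ : B₂ ⟶ G} (h₁ : Red.IsBorelOver k b₁) (h₂ : Red.IsBorelOver k b₂) :
    ∃ (g : 𝟙_ (Over (Spec (CommRingCat.of k))) ⟶ G) (φ : B₁ ≅ B₂), φ.hom ≫ b₂ = AGF.conjBy g b₁ := by
  obtain ⟨H, _, _, _, _, ρ, _, _, _, N, _, _, _, _, i, _, _, hker, hcen⟩ := exists_affine_part (G := G)
  obtain ⟨C₁, _, i₁, π₁, hC₁, sq₁⟩ := exists_isPullback_of_borel ρ i hker hcen h₁
  obtain ⟨C₂, _, i₂, π₂, hC₂, sq₂⟩ := exists_isPullback_of_borel ρ i hker hcen h₂
  obtain ⟨h, e, he⟩ := borel_conj hC₁ hC₂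
  haveI : LocallyOfFiniteType G.hom := inferInstance
  obtain ⟨g, -, hg⟩ := exists_cl_lift ρ (E := Set.univ) isClosed_univ.isLocallyClosed (w := h)
    (by rw [Set.image_univ, Set.range_eq_univ.2 ‹Surjective ρ.left›.surj]; exact Set.mem_univ _)
  have hc : ∀ (A : Over (Spec (CommRingCat.of k))) (a : 𝟙_ _ ⟶ G) (v : A ⟶ G),
      AGF.conjBy a v ≫ ρ = AGF.conjBy (a ≫ ρ) (v ≫ ρ) := fun A a v => by
    simp only [AGF.conjBy, MonObj.mul_comp, GrpObj.inv_comp, Category.assoc]
  have w₁ : AGF.conjBy g b₁ ≫ ρ = (π₁ ≫ e.hom) ≫ i₂ := by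
    rw [hc, hg, sq₁.w, Category.assoc, he, comp_conjBy']
  have w₂ : AGF.conjBy g⁻¹ b₂ ≫ ρ = (π₂ ≫ e.inv) ≫ i₁ := by
    rw [hc, GrpObj.inv_comp, hg, sq₂.w, ← comp_conjBy', Category.assoc,
      show AGF.conjBy h⁻¹ i₂ = e.inv ≫ i₁ from by
        rw [← cancel_epi e.hom, comp_conjBy', he, conjBy_conjBy, inv_mul_cancel, conjBy_one, e.hom_inv_id_assoc]]
  let φ := sq₂.lift (AGF.conjBy g b₁) (π₁ ≫ e.hom) w₁
  let ψ := sq₁.lift (AGF.conjBy g⁻¹ b₂) (π₂ ≫ e.inv) w₂
  haveI := h₁.2.1; haveI := h₂.2.1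
  haveI : Mono b₁ := Over.mono_of_mono_left b₁
  haveI : Mono b₂ := Over.mono_of_mono_left b₂
  have hφ : φ ≫ b₂ = AGF.conjBy g b₁ := sq₂.lift_fst _ _ _
  have hψ : ψ ≫ b₁ = AGF.conjBy g⁻¹ b₂ := sq₁.lift_fst _ _ _
  exact ⟨g, ⟨φ, ψ, by rw [← cancel_mono b₁, Category.assoc, hψ, comp_conjBy', hφ, conjBy_conjBy, inv_mul_cancel,
      conjBy_one, Category.id_comp],
    by rw [← cancel_mono b₂, Category.assoc, hφ, comp_conjBy', hψ, conjBy_conjBy, mul_inv_cancel, conjBy_one,
      Category.id_comp]⟩, hφ⟩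

set_option maxHeartbeats 1600000 in
/-- A torus of a connected group lies in a Borel subgroup. -/
theorem exists_borel_containing_torus [ConnectedSpace G.left] {T : Over (Spec (CommRingCat.of k))} [GrpObj T]
    (j : T ⟶ G) [IsMonHom j] [Mono j] (hT : Red.IsTorus T) :
    ∃ (B : Over (Spec (CommRingCat.of k))) (_ : GrpObj B) (b : B ⟶ G), Red.IsBorelOver k b ∧ ∃ f : T ⟶ B, f ≫ b = j := by
  haveI : LocallyOfFiniteType G.hom := inferInstance
  obtain ⟨H, _, _, _, _, ρ, _, _, _, N, _, _, _, _, i, _, _, hker, hcen⟩ := exists_affine_part (G := G)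
  obtain ⟨hjc, hTa, hTs, hTc⟩ := GrothLib.Chev24.torus_facts' hT j
  haveI := hjc; haveI := hTa; haveI := hTs; haveI := hTc
  haveI : QuasiCompact T.hom := by rw [← Over.w j]; infer_instance
  haveI : LocallyOfFiniteType T.hom := inferInstance
  haveI : QuasiCompact (j ≫ ρ).left := by
    haveI : QuasiCompact ((j ≫ ρ).left ≫ H.hom) := by rw [Over.w (j ≫ ρ)]; infer_instance
    exact QuasiCompact.of_comp _ H.hom
  obtain ⟨M, _, jM, _, _, q, hq, hqd, hqq⟩ := GrothLib.AntiAffine.exists_image_subgroup (j ≫ ρ)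
  haveI : Mono jM := Over.mono_of_mono_left jM
  haveI : IsMonHom (q ≫ jM) := by rw [hq]; infer_instance
  haveI : IsMonHom q := GrothLib.CentMT14.isMonHom_of_comp q jM
  haveI : IsAffine M.left := isAffine_of_isAffineHom jM.left
  haveI : LocallyOfFiniteType M.hom := by rw [← Over.w jM]; infer_instance
  have hqs : Surjective q.left :=
    (GrothLib.AffHull14.flat_surjective_of_dominant q (q.left.app_injective ⊤)).2
  haveI : IsReduced T.left := GrothLib.RedSmooth.isReduced_of_smooth T.hom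
  haveI : IsReduced M.left := IsSchemeTheoreticallyDominant.isReduced q.left
  haveI : Smooth M.hom := smooth_of_reduced_grp M
  haveI : ConnectedSpace M.left := q.left.surjective.connectedSpace q.left.continuous
  letI : CommGroup (𝟙_ (Over (Spec (CommRingCat.of k))) ⟶ T) :=
    { (inferInstance : Group (𝟙_ (Over (Spec (CommRingCat.of k))) ⟶ T)) with
      mul_comm := fun a b => GrothLib.RankCell14.comm_torus hT a b }
  haveI : Group.IsSolvable (𝟙_ (Over (Spec (CommRingCat.of k))) ⟶ T) :=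
    isSolvable_of_comm fun a b => mul_comm a b
  have hMsolv : Red.IsSolvableGrp M := isSolvableGrp_of_points (isSolvable_of_surjective q ‹_›)
  obtain ⟨B₀, _, iB₀, f, hB₀, hf⟩ := exists_borel_containing_solvable jM hMsolv
  obtain ⟨B, _, b, π, hB, sq⟩ := exists_borel_preimage ρ i hker hcen hB₀
  exact ⟨B, inferInstance, b, hB, sq.lift j (q ≫ f) (by rw [Category.assoc, hf, hq]), sq.lift_fst _ _ _⟩

set_option maxHeartbeats 1600000 in
/-- A torus of a connected solvable group embeds in any of its maximal tori. -/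
theorem exists_closed_hom_to_maxTorus [ConnectedSpace G.left] (hsolv : Red.IsSolvableGrp G)
    {T T' : Over (Spec (CommRingCat.of k))} [GrpObj T] [GrpObj T'] {t : T ⟶ G} (hT : AGF.IsMaxTorus t)
    (t' : T' ⟶ G) [IsMonHom t'] [Mono t'] (hT' : Red.IsTorus T') :
    ∃ m : T' ⟶ T, IsClosedImmersion m.left := by
  haveI : LocallyOfFiniteType G.hom := inferInstance
  obtain ⟨htm, htmono, hTt, htmax⟩ := hT
  haveI := htm; haveI := htmono
  haveI : IsAffine (𝟙_ (Over (Spec (CommRingCat.of k)))).left := inferInstanceAs (IsAffine (Spec (CommRingCat.of k)))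
  obtain ⟨N, _, i, hi, hic, hNs, hNc, hNa, hfac, -⟩ :=
    exists_point_decomp (G := G) (1 : G ⟶ 𝟙_ (Over (Spec (CommRingCat.of k))))
  haveI := hi; haveI := hic; haveI := hNs; haveI := hNc; haveI := hNa
  haveI : Mono i := Over.mono_of_mono_left i
  obtain ⟨hc₁, ha₁, hs₁, hk₁⟩ := GrothLib.Chev24.torus_facts' hTt t
  obtain ⟨hc₂, ha₂, hs₂, hk₂⟩ := GrothLib.Chev24.torus_facts' hT' t'
  haveI := hc₁; haveI := ha₁; haveI := hs₁; haveI := hk₁; haveI := hc₂; haveI := ha₂; haveI := hs₂; haveI := hk₂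
  obtain ⟨t₁, ht₁⟩ := hfac T t
  obtain ⟨t₂, ht₂⟩ := hfac T' t'
  haveI : IsMonHom (t₁ ≫ i) := by rw [ht₁]; infer_instance
  haveI : IsMonHom t₁ := GrothLib.CentMT14.isMonHom_of_comp t₁ i
  haveI : Mono (t₁ ≫ i) := by rw [ht₁]; infer_instance
  haveI : Mono t₁ := mono_of_mono t₁ i
  haveI : IsMonHom (t₂ ≫ i) := by rw [ht₂]; infer_instance
  haveI : IsMonHom t₂ := GrothLib.CentMT14.isMonHom_of_comp t₂ i
  haveI : Mono (t₂ ≫ i) := by rw [ht₂]; infer_instance
  haveI : Mono t₂ := mono_of_mono t₂ i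
  haveI : IsClosedImmersion (t₂.left ≫ i.left) := by rw [← Over.comp_left, ht₂]; infer_instance
  haveI : IsClosedImmersion t₂.left := IsClosedImmersion.of_comp t₂.left i.left
  have hT₁ : AGF.IsMaxTorus t₁ := ⟨inferInstance, inferInstance, hTt, fun R _ r _ _ f hR hf =>
    htmax R (r ≫ i) f hR (by rw [reassoc_of% hf, ht₁])⟩
  have hNsolv : Group.IsSolvable (𝟙_ (Over (Spec (CommRingCat.of k))) ⟶ N) := by
    haveI : Group.IsSolvable (𝟙_ (Over (Spec (CommRingCat.of k))) ⟶ G) := isSolvable_points hsolv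
    exact solvable_of_solvable_injective
      (f := MonoidHom.mk' (fun v : 𝟙_ (Over (Spec (CommRingCat.of k))) ⟶ N => v ≫ i) fun a b => MonObj.mul_comp a b i)
      fun a b h => (cancel_mono i).1 h
  haveI : IsClosedImmersion (𝟙 N : N ⟶ N).left := by
    show IsClosedImmersion (𝟙 N.left); infer_instance
  have hB : Red.IsBorelOver k (𝟙 N) := by
    refine ⟨inferInstance, inferInstance, hNs, hNc, isSolvableGrp_of_points hNsolv, ?_⟩
    intro B' _ i' _ f hic' hsm' hc' hs' hf
    haveI := hic'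
    haveI : Mono i' := Over.mono_of_mono_left i'
    exact ⟨i', hf, by rw [← cancel_mono i', Category.assoc, hf, Category.comp_id, Category.id_comp]⟩
  obtain ⟨D, _, U, _, p, s, u, r, hp, hs, hu, hsp, hDt, hDa, hDs, -, huc, hup, -, hru, hUu, hUs, -⟩ :=
    hasSplit_of_solvable hNsolv
  haveI := hp; haveI := hs; haveI := hu; haveI := huc; haveI := hUs
  haveI : IsSplitMono s := IsSplitMono.mk' ⟨p, hsp⟩
  haveI : Mono s := inferInstance
  obtain ⟨g, f, hf⟩ := exists_conj_into_section hB p s u r hsp hup hru hUu hT' t₂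
  obtain ⟨g', e, he⟩ := exists_iso_section hB p s u r hsp hup hru hUu hDt t₁ hT₁
  rw [Category.comp_id] at hf
  haveI : IsClosedImmersion (AGF.conjBy g t₂).left := isClosedImmersion_conjBy g t₂
  haveI : IsClosedImmersion (f.left ≫ s.left) := by rw [← Over.comp_left, hf]; infer_instance
  haveI : IsSeparated D.hom := GrpSchField.isSeparated D
  haveI : IsAffineHom s.left := by
    haveI : IsAffineHom (s.left ≫ N.hom) := by rw [Over.w s]; exact isAffineHom_of_isAffine _
    exact IsAffineHom.of_comp s.left N.hom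
  haveI : IsClosedImmersion f.left := IsClosedImmersion.of_comp f.left s.left
  haveI : IsIso e.inv.left := GrothLib.GrpSchField.isIso_left _
  exact ⟨f ≫ e.inv, inferInstanceAs (IsClosedImmersion (f.left ≫ e.inv.left))⟩

set_option maxHeartbeats 1600000 in
/-- Maximal tori of a Borel subgroup are maximal tori. -/
theorem isMaxTorus_comp_borel [ConnectedSpace G.left] {B T : Over (Spec (CommRingCat.of k))} [GrpObj B] [GrpObj T]
    {b : B ⟶ G} (hB : Red.IsBorelOver k b) {t : T ⟶ B} (hT : AGF.IsMaxTorus t) : AGF.IsMaxTorus (t ≫ b) := by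
  obtain ⟨htm, htmono, hTt, -⟩ := id hT
  haveI := htm; haveI := htmono
  obtain ⟨hbm, hbc, hbs, hbconn, hbsolv, -⟩ := id hB
  haveI := hbm; haveI := hbc; haveI := hbs; haveI := hbconn
  haveI : Mono b := Over.mono_of_mono_left b
  haveI : LocallyOfFiniteType G.hom := inferInstance
  refine ⟨inferInstance, inferInstance, hTt, fun R _ j _ _ f hR hf => ?_⟩
  obtain ⟨hjc, hRa, hRs, hRc⟩ := GrothLib.Chev24.torus_facts' hR j
  haveI := hjc; haveI := hRa; haveI := hRs; haveI := hRc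
  obtain ⟨B', _, b', hB', r, hr⟩ := exists_borel_containing_torus j hR
  obtain ⟨g, φ, hφ⟩ := borel_conj_general hB' hB
  haveI : IsMonHom (AGF.conjBy g j) := isMonHom_conjBy g j
  haveI : IsIso (AGF.conjBy g (𝟙 G)) := isIso_conjBy_id g
  haveI : Mono (AGF.conjBy g j) := by rw [conjBy_eq_comp]; exact mono_comp _ _
  have hl : (r ≫ φ.hom) ≫ b = AGF.conjBy g j := by rw [Category.assoc, hφ, comp_conjBy', hr]
  haveI : IsMonHom ((r ≫ φ.hom) ≫ b) := by rw [hl]; infer_instance
  haveI : IsMonHom (r ≫ φ.hom) := GrothLib.CentMT14.isMonHom_of_comp (r ≫ φ.hom) b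
  haveI : Mono ((r ≫ φ.hom) ≫ b) := by rw [hl]; infer_instance
  haveI : Mono (r ≫ φ.hom) := mono_of_mono (r ≫ φ.hom) b
  haveI : QuasiCompact B.hom := by rw [← Over.w b]; infer_instance
  obtain ⟨m, hm⟩ := exists_closed_hom_to_maxTorus (G := B) hbsolv hT (r ≫ φ.hom) hR
  haveI := hm
  obtain ⟨htc, hTa, hTs, -⟩ := GrothLib.Chev24.torus_facts' hTt (t ≫ b)
  haveI := hTa; haveI := hTs
  haveI : IsClosedImmersion (f.left ≫ j.left) := by rw [← Over.comp_left, hf]; exact htc
  haveI : IsClosedImmersion f.left := IsClosedImmersion.of_comp f.left j.left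
  exact isIso_of_endo f m

set_option maxHeartbeats 1600000 in
/-- The centralizer of a maximal torus of a Borel subgroup lies in the Borel subgroup. -/
theorem exists_factor_centralizer_borel [ConnectedSpace G.left] {B T Z : Over (Spec (CommRingCat.of k))} [GrpObj B]
    [GrpObj T] [GrpObj Z] {b : B ⟶ G} (hB : Red.IsBorelOver k b) {t : T ⟶ B} (hT : AGF.IsMaxTorus t)
    {z : Z ⟶ G} (hz : Red.IsCentralizerOf (t ≫ b) z) [IsClosedImmersion z.left] : ∃ φ : Z ⟶ B, φ ≫ b = z := by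
  have hTG := isMaxTorus_comp_borel hB hT
  obtain ⟨htm, htmono, hTt, hTmax⟩ := id hTG
  haveI := htm; haveI := htmono
  obtain ⟨hbm, hbc, hbs, hbconn, hbsolv, -⟩ := id hB
  haveI := hbm; haveI := hbc; haveI := hbs; haveI := hbconn
  haveI : Mono b := Over.mono_of_mono_left b
  haveI : LocallyOfFiniteType G.hom := inferInstance
  obtain ⟨hZs, hZc⟩ := GrothLib.Chev24.smooth_connected_centralizer (t ≫ b) hTt z hz
  haveI := hZs; haveI := hZc
  obtain ⟨H, _, _, _, _, ρ, _, _, _, N₀, _, _, _, _, i₀, _, _, hker, hcen⟩ := exists_affine_part (G := G)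
  obtain ⟨B₀, _, iB₀, π, hB₀, sq⟩ := exists_isPullback_of_borel ρ i₀ hker hcen hB
  obtain ⟨N, _, i, hi, hic, hNs, hNc, hNa, hfac, hdec⟩ := exists_point_decomp ρ
  haveI := hi; haveI := hic; haveI := hNs; haveI := hNc; haveI := hNa
  haveI : Mono i := Over.mono_of_mono_left i
  haveI : QuasiCompact B.hom := by rw [← Over.w b]; infer_instance
  obtain ⟨NB, _, iN, hiN, hiNc, hNBs, hNBc, hNBa, hfacB, hdecB⟩ := exists_point_decomp (G := B) (b ≫ ρ)
  haveI := hiN; haveI := hiNc; haveI := hNBs; haveI := hNBc; haveI := hNBa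
  haveI : Mono iN := Over.mono_of_mono_left iN
  haveI : IsClosedImmersion (iN ≫ b).left := inferInstanceAs (IsClosedImmersion (iN.left ≫ b.left))
  obtain ⟨w, hw⟩ := hfac NB (iN ≫ b)
  haveI : IsMonHom (w ≫ i) := by rw [hw]; infer_instance
  haveI : IsMonHom w := GrothLib.CentMT14.isMonHom_of_comp w i
  haveI : IsClosedImmersion (w.left ≫ i.left) := by rw [← Over.comp_left, hw]; infer_instance
  haveI : IsClosedImmersion w.left := IsClosedImmersion.of_comp w.left i.left
  have hNBsolv : Red.IsSolvableGrp NB := by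
    haveI : Group.IsSolvable (𝟙_ (Over (Spec (CommRingCat.of k))) ⟶ B) := isSolvable_points hbsolv
    exact isSolvableGrp_of_points (solvable_of_solvable_injective
      (f := MonoidHom.mk' (fun v : 𝟙_ (Over (Spec (CommRingCat.of k))) ⟶ NB => v ≫ iN) fun a b => MonObj.mul_comp a b iN)
      fun a b h => (cancel_mono iN).1 h)
  -- a Borel subgroup of the affine part inside the given one
  obtain ⟨E, _, iE, fE, hE, hfE⟩ := exists_borel_containing_solvable w hNBsolv
  obtain ⟨hEm, hEc, hEs, hEconn, hEsolv, -⟩ := id hE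
  haveI := hEm; haveI := hEc; haveI := hEs; haveI := hEconn
  haveI : IsAffine E.left := isAffine_of_isAffineHom iE.left
  haveI : QuasiCompact E.hom := by
    haveI : IsAffineHom E.hom := isAffineHom_of_isAffine _
    infer_instance
  haveI : LocallyOfFiniteType E.hom := inferInstance
  haveI : QuasiCompact (iE ≫ i ≫ ρ).left := by
    haveI : QuasiCompact ((iE ≫ i ≫ ρ).left ≫ H.hom) := by rw [Over.w]; infer_instance
    exact QuasiCompact.of_comp _ H.hom
  obtain ⟨M, _, jM, _, _, q, hq, hqd, hqq⟩ := GrothLib.AntiAffine.exists_image_subgroup (iE ≫ i ≫ ρ)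
  haveI : Mono jM := Over.mono_of_mono_left jM
  haveI : IsMonHom (q ≫ jM) := by rw [hq]; infer_instance
  haveI : IsMonHom q := GrothLib.CentMT14.isMonHom_of_comp q jM
  haveI : IsAffine M.left := isAffine_of_isAffineHom jM.left
  haveI : LocallyOfFiniteType M.hom := by rw [← Over.w jM]; infer_instance
  have hqs : Surjective q.left :=
    (GrothLib.AffHull14.flat_surjective_of_dominant q (q.left.app_injective ⊤)).2
  haveI : IsReduced E.left := GrothLib.RedSmooth.isReduced_of_smooth E.hom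
  haveI : IsReduced M.left := IsSchemeTheoreticallyDominant.isReduced q.left
  haveI : Smooth M.hom := smooth_of_reduced_grp M
  haveI : ConnectedSpace M.left := q.left.surjective.connectedSpace q.left.continuous
  haveI : Group.IsSolvable (𝟙_ (Over (Spec (CommRingCat.of k))) ⟶ E) := isSolvable_points hEsolv
  have hMsolv : Red.IsSolvableGrp M := isSolvableGrp_of_points (isSolvable_of_surjective q ‹_›)
  obtain ⟨C₀, _, iC₀, f₀, hC₀, hf₀⟩ := exists_borel_containing_solvable jM hMsolv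
  obtain ⟨B', _, b', π', hB', sq'⟩ := exists_borel_preimage ρ i₀ hker hcen hC₀
  haveI := hB'.1; haveI := hB'.2.1
  let eE : E ⟶ B' := sq'.lift (iE ≫ i) (q ≫ f₀) (by rw [Category.assoc, Category.assoc, hf₀, hq])
  have heE : eE ≫ b' = iE ≫ i := sq'.lift_fst _ _ _
  have hzero : ∀ m : 𝟙_ (Over (Spec (CommRingCat.of k))) ⟶ G, m ≫ ρ = 1 →
      (∃ y, y ≫ b = m) ∧ ∃ y, y ≫ b' = m := fun m hm => by
    obtain ⟨hm₀, -⟩ := id hB₀
    obtain ⟨hm₁, -⟩ := id hC₀
    haveI := hm₀; haveI := hm₁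
    exact ⟨⟨sq.lift m 1 (by rw [hm, MonObj.one_comp]), sq.lift_fst _ _ _⟩,
      ⟨sq'.lift m 1 (by rw [hm, MonObj.one_comp]), sq'.lift_fst _ _ _⟩⟩
  -- the Borel subgroup is contained in the new one, hence equal
  haveI : IsReduced B.left := GrothLib.RedSmooth.isReduced_of_smooth B.hom
  haveI : LocallyOfFiniteType B.hom := inferInstance
  haveI : JacobsonSpace B.left := LocallyOfFiniteType.jacobsonSpace B.hom
  obtain ⟨l, hl⟩ : ∃ l : B ⟶ B', l ≫ b' = b := by
    refine GrothLib.AntiAffine.exists_factor_of_dense b b' (A := closedPoints B.left) ?_ fun y hy => ?_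
    · exact dense_iff_closure_eq.2 closure_closedPoints
    · obtain ⟨v, rfl⟩ := exists_cl hy
      obtain ⟨n, m, hnm, hmρ, -⟩ := hdecB v
      obtain ⟨y', hy'⟩ := (hzero (m ≫ b) (by rw [Category.assoc]; exact hmρ)).2
      refine ⟨cl ((n ≫ fE ≫ eE) * y'), ?_⟩
      rw [← cl_comp, ← cl_comp, MonObj.mul_comp, hy']
      congr 1
      rw [← hnm, MonObj.mul_comp]
      congr 1
      simp only [Category.assoc, heE, reassoc_of% hfE, hw]
  haveI := hB'
  haveI : IsIso l := hB.2.2.2.2.2 B' b' l hB'.2.1 hB'.2.2.1 hB'.2.2.2.1 hB'.2.2.2.2.1 hl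
  have hEB : ∃ e : E ⟶ B, e ≫ b = iE ≫ i := ⟨eE ≫ inv l, by
    rw [Category.assoc, ← hl, IsIso.inv_hom_id_assoc, heE]⟩
  obtain ⟨e, he⟩ := hEB
  -- points of the centralizer
  haveI : IsReduced Z.left := GrothLib.RedSmooth.isReduced_of_smooth Z.hom
  haveI : LocallyOfFiniteType Z.hom := inferInstance
  haveI : JacobsonSpace Z.left := LocallyOfFiniteType.jacobsonSpace Z.hom
  obtain ⟨htbm, htbmono, hzB⟩ := id hz
  obtain ⟨hTc, hTa, hTs, hTconn⟩ := GrothLib.Chev24.torus_facts' hTt (t ≫ b)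
  haveI := hTc; haveI := hTa; haveI := hTs; haveI := hTconn
  haveI := hT.1; haveI := hT.2.1
  obtain ⟨htc, -⟩ := GrothLib.Chev24.torus_facts' hTt t
  haveI := htc
  obtain ⟨t₀, ht₀⟩ := hfacB T t
  have ht₁ : (t₀ ≫ w) ≫ i = t ≫ b := by rw [Category.assoc, hw, reassoc_of% ht₀]
  haveI : IsMonHom ((t₀ ≫ w) ≫ i) := by rw [ht₁]; infer_instance
  haveI : IsMonHom (t₀ ≫ w) := GrothLib.CentMT14.isMonHom_of_comp (t₀ ≫ w) i
  haveI : Mono ((t₀ ≫ w) ≫ i) := by rw [ht₁]; infer_instance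
  haveI : Mono (t₀ ≫ w) := mono_of_mono (t₀ ≫ w) i
  have hT₁ : AGF.IsMaxTorus (t₀ ≫ w) := ⟨inferInstance, inferInstance, hTt, fun R _ r _ _ f hR hf =>
    hTmax R (r ≫ i) f hR (by rw [reassoc_of% hf]; simpa only [Category.assoc] using ht₁)⟩
  obtain ⟨CN, _, cN, hcN, -⟩ := GrothLib.MultDef14.exists_centralizer
    (GrothLib.DiagGrp.hasChartsFpqc_of_isTorus hTt) (inferInstance : Smooth N.hom) (isAffineHom_of_isAffine _) (t₀ ≫ w)
  obtain ⟨fC, hfC⟩ := exists_factor_centralizer hT₁ hcN hE (t₀ ≫ fE) (by rw [Category.assoc, hfE])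
  refine GrothLib.AntiAffine.exists_factor_of_dense z b (A := closedPoints Z.left) ?_ fun y hy => ?_
  · exact dense_iff_closure_eq.2 closure_closedPoints
  · obtain ⟨v, rfl⟩ := exists_cl hy
    obtain ⟨n, m, hnm, hmρ, hmc⟩ := hdec (v ≫ z)
    obtain ⟨n', hn'⟩ := (hcN.2.2 _ n).2 fun X' x h => by
      rw [← cancel_mono i, MonObj.mul_comp, MonObj.mul_comp, Category.assoc h, ht₁, Category.assoc]
      have e1 := (hzB _ (v ≫ z)).1 ⟨v, rfl⟩ X' x h
      have e2 : n ≫ i = (v ≫ z) * m⁻¹ := by rw [← hnm, mul_inv_cancel_right]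
      rw [e2, MonObj.comp_mul, GrpObj.comp_inv]
      generalize x ≫ v ≫ z = a at e1 ⊢
      have e3 : (x ≫ m) * (h ≫ t ≫ b) = (h ≫ t ≫ b) * (x ≫ m) := by
        rw [show x = toUnit X' from toUnit_unique _ _]; exact hmc _ _
      generalize x ≫ m = c at e3 ⊢
      generalize h ≫ t ≫ b = d at e1 e3 ⊢
      have e4 : c⁻¹ * d = d * c⁻¹ := (Commute.inv_left (show Commute c d from e3)).eq
      rw [_root_.mul_assoc, e4, ← _root_.mul_assoc, e1, _root_.mul_assoc]
    obtain ⟨y', hy'⟩ := (hzero m hmρ).1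
    refine ⟨cl ((n' ≫ fC ≫ e) * y'), ?_⟩
    rw [← cl_comp, ← cl_comp, MonObj.mul_comp, hy']
    congr 1
    rw [← hnm]
    congr 1
    simp only [Category.assoc, he, reassoc_of% hfC]
    rw [← Category.assoc, hn']

end GrothLib.Flag27
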