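import Groth.Agent.Lib.Flag27.TorusConj
import Groth.Agent.Lib.MultDef14.SubTransporter
import Groth.Agent.Lib.QuotTorus14.Split
import Groth.Prelude.Def_AGF

/-!
# Maximal tori
-/

set_option autoImplicit false
set_option linter.all false
set_option backward.isDefEq.respectTransparency false

universe u

open CategoryTheory MonoidalCategory CartesianMonoidalCategory MonObj GrpObj AlgebraicGeometry

namespace GrothLib.Flag27

variable {k : Type u} [Field k]

/-- Subtori of affine groups are closed, affine, smooth and connected. -/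
theorem torus_facts {G T : Over (Spec (CommRingCat.of k))} [GrpObj G] [GrpObj T] [IsAffine G.left]
    [LocallyOfFiniteType G.hom] (hT : Red.IsTorus T) (i : T ⟶ G) [IsMonHom i] [Mono i] :
    IsClosedImmersion i.left ∧ IsAffine T.left ∧ Smooth T.hom ∧ ConnectedSpace T.left := by
  haveI := GrothLib.MultDef14.isClosedImmersion_of_mono
    (GrothLib.QuotTorus14.isMultTypeFT_of_charts (GrothLib.DiagGrp.hasChartsFpqc_of_isTorus hT))
    (isAffineHom_of_isAffine _) i
  haveI : IsAffine T.left := isAffine_of_isAffineHom i.left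
  haveI : LocallyOfFiniteType T.hom := by rw [← Over.w i]; infer_instance
  exact ⟨inferInstance, inferInstance, Rigidity.smooth_connected_of_isTorus T hT⟩

variable [IsAlgClosed k] {G : Over (Spec (CommRingCat.of k))} [GrpObj G] [IsAffine G.left] [Smooth G.hom]
  [ConnectedSpace G.left]

/-- Subtori are conjugate into the section of a split Borel subgroup. -/
theorem exists_conj_into_section {B D U : Over (Spec (CommRingCat.of k))} [GrpObj B] [GrpObj D] [GrpObj U]
    {iB : B ⟶ G} (hB : Red.IsBorelOver k iB) (p : B ⟶ D) (s : D ⟶ B) (u : U ⟶ B) (r : B ⟶ U)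
    [IsMonHom p] [IsMonHom s] [IsMonHom u] [IsClosedImmersion u.left] [Smooth U.hom]
    (hsp : s ≫ p = 𝟙 D) (hup : u ≫ p = 1) (hru : r ≫ u = 𝟙 B * (p ≫ s)⁻¹) (hU : IsUnip k U)
    {T : Over (Spec (CommRingCat.of k))} [GrpObj T] (hT : Red.IsTorus T) (iT : T ⟶ G) [IsMonHom iT] [Mono iT] :
    ∃ (g : 𝟙_ (Over (Spec (CommRingCat.of k))) ⟶ G) (f : T ⟶ D), f ≫ s ≫ iB = AGF.conjBy g iT := by
  obtain ⟨hTc, hTa, hTs, hTconn⟩ := torus_facts hT iT
  haveI := hTc; haveI := hTa; haveI := hTs; haveI := hTconn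
  obtain ⟨hi, hic, hBsm, -⟩ := id hB
  haveI := hi; haveI := hic; haveI := hBsm
  haveI : IsAffine B.left := isAffine_of_isAffineHom iB.left
  haveI : IsAffine U.left := isAffine_of_isAffineHom u.left
  haveI : Mono u := Over.mono_of_mono_left u
  haveI : Mono iB := Over.mono_of_mono_left iB
  obtain ⟨X, a, o, hX, hXp⟩ := isProper_quotient_good (uc_of_borel hB)
  haveI := hXp
  obtain ⟨g, l, hl⟩ := exists_conj_into a o hX iT
    (isSolvable_of_comm fun x y => GrothLib.RankCell14.comm_torus hT x y)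
  haveI : IsMonHom (l ≫ iB) := by rw [hl]; exact isMonHom_conjBy g iT
  haveI : IsMonHom l := GrothLib.CentMT14.isMonHom_of_comp l iB
  obtain ⟨h, hh⟩ := exists_conj_section hU p s u r hsp hup hru hT l
  refine ⟨(h ≫ iB) * g, l ≫ p, ?_⟩
  rw [← conjBy_conjBy, ← hl,
    show AGF.conjBy (h ≫ iB) (l ≫ iB) = AGF.conjBy h l ≫ iB by
      simp only [AGF.conjBy, MonObj.mul_comp, GrpObj.inv_comp, Category.assoc],
    hh]
  simp only [Category.assoc]

/-- Maximal tori are conjugate to the section of a split Borel subgroup. -/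
theorem exists_iso_section {B D U : Over (Spec (CommRingCat.of k))} [GrpObj B] [GrpObj D] [GrpObj U]
    {iB : B ⟶ G} (hB : Red.IsBorelOver k iB) (p : B ⟶ D) (s : D ⟶ B) (u : U ⟶ B) (r : B ⟶ U)
    [IsMonHom p] [IsMonHom s] [IsMonHom u] [IsClosedImmersion u.left] [Smooth U.hom]
    (hsp : s ≫ p = 𝟙 D) (hup : u ≫ p = 1) (hru : r ≫ u = 𝟙 B * (p ≫ s)⁻¹) (hU : IsUnip k U) (hD : Red.IsTorus D)
    {T : Over (Spec (CommRingCat.of k))} [GrpObj T] (iT : T ⟶ G) (hT : AGF.IsMaxTorus iT) :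
    ∃ (g : 𝟙_ (Over (Spec (CommRingCat.of k))) ⟶ G) (f : T ≅ D), f.hom ≫ s ≫ iB = AGF.conjBy g iT := by
  obtain ⟨hm, hmono, hTt, hmax⟩ := hT
  haveI := hm; haveI := hmono
  obtain ⟨hi, hic, -⟩ := id hB
  haveI := hi; haveI := hic
  haveI : Mono iB := Over.mono_of_mono_left iB
  haveI : IsSplitMono s := IsSplitMono.mk' ⟨p, hsp⟩
  haveI : Mono (s ≫ iB) := inferInstance
  haveI : IsClosedImmersion (s ≫ iB).left := (torus_facts hD (s ≫ iB)).1
  obtain ⟨g, f, hf⟩ := exists_conj_into_section hB p s u r hsp hup hru hU hTt iT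
  haveI : IsMonHom (AGF.conjBy g⁻¹ (s ≫ iB)) := isMonHom_conjBy g⁻¹ (s ≫ iB)
  haveI : IsClosedImmersion (AGF.conjBy g⁻¹ (s ≫ iB)).left := isClosedImmersion_conjBy g⁻¹ (s ≫ iB)
  haveI : Mono (AGF.conjBy g⁻¹ (s ≫ iB)) := Over.mono_of_mono_left _
  haveI := hmax D (AGF.conjBy g⁻¹ (s ≫ iB)) f hD
    (by rw [comp_conjBy', hf, conjBy_conjBy, inv_mul_cancel, conjBy_one])
  exact ⟨g, asIso f, hf⟩

end GrothLib.Flag27
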