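import Groth.Agent.Lib.Flag27.CentBorel
import Groth.Agent.Lib.Flag27.MaxTori
import Groth.Agent.Lib.Flag27.NoSubtorus
import Groth.Agent.S3278

/-!
# Centralizers of maximal tori
-/

set_option autoImplicit false
set_option linter.all false
set_option backward.isDefEq.respectTransparency false

universe u

open CategoryTheory CategoryTheory.Limits MonoidalCategory CartesianMonoidalCategory MonObj GrpObj AlgebraicGeometry

namespace GrothLib.Flag27

variable {k : Type u} [Field k] [IsAlgClosed k]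
  {G : Over (Spec (CommRingCat.of k))} [GrpObj G] [IsAffine G.left] [Smooth G.hom] [ConnectedSpace G.left]

set_option maxHeartbeats 800000 in
/-- A connected group with a central maximal torus has only one Borel subgroup. -/
theorem surjective_borel_of_central_maxTorus {T B : Over (Spec (CommRingCat.of k))} [GrpObj T] [GrpObj B] {iT : T ⟶ G}
    (hT : AGF.IsMaxTorus iT)
    (hc : ∀ (X : Over (Spec (CommRingCat.of k))) (g : X ⟶ G) (t : X ⟶ T), g * (t ≫ iT) = (t ≫ iT) * g)
    {iB : B ⟶ G} (hB : Red.IsBorelOver k iB) (g : 𝟙_ (Over (Spec (CommRingCat.of k))) ⟶ G) :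
    ∃ b, b ≫ iB = g := by
  obtain ⟨hTm, hTmono, hTt, -⟩ := id hT
  haveI := hTm; haveI := hTmono
  obtain ⟨hTc, hTa, hTs, hTconn⟩ := torus_facts hTt iT
  haveI := hTc; haveI := hTa; haveI := hTs; haveI := hTconn
  obtain ⟨hBm, hBc, hBsm, hBconn, hBsolv, -⟩ := id hB
  haveI := hBm; haveI := hBc; haveI := hBsm; haveI := hBconn
  haveI : IsAffine B.left := isAffine_of_isAffineHom iB.left
  haveI : Mono iB := Over.mono_of_mono_left iB
  have hid : toUnit (𝟙_ (Over (Spec (CommRingCat.of k)))) = 𝟙 _ := toUnit_unique _ _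
  obtain ⟨D, _, U, _, p, s, u, r, hp, hs, hu, hsp, hDt, hDa, hDs, -, huc, hup, -, hru, hUu, hUs, -⟩ :=
    hasSplit_of_solvable (isSolvable_points hBsolv)
  haveI := hp; haveI := hs; haveI := hu; haveI := huc; haveI := hUs; haveI := hDs; haveI := hDa
  obtain ⟨h, f, hf⟩ := exists_iso_section hB p s u r hsp hup hru hUu hDt iT hT
  have hfT : f.hom ≫ s ≫ iB = iT := by
    rw [hf, AGF.conjBy]
    rw [show (toUnit T ≫ h) * iT = iT * (toUnit T ≫ h) by
      simpa only [Category.id_comp] using hc T (toUnit T ≫ h) (𝟙 T)]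
    exact mul_inv_cancel_right _ _
  -- the quotient by the torus
  obtain ⟨Q, _, q, hq, hQa, hQft, hqf, hqs, hker⟩ := Groth.Agent.S3278.result k G T iT
    (fun X g t => ⟨t, by rw [hc X g t, mul_inv_cancel_right]⟩)
  haveI := hq; haveI := hQa; haveI := hQft; haveI := hqs; haveI := hqf
  haveI : IsReduced G.left := GrothLib.RedSmooth.isReduced_of_smooth G.hom
  haveI : IsReduced Q.left := GrothLib.FlatFactor.isReduced_of_flat_surjective q.left
  haveI : Smooth Q.hom := smooth_of_reduced_grp Q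
  haveI : ConnectedSpace Q.left := q.left.surjective.connectedSpace q.left.continuous
  obtain ⟨B', _, iB', pb, hB', hpbs, hpb, hpbm⟩ := exists_image_borel q hB
  haveI := hpbs; haveI := hpbm
  obtain ⟨hB'm, hB'c, hB'sm, hB'conn, hB'solv, -⟩ := id hB'
  haveI := hB'm; haveI := hB'c; haveI := hB'sm; haveI := hB'conn
  haveI : IsAffine B'.left := isAffine_of_isAffineHom iB'.left
  haveI : Mono iB' := Over.mono_of_mono_left iB'
  obtain ⟨D', _, U', _, p', s', u', r', hp', hs', hu', hsp', hDt', hDa', hDs', -, hu'c, hu'p, hu'r, hru', hU'u, hU's, -⟩ :=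
    hasSplit_of_solvable (isSolvable_points hB'solv)
  haveI := hp'; haveI := hs'; haveI := hu'; haveI := hDa'; haveI := hDs'
  have hTq : iT ≫ q = 1 := by
    rw [hker.w, Hom.one_def]
  have hspb : s ≫ pb = 1 := by
    rw [← cancel_mono iB', MonObj.one_comp, Category.assoc, hpb, ← cancel_epi f.hom, MonObj.comp_one,
      ← Category.assoc, ← Category.assoc, Category.assoc f.hom s iB, hfT, hTq]
  have hpp : pb ≫ p' = 1 := by
    have h1 : u ≫ pb ≫ p' = 1 := hUu.hom_torus_eq_one hDt' (u ≫ pb ≫ p')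
    have e : (𝟙 B * (p ≫ s)⁻¹) ≫ pb ≫ p' = 1 := by rw [← hru, Category.assoc, h1, MonObj.comp_one]
    rw [MonObj.mul_comp, GrpObj.inv_comp, Category.id_comp, Category.assoc, ← Category.assoc s, hspb,
      MonObj.one_comp, MonObj.comp_one, inv_one, _root_.mul_one] at e
    exact e
  have hp'1 : p' = 1 := by
    haveI : IsSeparated D'.hom := inferInstance
    haveI : IsReduced B'.left := GrothLib.RedSmooth.isReduced_of_smooth B'.hom
    refine GrothLib.Rigidity.ext_of_points _ _ fun w => ?_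
    obtain ⟨z, -, hz⟩ := exists_cl_lift pb (E := Set.univ) isClosed_univ.isLocallyClosed (w := w)
      (by rw [Set.image_univ]; exact pb.left.surjective _)
    rw [← hz, Category.assoc, hpp, MonObj.comp_one, MonObj.comp_one]
  haveI : IsIso u' := ⟨r', hu'r, by rw [hru', hp'1, MonObj.one_comp, inv_one, _root_.mul_one]⟩
  have hB'u : IsUnip k B' := hU'u.of_iso u'
  obtain ⟨X, a, o, hX, hXp⟩ := isProper_quotient_good (uc_of_borel hB')
  haveI := hXp
  haveI : X.left.IsQuasiAffine := (Groth.Agent.S11189.result k Q B' iB' X a o hX).1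
    (Groth.Agent.S11200.result k Q B' iB' fun χ hχ => by haveI := hχ; exact hB'u.char_eq_one χ)
  haveI := surjective_of_quasiAffine_proper iB' a o hX
  -- every point lies in the Borel subgroup
  obtain ⟨w, -, hw⟩ := exists_cl_lift iB' (E := Set.univ) isClosed_univ.isLocallyClosed (w := g ≫ q)
    (by rw [Set.image_univ]; exact iB'.left.surjective _)
  obtain ⟨b₁, -, hb₁⟩ := exists_cl_lift pb (E := Set.univ) isClosed_univ.isLocallyClosed (w := w)
    (by rw [Set.image_univ]; exact pb.left.surjective _)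
  have hk : (g * (b₁ ≫ iB)⁻¹) ≫ q = toUnit _ ≫ η[Q] := by
    rw [MonObj.mul_comp, GrpObj.inv_comp, Category.assoc, ← hpb, ← Category.assoc b₁ pb iB', hb₁, hw, mul_inv_cancel,
      Hom.one_def]
  obtain ⟨n, hn, -⟩ := hker.exists_lift (g * (b₁ ≫ iB)⁻¹) (toUnit _) hk
  refine ⟨(n ≫ f.hom ≫ s) * b₁, ?_⟩
  rw [MonObj.mul_comp, Category.assoc, Category.assoc, hfT, hn, inv_mul_cancel_right]

/-- The centralizer of a maximal torus lies in every Borel subgroup containing the torus. -/
theorem exists_factor_centralizer {T C B : Over (Spec (CommRingCat.of k))} [GrpObj T] [GrpObj C] [GrpObj B]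
    {iT : T ⟶ G} (hT : AGF.IsMaxTorus iT) {c : C ⟶ G} (hc : Red.IsCentralizerOf iT c)
    {iB : B ⟶ G} (hB : Red.IsBorelOver k iB) (t : T ⟶ B) (ht : t ≫ iB = iT) : ∃ f : C ⟶ B, f ≫ iB = c := by
  obtain ⟨hTm, hTmono, hTt, hmax⟩ := id hT
  haveI := hTm; haveI := hTmono
  obtain ⟨hcc, hCa, hCs, hCconn⟩ := centralizer_facts iT hTt hc
  haveI := hcc; haveI := hCa; haveI := hCs; haveI := hCconn
  obtain ⟨hcm, hcmono, hciff⟩ := id hc
  haveI := hcm; haveI := hcmono
  obtain ⟨hBm, hBc, -⟩ := id hB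
  haveI := hBm; haveI := hBc
  haveI : Mono iB := Over.mono_of_mono_left iB
  obtain ⟨tC, htC⟩ := (hciff _ iT).2 fun X x h => by
    rw [← MonObj.mul_comp, ← MonObj.mul_comp, GrothLib.RankCell14.comm_torus hTt (x) h]
  haveI : IsMonHom (tC ≫ c) := by rw [htC]; infer_instance
  haveI : IsMonHom tC := GrothLib.CentMT14.isMonHom_of_comp tC c
  haveI : Mono (tC ≫ c) := by rw [htC]; infer_instance
  haveI : Mono tC := mono_of_mono tC c
  have hTC : AGF.IsMaxTorus tC := by
    refine ⟨inferInstance, inferInstance, hTt, fun T' _ j _ _ f hT' hf => ?_⟩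
    exact hmax T' (j ≫ c) f hT' (by rw [reassoc_of% hf, htC])
  let D := pullback c iB
  obtain ⟨_, hDm⟩ : ∃ _ : GrpObj D, IsMonHom (pullback.fst c iB) :=
    GrothLib.EssFree.exists_grpObj_of_mono (pullback.fst c iB)
      (fun X => ⟨pullback.lift 1 1 (by rw [MonObj.one_comp, MonObj.one_comp]), pullback.lift_fst _ _ _⟩)
      (fun X a b => ⟨pullback.lift ((a ≫ pullback.fst c iB) * (b ≫ pullback.fst c iB))
        ((a ≫ pullback.snd c iB) * (b ≫ pullback.snd c iB))
        (by simp only [MonObj.mul_comp, Category.assoc, pullback.condition]), pullback.lift_fst _ _ _⟩)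
      (fun X a => ⟨pullback.lift (a ≫ pullback.fst c iB)⁻¹ (a ≫ pullback.snd c iB)⁻¹
        (by simp only [GrpObj.inv_comp, Category.assoc, pullback.condition]), pullback.lift_fst _ _ _⟩)
  haveI := hDm
  have hD' := isBorelOver_inter iT hTt hc hB t ht (pullback.fst c iB) (pullback.snd c iB) (IsPullback.of_hasPullback c iB)
  have hcentral : ∀ (X : Over (Spec (CommRingCat.of k))) (g : X ⟶ C) (v : X ⟶ T),
      g * (v ≫ tC) = (v ≫ tC) * g := fun X g v => by
    rw [← cancel_mono c, MonObj.mul_comp, MonObj.mul_comp, Category.assoc, htC]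
    have := (hciff _ (g ≫ c)).1 ⟨g, rfl⟩ X (𝟙 X) v
    rwa [Category.id_comp] at this
  haveI : IsReduced C.left := GrothLib.RedSmooth.isReduced_of_smooth C.hom
  exact exists_lift_of_pts c iB fun v => by
    obtain ⟨b, hb⟩ := surjective_borel_of_central_maxTorus hTC hcentral hD' v
    exact ⟨b ≫ pullback.snd c iB, by rw [Category.assoc, ← pullback.condition, reassoc_of% hb]⟩

end GrothLib.Flag27
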