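import Groth.Agent.Lib.Flag27.ParabolicS
import Groth.Prelude.Def_RedSub

/-!
# Borel subgroups in the weak sense are closed and self-normalizing
-/

set_option autoImplicit false
set_option linter.all false
set_option backward.isDefEq.respectTransparency false

universe u

open CategoryTheory CategoryTheory.Limits MonoidalCategory CartesianMonoidalCategory MonObj GrpObj AlgebraicGeometry

namespace GrothLib.Flag27

open GrothLib.DiagGrp

variable {S : Scheme.{u}} {G P : Over S} [GrpObj G] [GrpObj P]

/-- An isomorphism on a geometric fibre is one on the fibre. -/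
theorem isIso_fibre_of_geom' {A B : Over S} (v : A ⟶ B) (s : S)
    (h : IsIso ((Over.pullback (Red.geomPt s)).map v)) : IsIso (pullback.snd v.left (B.hom.fiberι s)) := by
  let σ : Spec (CommRingCat.of (AlgebraicClosure (S.residueField s))) ⟶ Spec (S.residueField s) :=
    Spec.map (CommRingCat.ofHom (algebraMap (S.residueField s) (AlgebraicClosure (S.residueField s))))
  let v' := (Over.pullback (S.fromSpecResidueField s)).map v
  have h' : IsIso ((Over.pullback σ).map v') :=
    (NatIso.isIso_map_iff (Over.pullbackComp σ (S.fromSpecResidueField s)) v).1 h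
  haveI : Surjective σ := surjective_to_field σ
  haveI : Flat σ := flat_to_field σ
  haveI : IsIso ((Over.pullback σ).map v').left :=
    inferInstanceAs (IsIso ((Over.forget _).map ((Over.pullback σ).map v')))
  have hQ : (@Surjective ⊓ @Flat ⊓ @QuasiCompact : MorphismProperty Scheme.{u})
      (pullback.fst (Red.bc (S.fromSpecResidueField s) B).hom σ) :=
    ⟨⟨MorphismProperty.pullback_fst _ _ ‹_›, MorphismProperty.pullback_fst _ _ ‹_›⟩,
      MorphismProperty.pullback_fst _ _ (inferInstance : QuasiCompact σ)⟩
  haveI : IsIso v'.left :=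
    MorphismProperty.of_isPullback_of_descendsAlong (P := MorphismProperty.isomorphisms Scheme.{u})
      (Q := @Surjective ⊓ @Flat ⊓ @QuasiCompact) (isPullback_overMap v' σ) hQ
      ‹IsIso ((Over.pullback σ).map v').left›
  have e := (isPullback_overMap v (S.fromSpecResidueField s)).flip
  exact (MorphismProperty.arrow_mk_iso_iff (MorphismProperty.isomorphisms Scheme.{u})
    (Arrow.isoMk e.isoPullback (Iso.refl _) (by
      simp only [Arrow.mk_hom, Iso.refl_hom]
      exact (IsPullback.isoPullback_hom_snd e).trans (Category.comp_id _).symm))).1 ‹IsIso v'.left›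

set_option maxHeartbeats 1600000 in
/-- A subgroup whose geometric fibres are parabolic is closed and its own normalizer. -/
theorem closed_normalizer_parabolic_base (hG : Smooth G.hom) (hGa : IsAffineHom G.hom)
    (hconn : ∀ s : S, ConnectedSpace (Red.bc (Red.geomPt s) G).left) {i : P ⟶ G} [IsMonHom i] [IsImmersion i.left]
    (hPs : Smooth P.hom)
    (hgeo : ∀ s : S, Red.IsParabolicOver (AlgebraicClosure (S.residueField s)) ((Over.pullback (Red.geomPt s)).map i)) :
    IsClosedImmersion i.left ∧ Red.IsNormalizerOf i i := by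
  haveI := hPs; haveI := hG; haveI := hGa
  haveI : Mono i := Over.mono_of_mono_left i
  have hfib : ∀ s : S, IsAffine (Red.bc (Red.geomPt s) G).left ∧ Smooth (Red.bc (Red.geomPt s) G).hom := fun s =>
    ⟨@isAffine_of_isAffineHom _ _ (pullback.snd G.hom (Red.geomPt s))
      (MorphismProperty.pullback_snd _ _ hGa) inferInstance, inferInstanceAs (Smooth (pullback.snd _ _))⟩
  have hgc : ∀ s : S, ConnectedSpace (Red.bc (Red.geomPt s) P).left := fun s => by
    obtain ⟨hm', hc', hs', B', _, e, hb⟩ := hgeo s
    haveI := hm'; haveI := hc'; haveI := hs'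
    haveI := (hfib s).1; haveI := (hfib s).2; haveI := hconn s
    exact connectedSpace_parabolic e hb
  haveI : GeometricallyConnected P.hom := DescentHom.geometricallyConnected_of_geomPt P.hom hgc
  haveI : GeometricallyIrreducible P.hom := SecLocus.geometricallyIrreducible_of_smooth P.hom
  haveI : LocallyOfFiniteType G.hom := inferInstance
  obtain ⟨N, _, j, hN, hjc, hjfp⟩ := GrothLib.SecLocus.exists_normalizer i
  haveI := hjc; haveI := hjfp
  obtain ⟨hjm, hjmono, hjiff⟩ := id hN
  haveI := hjm; haveI := hjmono
  obtain ⟨v, hv⟩ := (hjiff P i).2 fun X' x h =>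
    ⟨⟨x * h * x⁻¹, by simp only [MonObj.mul_comp, GrpObj.inv_comp]⟩,
      ⟨x⁻¹ * h * x, by simp only [MonObj.mul_comp, GrpObj.inv_comp]⟩⟩
  haveI : LocallyOfFiniteType N.hom := by rw [← Over.w j]; infer_instance
  haveI : LocallyOfFinitePresentation (v.left ≫ N.hom) := by rw [Over.w v]; infer_instance
  haveI : Flat (v.left ≫ N.hom) := by rw [Over.w v]; infer_instance
  have hiso : IsIso v.left := FibreFlat.isIso_of_fibrewise v.left N.hom fun s => isIso_fibre_of_geom' v s (by
    obtain ⟨hm', hc', hs', B', _, e, hb⟩ := hgeo s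
    haveI := hm'; haveI := hc'; haveI := hs'
    haveI := (hfib s).1; haveI := (hfib s).2; haveI := hconn s
    haveI : IsClosedImmersion ((Over.pullback (Red.geomPt s)).map j).left :=
      MorphismProperty.of_isPullback (P := @IsClosedImmersion) (isPullback_overMap j (Red.geomPt s)).flip hjc
    obtain ⟨φ, hφ⟩ := exists_factor_normalizer_parabolic e hb ((Over.pullback (Red.geomPt s)).map j)
      (isNormalizerOf_bc _ hN)
    haveI : Mono ((Over.pullback (Red.geomPt s)).map j) := Over.mono_of_mono_left _
    haveI : Mono ((Over.pullback (Red.geomPt s)).map i) := Over.mono_of_mono_left _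
    refine ⟨φ, ?_, ?_⟩
    · rw [← cancel_mono ((Over.pullback (Red.geomPt s)).map i), Category.assoc, hφ, ← Functor.map_comp, hv,
        Category.id_comp]
    · rw [← cancel_mono ((Over.pullback (Red.geomPt s)).map j), Category.assoc, ← Functor.map_comp, hv, hφ,
        Category.id_comp])
  haveI : IsIso ((Over.forget _).map v) := hiso
  haveI : IsIso v := isIso_of_reflects_iso v (Over.forget _)
  refine ⟨by rw [← hv, Over.comp_left]; infer_instance, inferInstance, inferInstance, fun X g => ⟨?_, fun hg => ?_⟩⟩
  · rintro ⟨z, rfl⟩ X' x h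
    exact ⟨⟨(x ≫ z) * h * (x ≫ z)⁻¹, by simp only [MonObj.mul_comp, GrpObj.inv_comp, Category.assoc]⟩,
      ⟨(x ≫ z)⁻¹ * h * (x ≫ z), by simp only [MonObj.mul_comp, GrpObj.inv_comp, Category.assoc]⟩⟩
  · obtain ⟨z, hz⟩ := (hjiff X g).2 hg
    exact ⟨z ≫ inv v, by rw [Category.assoc, ← hv, IsIso.inv_hom_id_assoc, hz]⟩

set_option maxHeartbeats 800000 in
/-- Borel subgroups in the weak sense are closed and self-normalizing. -/
theorem closed_normalizer_borelSub (hG : Red.IsReductive G) {i : P ⟶ G} (hP : RedSub.IsBorelSub i) :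
    IsClosedImmersion i.left ∧ Red.IsNormalizerOf i i := by
  obtain ⟨⟨⟨hm, himm⟩, hs, -⟩, hbor⟩ := hP
  haveI := hm; haveI := himm
  obtain ⟨hGa, hGs, hGr⟩ := hG
  refine closed_normalizer_parabolic_base hGs hGa (fun s => (hGr s).2.2.1) hs fun s => ?_
  obtain ⟨hm', hc', hs', hrest⟩ := id (hbor s)
  exact ⟨hm', hc', hs', _, inferInstance, 𝟙 _, by rw [Category.id_comp]; exact hbor s⟩

end GrothLib.Flag27
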