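import Groth.Agent.Lib.Flag27.AffinePart
import Groth.Agent.Lib.Flag27.BorelSubS
import Groth.Agent.Lib.NoriFGS13.FFlat

/-!
# Borel subgroups of groups which are not affine are their own normalizers
-/

set_option autoImplicit false
set_option linter.all false
set_option backward.isDefEq.respectTransparency false
set_option synthInstance.maxHeartbeats 40000

universe u

open CategoryTheory CategoryTheory.Limits MonoidalCategory CartesianMonoidalCategory MonObj GrpObj AlgebraicGeometry

namespace GrothLib.Flag27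

variable {k : Type u} [Field k] [IsAlgClosed k] {G : Over (Spec (CommRingCat.of k))} [GrpObj G] [Smooth G.hom]
  [QuasiCompact G.hom] [ConnectedSpace G.left]

set_option maxHeartbeats 1600000 in
/-- A Borel subgroup is the preimage of a Borel subgroup of the affine part. -/
theorem exists_isPullback_of_borel {H N B : Over (Spec (CommRingCat.of k))} [GrpObj H] [GrpObj N] [GrpObj B]
    [IsAffine H.left] [Smooth H.hom] [Smooth N.hom] [ConnectedSpace N.left] [ConnectedSpace H.left]
    (ρ : G ⟶ H) [IsMonHom ρ] [Smooth ρ.left] [Surjective ρ.left] (i : N ⟶ G) [IsMonHom i]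
    (hker : AlgGrp.IsKernel i ρ)
    (hcen : ∀ (X : Over (Spec (CommRingCat.of k))) (a : X ⟶ N) (b : X ⟶ G), (a ≫ i) * b = b * (a ≫ i))
    {b : B ⟶ G} (hB : Red.IsBorelOver k b) :
    ∃ (B₀ : Over (Spec (CommRingCat.of k))) (_ : GrpObj B₀) (iB₀ : B₀ ⟶ H) (π : B ⟶ B₀),
      Red.IsBorelOver k iB₀ ∧ IsPullback b π ρ iB₀ := by
  obtain ⟨hbm, hbc, hbs, hbconn, hbsolv, -⟩ := id hB
  haveI := hbm; haveI := hbc; haveI := hbs; haveI := hbconn
  haveI : LocallyOfFiniteType G.hom := inferInstance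
  haveI : QuasiCompact B.hom := by rw [← Over.w b]; infer_instance
  haveI : LocallyOfFiniteType B.hom := inferInstance
  haveI : QuasiCompact (b ≫ ρ).left := by
    haveI : QuasiCompact ((b ≫ ρ).left ≫ H.hom) := by rw [Over.w (b ≫ ρ)]; infer_instance
    exact QuasiCompact.of_comp _ H.hom
  obtain ⟨M, _, jM, _, _, q, hq, hqd, hqq⟩ := GrothLib.AntiAffine.exists_image_subgroup (b ≫ ρ)
  haveI : Mono jM := Over.mono_of_mono_left jM
  haveI : IsMonHom (q ≫ jM) := by rw [hq]; infer_instance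
  haveI : IsMonHom q := GrothLib.CentMT14.isMonHom_of_comp q jM
  haveI : IsAffine M.left := isAffine_of_isAffineHom jM.left
  haveI : LocallyOfFiniteType M.hom := by rw [← Over.w jM]; infer_instance
  have hqs : Surjective q.left :=
    (GrothLib.AffHull14.flat_surjective_of_dominant q (q.left.app_injective ⊤)).2
  haveI : IsReduced B.left := GrothLib.RedSmooth.isReduced_of_smooth B.hom
  haveI : IsReduced M.left := IsSchemeTheoreticallyDominant.isReduced q.left
  haveI : Smooth M.hom := smooth_of_reduced_grp M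
  haveI : ConnectedSpace M.left := q.left.surjective.connectedSpace q.left.continuous
  haveI : Group.IsSolvable (𝟙_ (Over (Spec (CommRingCat.of k))) ⟶ B) := isSolvable_points hbsolv
  have hMsolv : Red.IsSolvableGrp M := by
    refine isSolvableGrp_of_points (solvable_of_surjective
      (f := MonoidHom.mk' (fun v : 𝟙_ (Over (Spec (CommRingCat.of k))) ⟶ B => v ≫ q) fun c d => MonObj.mul_comp c d q)
      fun w => ?_)
    obtain ⟨z, -, hz⟩ := exists_cl_lift q (E := Set.univ) isClosed_univ.isLocallyClosed (w := w)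
      (by rw [Set.image_univ, Set.range_eq_univ.2 hqs.surj]; exact Set.mem_univ _)
    exact ⟨z, hz⟩
  obtain ⟨B₀, _, iB₀, f, hB₀, hf⟩ := exists_borel_containing_solvable jM hMsolv
  obtain ⟨B', _, b', π', hB', sq⟩ := exists_borel_preimage ρ i hker hcen hB₀
  let l : B ⟶ B' := sq.lift b (q ≫ f) (by rw [Category.assoc, hf, hq])
  have hl : l ≫ b' = b := sq.lift_fst _ _ _
  obtain ⟨hbm', hbc', hbs', hbconn', hbsolv', -⟩ := id hB'
  haveI := hbm'
  haveI : IsIso l := hB.2.2.2.2.2 B' b' l hbc' hbs' hbconn' hbsolv' hl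
  refine ⟨B₀, inferInstance, iB₀, l ≫ π', hB₀, sq.of_iso (asIso l).symm (Iso.refl _) (Iso.refl _) (Iso.refl _)
    ?_ ?_ (by simp) (by simp)⟩
  · rw [Iso.refl_hom, Category.comp_id, Iso.symm_hom, asIso_inv, IsIso.eq_inv_comp, hl]
  · rw [Iso.refl_hom, Category.comp_id, Iso.symm_hom, asIso_inv, IsIso.inv_hom_id_assoc]

set_option maxHeartbeats 1600000 in
/-- The normalizer of a Borel subgroup is the Borel subgroup. -/
theorem exists_factor_normalizer_general {B P : Over (Spec (CommRingCat.of k))} [GrpObj B] [GrpObj P]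
    {b : B ⟶ G} (hB : Red.IsBorelOver k b) (n : P ⟶ G) (hn : Red.IsNormalizerOf b n) :
    ∃ φ : P ⟶ B, φ ≫ b = n := by
  obtain ⟨H, _, _, _, _, ρ, _, _, _, N, _, _, _, _, i, _, _, hker, hcen⟩ := exists_affine_part (G := G)
  obtain ⟨B₀, _, iB₀, π, hB₀, sq⟩ := exists_isPullback_of_borel ρ i hker hcen hB
  obtain ⟨hnm, hnmono, hniff⟩ := id hn
  haveI := hnm; haveI := hnmono
  obtain ⟨hm₀, hc₀, hs₀, hconn₀, -⟩ := id hB₀
  haveI := hm₀; haveI := hc₀; haveI := hs₀; haveI := hconn₀
  haveI : Mono iB₀ := Over.mono_of_mono_left iB₀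
  have sqL := sq.map (Over.forget _)
  haveI : Smooth π.left := MorphismProperty.of_isPullback (P := @Smooth) sqL ‹Smooth ρ.left›
  haveI : Surjective π.left := MorphismProperty.of_isPullback (P := @Surjective) sqL ‹Surjective ρ.left›
  haveI : LocallyOfFiniteType G.hom := inferInstance
  obtain ⟨hbm, hbc, -⟩ := id hB
  haveI := hbc
  haveI : QuasiCompact B.hom := by rw [← Over.w b]; infer_instance
  haveI : QuasiCompact π.left := by
    haveI : QuasiCompact (π.left ≫ B₀.hom) := by rw [Over.w π]; infer_instance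
    haveI : IsAffine B₀.left := isAffine_of_isAffineHom iB₀.left
    exact QuasiCompact.of_comp _ B₀.hom
  let u : P ⊗ B ⟶ P ⊗ B₀ := P ◁ π
  have hu : Surjective u.left ∧ Flat u.left ∧ QuasiCompact u.left := by
    haveI := GrothLib.GrpSchField.whiskerRight_property @Surjective π P ‹_›
    haveI := GrothLib.GrpSchField.whiskerRight_property @Flat π P inferInstance
    haveI := GrothLib.GrpSchField.whiskerRight_property @QuasiCompact π P ‹_›
    haveI : IsIso (β_ P B).hom.left := GrothLib.GrpSchField.isIso_left _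
    haveI : IsIso (β_ B₀ P).hom.left := GrothLib.GrpSchField.isIso_left _
    have e : u.left = (β_ P B).hom.left ≫ (π ▷ P).left ≫ (β_ B₀ P).hom.left := by
      rw [← Over.comp_left, ← Over.comp_left]
      refine congrArg (fun f : P ⊗ B ⟶ P ⊗ B₀ => f.left) ?_
      ext1 <;> simp [u]
    rw [e]
    exact ⟨inferInstance, inferInstance, inferInstance⟩
  haveI := hu.1; haveI := hu.2.1; haveI := hu.2.2
  haveI : IsSchemeTheoreticallyDominant u.left := GrothLib.NoriFGS13.isSchemeTheoreticallyDominant_of_flat u.left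
  have huπ : u ≫ fst P B₀ = fst P B ∧ u ≫ snd P B₀ = snd P B ≫ π :=
    ⟨whiskerLeft_fst _ _, whiskerLeft_snd _ _⟩
  obtain ⟨⟨a₁, ha₁⟩, ⟨a₂, ha₂⟩⟩ := (hniff P n).1 ⟨𝟙 P, Category.id_comp n⟩ (P ⊗ B) (fst P B) (snd P B)
  let c₁ : P ⊗ B₀ ⟶ H := (fst P B₀ ≫ n ≫ ρ) * (snd P B₀ ≫ iB₀) * (fst P B₀ ≫ n ≫ ρ)⁻¹
  let c₂ : P ⊗ B₀ ⟶ H := (fst P B₀ ≫ n ≫ ρ)⁻¹ * (snd P B₀ ≫ iB₀) * (fst P B₀ ≫ n ≫ ρ)
  have hbρ : b ≫ ρ = π ≫ iB₀ := sq.w
  obtain ⟨e₁, he₁⟩ := GrothLib.AntiAffine.exists_factor u c₁ iB₀ (a₁ ≫ π) (by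
    rw [Category.assoc, ← hbρ, ← Category.assoc, ← ha₁]
    simp only [c₁, MonObj.comp_mul, GrpObj.comp_inv, MonObj.mul_comp, GrpObj.inv_comp, Category.assoc,
      reassoc_of% huπ.1, reassoc_of% huπ.2, hbρ])
  obtain ⟨e₂, he₂⟩ := GrothLib.AntiAffine.exists_factor u c₂ iB₀ (a₂ ≫ π) (by
    rw [Category.assoc, ← hbρ, ← Category.assoc, ← ha₂]
    simp only [c₂, MonObj.comp_mul, GrpObj.comp_inv, MonObj.mul_comp, GrpObj.inv_comp, Category.assoc,
      reassoc_of% huπ.1, reassoc_of% huπ.2, hbρ])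
  haveI : GeometricallyConnected B₀.hom := DescentHom.geometricallyConnected_of_geomPt B₀.hom fun s' => by
    haveI := isIso_geomPt s'
    exact connectedSpace_bc (Red.geomPt s') B₀
  haveI : GeometricallyIrreducible B₀.hom := SecLocus.geometricallyIrreducible_of_smooth B₀.hom
  haveI : LocallyOfFiniteType H.hom := inferInstance
  obtain ⟨NH, _, jH, hNH, hjHc, -⟩ := GrothLib.SecLocus.exists_normalizer iB₀
  haveI := hjHc
  obtain ⟨ψ, hψ⟩ := exists_factor_normalizer hB₀ jH hNH
  obtain ⟨w, hw⟩ := (hNH.2.2 P (n ≫ ρ)).2 fun X' x h => by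
    refine ⟨⟨lift x h ≫ e₁, ?_⟩, ⟨lift x h ≫ e₂, ?_⟩⟩
    · rw [Category.assoc, he₁]
      simp only [c₁, MonObj.comp_mul, GrpObj.comp_inv, lift_fst_assoc, lift_snd_assoc]
    · rw [Category.assoc, he₂]
      simp only [c₂, MonObj.comp_mul, GrpObj.comp_inv, lift_fst_assoc, lift_snd_assoc]
  exact ⟨sq.lift n (w ≫ ψ) (by rw [Category.assoc, hψ, hw]), sq.lift_fst _ _ _⟩

end GrothLib.Flag27

namespace GrothLib.Flag27

open GrothLib.DiagGrp

variable {S : Scheme.{u}} {G B : Over S} [GrpObj G] [GrpObj B]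

set_option maxHeartbeats 1600000 in
/-- A Borel subgroup of a group with connected fibres is closed and its own normalizer. -/
theorem closed_normalizer_borel_general [Smooth G.hom] [QuasiCompact G.hom]
    (hconn : ∀ s : S, _root_.IsConnected (G.hom.base ⁻¹' {s})) {b : B ⟶ G} [IsMonHom b] [IsImmersion b.left]
    (hBs : Smooth B.hom)
    (hgeo : ∀ s : S, Red.IsBorelOver (AlgebraicClosure (S.residueField s)) ((Over.pullback (Red.geomPt s)).map b)) :
    IsClosedImmersion b.left ∧ Red.IsNormalizerOf b b := by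
  haveI := hBs
  haveI : Mono b := Over.mono_of_mono_left b
  have hfib : ∀ s : S, Smooth (Red.bc (Red.geomPt s) G).hom ∧ QuasiCompact (Red.bc (Red.geomPt s) G).hom ∧
      ConnectedSpace (Red.bc (Red.geomPt s) G).left := fun s => by
    refine ⟨inferInstanceAs (Smooth (pullback.snd _ _)), inferInstanceAs (QuasiCompact (pullback.snd _ _)), ?_⟩
    let σ : Spec (CommRingCat.of (AlgebraicClosure (S.residueField s))) ⟶ Spec (CommRingCat.of (S.residueField s)) :=
      Spec.map (CommRingCat.ofHom (algebraMap (S.residueField s) (AlgebraicClosure (S.residueField s))))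
    let G₁ := Red.bc (S.fromSpecResidueField s) G
    haveI : Smooth G₁.hom := inferInstanceAs (Smooth (pullback.snd _ _))
    haveI : ConnectedSpace G₁.left := by
      haveI : ConnectedSpace (G.hom.base ⁻¹' {s}) := Subtype.connectedSpace (hconn s)
      exact (G.hom.fiberHomeo s).symm.surjective.connectedSpace (G.hom.fiberHomeo s).symm.continuous
    haveI := connectedSpace_bc (k := S.residueField s) σ G₁
    let e := (Over.pullbackComp σ (S.fromSpecResidueField s)).app G
    let h := (Over.forget _).mapIso e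
    haveI : ConnectedSpace ↥((Over.forget _).obj ((Over.pullback (S.fromSpecResidueField s) ⋙ Over.pullback σ).obj G)) :=
      ‹ConnectedSpace (Red.bc σ G₁).left›
    exact (Scheme.homeoOfIso h).symm.surjective.connectedSpace (Scheme.homeoOfIso h).symm.continuous
  haveI : GeometricallyConnected B.hom := DescentHom.geometricallyConnected_of_geomPt B.hom fun s => (hgeo s).2.2.2.1
  haveI : GeometricallyIrreducible B.hom := SecLocus.geometricallyIrreducible_of_smooth B.hom
  haveI : LocallyOfFiniteType G.hom := inferInstance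
  obtain ⟨N, _, j, hN, hjc, hjfp⟩ := GrothLib.SecLocus.exists_normalizer b
  haveI := hjc; haveI := hjfp
  obtain ⟨hjm, hjmono, hjiff⟩ := id hN
  haveI := hjm; haveI := hjmono
  obtain ⟨v, hv⟩ := (hjiff B b).2 fun X' x h =>
    ⟨⟨x * h * x⁻¹, by simp only [MonObj.mul_comp, GrpObj.inv_comp]⟩,
      ⟨x⁻¹ * h * x, by simp only [MonObj.mul_comp, GrpObj.inv_comp]⟩⟩
  haveI : LocallyOfFiniteType N.hom := by rw [← Over.w j]; infer_instance
  haveI : LocallyOfFinitePresentation (v.left ≫ N.hom) := by rw [Over.w v]; infer_instance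
  haveI : Flat (v.left ≫ N.hom) := by rw [Over.w v]; infer_instance
  have hiso : IsIso v.left := FibreFlat.isIso_of_fibrewise v.left N.hom fun s => isIso_fibre_of_geom' v s (by
    obtain ⟨hm', hc', -⟩ := id (hgeo s)
    haveI := hm'; haveI := hc'
    obtain ⟨hs₁, hq₁, hc₁⟩ := hfib s
    haveI := hs₁; haveI := hq₁; haveI := hc₁
    haveI : IsClosedImmersion ((Over.pullback (Red.geomPt s)).map j).left :=
      MorphismProperty.of_isPullback (P := @IsClosedImmersion) (isPullback_overMap j (Red.geomPt s)).flip hjc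
    obtain ⟨φ, hφ⟩ := exists_factor_normalizer_general (hgeo s) ((Over.pullback (Red.geomPt s)).map j)
      (isNormalizerOf_bc _ hN)
    haveI : Mono ((Over.pullback (Red.geomPt s)).map j) := Over.mono_of_mono_left _
    haveI : Mono ((Over.pullback (Red.geomPt s)).map b) := Over.mono_of_mono_left _
    refine ⟨φ, ?_, ?_⟩
    · rw [← cancel_mono ((Over.pullback (Red.geomPt s)).map b), Category.assoc, hφ, ← Functor.map_comp, hv,
        Category.id_comp]
    · rw [← cancel_mono ((Over.pullback (Red.geomPt s)).map j), Category.assoc, ← Functor.map_comp, hv, hφ,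
        Category.id_comp])
  haveI : IsIso ((Over.forget _).map v) := hiso
  haveI : IsIso v := isIso_of_reflects_iso v (Over.forget _)
  refine ⟨by rw [← hv, Over.comp_left]; infer_instance, inferInstance, inferInstance, fun X g => ⟨?_, fun hg => ?_⟩⟩
  · rintro ⟨z, rfl⟩ X' x h
    exact ⟨⟨(x ≫ z) * h * (x ≫ z)⁻¹, by simp only [MonObj.mul_comp, GrpObj.inv_comp, Category.assoc]⟩,
      ⟨(x ≫ z)⁻¹ * h * (x ≫ z), by simp only [MonObj.mul_comp, GrpObj.inv_comp, Category.assoc]⟩⟩
  · obtain ⟨z, hz⟩ := (hjiff X g).2 hg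
    exact ⟨z ≫ inv v, by rw [Category.assoc, ← hv, IsIso.inv_hom_id_assoc, hz]⟩

end GrothLib.Flag27
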