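import Groth.Agent.Lib.Flag27.NormalizerInf
import Groth.Agent.Lib.Flag27.CentBC
import Groth.Agent.Lib.DescentHom.GeomConnected
import Groth.Agent.Lib.MonoMT14.ImageFpqc

/-!
# Borel subgroups are their own normalizers over any field
-/

set_option autoImplicit false
set_option linter.all false
set_option backward.isDefEq.respectTransparency false

universe u

open CategoryTheory CategoryTheory.Limits MonoidalCategory CartesianMonoidalCategory MonObj GrpObj AlgebraicGeometry

namespace GrothLib.Flag27

open GrothLib.DiagGrp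

set_option synthInstance.maxHeartbeats 400000 in
set_option maxHeartbeats 1600000 in
/-- Normalizers commute with base change. -/
theorem isNormalizerOf_bc {S S' : Scheme.{u}} (f : S' ⟶ S) {H G Z : Over S} [GrpObj H] [GrpObj G] [GrpObj Z]
    {i : H ⟶ G} {j : Z ⟶ G} (h : Red.IsNormalizerOf i j) :
    Red.IsNormalizerOf ((Over.pullback f).map i) ((Over.pullback f).map j) := by
  obtain ⟨hm, hmono, hiff⟩ := h
  haveI := hm; haveI := hmono
  refine ⟨inferInstance, inferInstance, fun X g => ?_⟩
  let eG := fun T => bcPointMulEquiv f G T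
  let g₀ := (eG X).symm g
  constructor
  · rintro ⟨z, rfl⟩ X' x h'
    obtain ⟨z₀, hz₀⟩ : ∃ z₀, z₀ ≫ j = (eG X).symm (z ≫ (Over.pullback f).map j) :=
      ⟨(bcPoint f Z X).symm z, (eG X).injective (by
        rw [MulEquiv.apply_symm_apply]
        exact (bcPoint_comp_right f _ j).trans (by rw [Equiv.apply_symm_apply]))⟩
    have hh := (hiff _ _).1 ⟨z₀, hz₀⟩ _ ((Over.map f).map x) ((bcPoint f H X').symm h')
    have h1 : eG X' ((Over.map f).map x ≫ (eG X).symm (z ≫ (Over.pullback f).map j)) = x ≫ z ≫ (Over.pullback f).map j :=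
      (bcPoint_comp f x _).trans (congrArg (x ≫ ·) ((eG X).apply_symm_apply _))
    have h2 : eG X' ((bcPoint f H X').symm h' ≫ i) = h' ≫ (Over.pullback f).map i :=
      (bcPoint_comp_right f _ i).trans (congrArg (· ≫ (Over.pullback f).map i) (Equiv.apply_symm_apply _ _))
    constructor
    · obtain ⟨h'', e⟩ := hh.1
      have := congrArg (eG X') e
      rw [map_mul, map_mul, map_inv, h1, h2] at this
      exact ⟨bcPoint f H X' h'', this.trans (bcPoint_comp_right f h'' i)⟩
    · obtain ⟨h'', e⟩ := hh.2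
      have := congrArg (eG X') e
      rw [map_mul, map_mul, map_inv, h1, h2] at this
      exact ⟨bcPoint f H X' h'', this.trans (bcPoint_comp_right f h'' i)⟩
  · intro hg
    obtain ⟨z₀, hz₀⟩ : ∃ z₀, z₀ ≫ j = g₀ := (hiff _ g₀).2 fun Y y hh => by
      let X' : Over S' := Over.mk (y.left ≫ X.hom)
      let e : Y ≅ (Over.map f).obj X' := Over.isoMk (Iso.refl _) (by
        show 𝟙 _ ≫ (y.left ≫ X.hom) ≫ f = Y.hom
        rw [Category.id_comp, Category.assoc]
        exact Over.w y)
      let x' : X' ⟶ X := Over.homMk y.left rfl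
      have hy : e.hom ≫ (Over.map f).map x' = y := Over.OverMorphism.ext (Category.id_comp _)
      have h1 : eG X' ((Over.map f).map x' ≫ g₀) = x' ≫ g :=
        (bcPoint_comp f x' _).trans (congrArg (x' ≫ ·) ((eG X).apply_symm_apply _))
      have h2 : eG X' ((e.inv ≫ hh) ≫ i) = bcPoint f H X' (e.inv ≫ hh) ≫ (Over.pullback f).map i :=
        bcPoint_comp_right f _ i
      obtain ⟨⟨a, ha⟩, ⟨b, hb⟩⟩ := hg X' x' (bcPoint f H X' (e.inv ≫ hh))
      have h3 : ∀ c : X' ⟶ Red.bc f H, eG X' ((bcPoint f H X').symm c ≫ i) = c ≫ (Over.pullback f).map i := fun c =>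
        (bcPoint_comp_right f _ i).trans (congrArg (· ≫ (Over.pullback f).map i) (Equiv.apply_symm_apply _ _))
      constructor
      · refine ⟨e.hom ≫ (bcPoint f H X').symm a, ?_⟩
        have h4 : ((Over.map f).map x' ≫ g₀) * ((e.inv ≫ hh) ≫ i) * ((Over.map f).map x' ≫ g₀)⁻¹ =
            (bcPoint f H X').symm a ≫ i :=
          (eG X').injective (by rw [map_mul, map_mul, map_inv, h1, h2]; exact ha.trans (h3 a).symm)
        have h5 := congrArg (e.hom ≫ ·) h4
        simp only [MonObj.comp_mul, GrpObj.comp_inv, ← Category.assoc, Iso.hom_inv_id, Category.id_comp, hy] at h5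
        exact h5
      · refine ⟨e.hom ≫ (bcPoint f H X').symm b, ?_⟩
        have h4 : ((Over.map f).map x' ≫ g₀)⁻¹ * ((e.inv ≫ hh) ≫ i) * ((Over.map f).map x' ≫ g₀) =
            (bcPoint f H X').symm b ≫ i :=
          (eG X').injective (by rw [map_mul, map_mul, map_inv, h1, h2]; exact hb.trans (h3 b).symm)
        have h5 := congrArg (e.hom ≫ ·) h4
        simp only [MonObj.comp_mul, GrpObj.comp_inv, ← Category.assoc, Iso.hom_inv_id, Category.id_comp, hy] at h5
        exact h5
    exact ⟨bcPoint f Z X z₀, (bcPoint_comp_right f z₀ j).symm.trans (by rw [hz₀]; exact (eG X).apply_symm_apply g)⟩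

variable {k : Type u} [Field k] {G B : Over (Spec (CommRingCat.of k))} [GrpObj G] [GrpObj B] [IsAffine G.left]
  [Smooth G.hom] [ConnectedSpace G.left]

set_option maxHeartbeats 800000 in
/-- A Borel subgroup is its own normalizer. -/
theorem isNormalizerOf_borel {iB : B ⟶ G} (hB : Red.IsBorel iB) : Red.IsNormalizerOf iB iB := by
  obtain ⟨hBm, hBc, hBsm, hBgeo⟩ := hB
  haveI := hBm; haveI := hBc; haveI := hBsm
  haveI : Mono iB := Over.mono_of_mono_left iB
  haveI : IsAffine B.left := isAffine_of_isAffineHom iB.left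
  let s : ↥(Spec (CommRingCat.of k)) := IsLocalRing.closedPoint k
  haveI : Subsingleton ↥(Spec (CommRingCat.of k)) := inferInstanceAs (Subsingleton (PrimeSpectrum k))
  haveI : GeometricallyConnected B.hom := DescentHom.geometricallyConnected_of_geomPt B.hom fun s' => (hBgeo s').2.2.2.1
  haveI : GeometricallyIrreducible B.hom := SecLocus.geometricallyIrreducible_of_smooth B.hom
  haveI : IsSeparated G.hom := inferInstance
  haveI : LocallyOfFiniteType G.hom := inferInstance
  obtain ⟨N, _, j, hN, hjc, -⟩ := GrothLib.SecLocus.exists_normalizer iB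
  haveI := hjc
  obtain ⟨hjm, hjmono, hjiff⟩ := id hN
  haveI := hjm; haveI := hjmono
  haveI : IsAffine (Red.bc (Red.geomPt s) G).left := isAffine_bc _ G
  haveI : Smooth (Red.bc (Red.geomPt s) G).hom := smooth_bc _ G
  haveI := connectedSpace_bc (Red.geomPt s) G
  haveI : (Over.pullback (Red.geomPt s)).IsRightAdjoint := (Over.mapPullbackAdj _).isRightAdjoint
  haveI : IsClosedImmersion ((Over.pullback (Red.geomPt s)).map j).left :=
    MorphismProperty.of_isPullback (P := @IsClosedImmersion) (isPullback_overMap j (Red.geomPt s)).flip hjc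
  obtain ⟨φ, hφ⟩ := exists_factor_normalizer (hBgeo s) ((Over.pullback (Red.geomPt s)).map j) (isNormalizerOf_bc _ hN)
  -- descend
  let P := pullback j iB
  let v : P ⟶ N := pullback.fst j iB
  haveI : IsClosedImmersion v.left :=
    MorphismProperty.of_isPullback (P := @IsClosedImmersion) ((IsPullback.of_hasPullback j iB).map (Over.forget _)).flip hBc
  haveI : Mono v := Over.mono_of_mono_left v
  have hPb : IsPullback ((Over.pullback (Red.geomPt s)).map v) ((Over.pullback (Red.geomPt s)).map (pullback.snd j iB))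
      ((Over.pullback (Red.geomPt s)).map j) ((Over.pullback (Red.geomPt s)).map iB) :=
    (IsPullback.of_hasPullback j iB).map _
  haveI : IsIso ((Over.pullback (Red.geomPt s)).map v) := by
    refine ⟨hPb.lift (𝟙 _) φ (by rw [Category.id_comp]; exact hφ.symm), ?_, hPb.lift_fst _ _ _⟩
    haveI : Mono ((Over.pullback (Red.geomPt s)).map v) := inferInstance
    rw [← cancel_mono ((Over.pullback (Red.geomPt s)).map v), Category.assoc, hPb.lift_fst, Category.comp_id,
      Category.id_comp]
  haveI : Surjective (Red.geomPt s) := surjective_to_field _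
  haveI : Flat (Red.geomPt s) := flat_to_field _
  haveI : IsIso v.left := MonoMT14.isIso_of_bc (Red.geomPt s) v
    (inferInstanceAs (IsIso ((Over.forget _).map ((Over.pullback (Red.geomPt s)).map v))))
  haveI : IsIso ((Over.forget _).map v) := ‹IsIso v.left›
  haveI : IsIso v := isIso_of_reflects_iso v (Over.forget _)
  refine ⟨hBm, inferInstance, fun X g => ⟨?_, fun hg => ?_⟩⟩
  · rintro ⟨z, rfl⟩ X' x h
    exact ⟨⟨(x ≫ z) * h * (x ≫ z)⁻¹, by simp only [MonObj.mul_comp, GrpObj.inv_comp, Category.assoc]⟩,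
      ⟨(x ≫ z)⁻¹ * h * (x ≫ z), by simp only [MonObj.mul_comp, GrpObj.inv_comp, Category.assoc]⟩⟩
  · obtain ⟨z, hz⟩ := (hjiff X g).2 hg
    refine ⟨z ≫ inv v ≫ pullback.snd j iB, ?_⟩
    rw [Category.assoc, Category.assoc, ← pullback.condition, IsIso.inv_hom_id_assoc, hz]

end GrothLib.Flag27
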