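import Groth.Agent.Lib.Flag27.Geom

/-!
# Base change of quotients, parabolic subgroups and proper quotients
-/

set_option autoImplicit false
set_option backward.isDefEq.respectTransparency false

universe u

open CategoryTheory CategoryTheory.Limits MonoidalCategory CartesianMonoidalCategory MonObj GrpObj
open AlgebraicGeometry TopologicalSpace

namespace GrothLib.Flag27

section BC

variable {S S' : Scheme.{u}} (f : S' ⟶ S) {G H X : Over S} [GrpObj G] [GrpObj H] {i : H ⟶ G}

/-- The base change of a point. -/
noncomputable def bcPt (o : 𝟙_ (Over S) ⟶ X) : 𝟙_ (Over S') ⟶ Red.bc f X :=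
  Functor.LaxMonoidal.ε (Over.pullback f) ≫ (Over.pullback f).map o

omit [GrpObj H] in
theorem orbitMap_bc (a : AlgGrp.Action G X) (o : 𝟙_ (Over S) ⟶ X) :
    (a.bc f).orbitMap (bcPt f o) = (Over.pullback f).map (a.orbitMap o) := by
  rw [AlgGrp.Action.orbitMap, AlgGrp.Action.orbitMap, bcPt, AlgGrp.Action.bc_act, Functor.Monoidal.toUnit_ε_assoc,
    ← Functor.map_comp, ← CategoryTheory.Functor.map_id, Functor.Monoidal.lift_μ_assoc, ← Functor.map_comp]

/-- Quotients commute with base change. -/
theorem isQuotient_bc (a : AlgGrp.Action G X) (o : 𝟙_ (Over S) ⟶ X) (hX : AGF.IsQuotient i X a o) :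
    AGF.IsQuotient ((Over.pullback f).map i) (Red.bc f X) (a.bc f) (bcPt f o) := by
  obtain ⟨h1, h2, h3, h4⟩ := hX
  rw [AGF.IsQuotient, orbitMap_bc]
  refine ⟨MorphismProperty.pullback_snd X.hom f h1, property_map f (a.orbitMap o) h2,
    property_map f (a.orbitMap o) h3, ?_⟩
  haveI : PreservesLimitsOfSize.{0, 0} (Over.pullback f) := (Over.mapPullbackAdj f).rightAdjoint_preservesLimits
  refine IsPullback.of_iso (h4.map (Over.pullback f)) (Functor.Monoidal.μIso (Over.pullback f) G H).symm
    (Iso.refl _) (Iso.refl _) (Iso.refl _) ?_ ?_ ?_ ?_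
  · simp
  · simp [Functor.obj.μ_def]
  · simp
  · simp

end BC

section Fld

variable {k : Type u} [Field k] {G P X : Over (Spec (CommRingCat.of k))} [GrpObj G] [GrpObj P]
  [IsAffine G.left] [Smooth G.hom] [ConnectedSpace G.left] {iP : P ⟶ G} [IsMonHom iP] [IsClosedImmersion iP.left]
  [Smooth P.hom]

/-- Proper quotients correspond to parabolic subgroups. -/
theorem isProper_iff_isParabolic (a : AlgGrp.Action G X) (o : 𝟙_ (Over (Spec (CommRingCat.of k))) ⟶ X)
    (hX : AGF.IsQuotient iP X a o) : IsProper X.hom ↔ Red.IsParabolic iP := by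
  constructor
  · intro hp
    refine ⟨inferInstance, inferInstance, inferInstance, fun s => ?_⟩
    haveI := smooth_bc (Red.geomPt s) G
    haveI := connectedSpace_bc (Red.geomPt s) G
    haveI := isAffine_bc (Red.geomPt s) G
    haveI := smooth_bc (Red.geomPt s) P
    haveI : IsProper (Red.bc (Red.geomPt s) X).hom := MorphismProperty.pullback_snd X.hom _ hp
    exact isParabolic_of_proper ((Over.pullback (Red.geomPt s)).map iP) _ _ (isQuotient_bc (Red.geomPt s) a o hX)
  · rintro ⟨-, -, -, hf⟩
    let s : ↥(Spec (CommRingCat.of k)) := IsLocalRing.closedPoint k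
    haveI := smooth_bc (Red.geomPt s) G
    haveI := connectedSpace_bc (Red.geomPt s) G
    haveI := isAffine_bc (Red.geomPt s) G
    haveI := smooth_bc (Red.geomPt s) P
    have hp : IsProper (Red.bc (Red.geomPt s) X).hom :=
      isProper_of_uc (uc_of_parabolic (hf s)) _ _ (isQuotient_bc (Red.geomPt s) a o hX)
    haveI := flat_to_field (Red.geomPt s)
    haveI := surjective_to_field (Red.geomPt s)
    haveI := GrothLib.Induce27.isSeparated_quotient a o hX
    haveI : LocallyOfFiniteType X.hom := hX.1
    haveI : UniversallyClosed X.hom :=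
      MorphismProperty.of_pullback_snd_of_descendsAlong (P := @UniversallyClosed)
        (Q := @Surjective ⊓ @Flat ⊓ @QuasiCompact) (f := X.hom) (g := Red.geomPt s)
        ⟨⟨inferInstance, inferInstance⟩, inferInstance⟩
        (show UniversallyClosed (Red.bc (Red.geomPt s) X).hom from hp.toUniversallyClosed)
    exact ⟨⟩

end Fld

end GrothLib.Flag27
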