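import Groth.Agent.Lib.Flag27.BorelUnion
import Groth.Agent.Lib.Flag27.Geom
import Groth.Agent.Lib.AffHull14.Kernel
import Groth.Agent.Lib.AntiAffSmooth14.Reduced
import Groth.Agent.Lib.Rigidity.KernelPair
import Groth.Agent.Lib.AntiAffine.Hom
import Groth.Agent.Lib.AntiAffine.Image

/-!
# Borel subgroups of groups which are not affine, through the affine hull
-/

set_option autoImplicit false
set_option linter.all false
set_option backward.isDefEq.respectTransparency false
set_option synthInstance.maxHeartbeats 40000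

universe u

open CategoryTheory CategoryTheory.Limits MonoidalCategory CartesianMonoidalCategory MonObj GrpObj AlgebraicGeometry

namespace GrothLib.Flag27

variable {k : Type u} [Field k] [IsAlgClosed k] {G : Over (Spec (CommRingCat.of k))} [GrpObj G] [Smooth G.hom]
  [QuasiCompact G.hom] [ConnectedSpace G.left]

set_option maxHeartbeats 800000 in
/-- A connected group is a central extension of an affine group by a connected group. -/
theorem exists_affine_part :
    ∃ (H : Over (Spec (CommRingCat.of k))) (_ : GrpObj H) (_ : IsAffine H.left) (_ : Smooth H.hom)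
      (_ : ConnectedSpace H.left) (ρ : G ⟶ H) (_ : IsMonHom ρ) (_ : Smooth ρ.left) (_ : Surjective ρ.left)
      (N : Over (Spec (CommRingCat.of k))) (_ : GrpObj N) (_ : Smooth N.hom) (_ : QuasiCompact N.hom) (_ : ConnectedSpace N.left)
      (i : N ⟶ G) (_ : IsMonHom i) (_ : IsClosedImmersion i.left), AlgGrp.IsKernel i ρ ∧
        ∀ (X : Over (Spec (CommRingCat.of k))) (a : X ⟶ N) (b : X ⟶ G), (a ≫ i) * b = b * (a ≫ i) := by
  haveI : LocallyOfFiniteType G.hom := inferInstance
  haveI : IsSeparated G.hom := GrothLib.GrpSchField.isSeparated G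
  haveI : IsLocallyNoetherian G.left := LocallyOfFiniteType.isLocallyNoetherian G.hom
  haveI : CompactSpace G.left := QuasiCompact.compactSpace_of_compactSpace G.hom
  obtain ⟨hsur, hfl, hlft⟩ := GrothLib.AffHull14.toSpecΓ_faithfullyFlat G
  have hi := GrothLib.AffHull14.isHull_toHull G
  haveI := hi.affine
  obtain ⟨_, hmon⟩ := GrothLib.AffHull14.exists_grpObj_hull hi
  haveI := hmon
  obtain ⟨_, hNlft, hNqc, hO⟩ := GrothLib.AffHull14.exists_kernel G
  let H := GrothLib.AffHull14.hullObj G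
  let ρ : G ⟶ H := GrothLib.AffHull14.toHull G
  let N : Over (Spec (CommRingCat.of k)) := Over.mk (pullback.snd G.left.toSpecΓ (η[G].left ≫ G.left.toSpecΓ) ≫
        (𝟙_ (Over (Spec (CommRingCat.of k)))).hom)
  haveI : LocallyOfFiniteType N.hom := hNlft
  haveI : QuasiCompact N.hom := hNqc
  haveI : Smooth N.hom := GrothLib.AntiAffSmooth14.smooth_of_isAntiAffine N hO
  haveI : ConnectedSpace N.left := GrothLib.AntiAffine.IsAntiAffine.connectedSpace hO
  have hη : η[H].left = η[G].left ≫ G.left.toSpecΓ := by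
    rw [← IsMonHom.one_hom ρ]; rfl
  let i : N ⟶ G := Over.homMk (pullback.fst _ _) (by
    show pullback.fst G.left.toSpecΓ (η[G].left ≫ G.left.toSpecΓ) ≫ G.hom = pullback.snd _ _ ≫ _
    rw [← Over.w ρ, ← Over.w η[G], ← Category.assoc]
    show (pullback.fst G.left.toSpecΓ _ ≫ G.left.toSpecΓ) ≫ H.hom = _
    rw [pullback.condition, Category.assoc, Category.assoc]
    congr 2
    exact Over.w ρ)
  have sqS : IsPullback i.left (toUnit N).left ρ.left η[H].left := by
    have h := Over.w (toUnit N)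
    change (toUnit N).left ≫ 𝟙 _ = pullback.snd _ _ ≫ 𝟙 _ at h
    rw [Category.comp_id, Category.comp_id] at h
    rw [hη, h]
    exact IsPullback.of_hasPullback G.left.toSpecΓ (η[G].left ≫ G.left.toSpecΓ)
  have sqN : IsPullback i (toUnit N) ρ η[H] :=
    IsPullback.of_map (Over.forget _) (Over.OverMorphism.ext sqS.w) sqS
  haveI : Mono i := GrothLib.GrpSchField.mono_of_kernel sqN
  have hfac : ∀ (T : Over (Spec (CommRingCat.of k))) (g : T ⟶ G), g ≫ ρ = 1 → ∃ z : T ⟶ N, z ≫ i = g :=
    fun T g hg => GrothLib.GrpSchField.exists_lift_of_comp_eq_one sqN g hg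
  have hiρ : i ≫ ρ = 1 := GrothLib.GrpSchField.comp_eq_one sqN
  obtain ⟨gN, hmi⟩ := GrothLib.EssFree.exists_grpObj_of_mono i
    (fun T => hfac T 1 (by rw [MonObj.one_comp]))
    (fun T a b => hfac T _ (by
      rw [MonObj.mul_comp, Category.assoc, Category.assoc, hiρ, MonObj.comp_one, MonObj.comp_one, _root_.mul_one]))
    (fun T a => hfac T _ (by rw [GrpObj.inv_comp, Category.assoc, hiρ, MonObj.comp_one, inv_one]))
  haveI := hmi
  haveI : LocallyOfFiniteType H.hom := hlft
  haveI : IsSeparated H.hom := inferInstance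
  haveI : IsClosedImmersion η[H].left := by
    haveI : IsClosedImmersion (η[H].left ≫ H.hom) := by
      rw [Over.w η[H]]
      exact inferInstanceAs (IsClosedImmersion (𝟙 _))
    exact IsClosedImmersion.of_comp η[H].left H.hom
  have hci : IsClosedImmersion i.left := MorphismProperty.of_isPullback sqS.flip ‹_›
  haveI := hci
  haveI : Flat ρ.left := hfl
  haveI : Surjective ρ.left := hsur
  haveI : IsReduced G.left := GrothLib.RedSmooth.isReduced_of_smooth G.hom
  haveI : IsReduced H.left := by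
    haveI := hi.iso
    haveI : _root_.IsReduced Γ(H.left, ⊤) := isReduced_of_injective ρ.left.appTop.hom
      (ConcreteCategory.bijective_of_isIso ρ.left.appTop).1
    exact isReduced_of_isOpenImmersion H.left.isoSpec.hom
  haveI : Smooth H.hom := smooth_of_reduced_grp H
  haveI : ConnectedSpace H.left := ρ.left.surjective.connectedSpace ρ.left.continuous
  haveI : LocallyOfFinitePresentation ρ.left :=
    GrothLib.DiagGrp.lfp_of_comp_of_lft ρ.left H.hom (by rw [Over.w ρ]; infer_instance) inferInstance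
  haveI : QuasiCompact ρ.left := by
    haveI : QuasiCompact (ρ.left ≫ H.hom) := by rw [Over.w ρ]; infer_instance
    exact QuasiCompact.of_comp _ H.hom
  have hsm : Smooth ρ.left := by
    have hsq := (GrothLib.Rigidity.isPullback_kernelPair ρ i sqN).map (Over.forget _)
    have hQ : (@Surjective ⊓ @Flat ⊓ @QuasiCompact : MorphismProperty Scheme.{u}) ρ.left :=
      ⟨⟨‹_›, ‹_›⟩, ‹_›⟩
    exact MorphismProperty.of_isPullback_of_descendsAlong (P := @Smooth)
      (Q := @Surjective ⊓ @Flat ⊓ @QuasiCompact) hsq.flip hQ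
      (inferInstanceAs (Smooth (pullback.snd N.hom G.hom)))
  have hO' : GrothLib.AntiAffine.IsAntiAffine N := hO
  exact ⟨H, inferInstance, inferInstance, inferInstance, inferInstance, ρ, inferInstance, hsm, inferInstance,
    N, gN, inferInstance, inferInstance, inferInstance, i, inferInstance, hci, sqN,
    fun X a b => hO'.central i a b⟩

set_option maxHeartbeats 1600000 in
/-- The preimage of a Borel subgroup of the affine part is a Borel subgroup. -/
theorem exists_borel_preimage {H N B₀ : Over (Spec (CommRingCat.of k))} [GrpObj H] [GrpObj N] [GrpObj B₀]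
    [IsAffine H.left] [Smooth H.hom] [Smooth N.hom] [ConnectedSpace N.left] (ρ : G ⟶ H) [IsMonHom ρ] [Smooth ρ.left]
    [Surjective ρ.left] (i : N ⟶ G) [IsMonHom i] (hker : AlgGrp.IsKernel i ρ)
    (hcen : ∀ (X : Over (Spec (CommRingCat.of k))) (a : X ⟶ N) (b : X ⟶ G), (a ≫ i) * b = b * (a ≫ i))
    {iB' : B₀ ⟶ H} (hB' : Red.IsBorelOver k iB') :
    ∃ (B : Over (Spec (CommRingCat.of k))) (_ : GrpObj B) (b : B ⟶ G) (π : B ⟶ B₀), Red.IsBorelOver k b ∧
      IsPullback b π ρ iB' := by
  haveI : LocallyOfFiniteType G.hom := inferInstance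
  obtain ⟨hBm', hBc', hBs', hBconn', hBsolv', -⟩ := id hB'
  haveI := hBm'; haveI := hBc'; haveI := hBs'; haveI := hBconn'
  haveI : Mono iB' := Over.mono_of_mono_left iB'
  let B := pullback ρ iB'
  let b : B ⟶ G := pullback.fst ρ iB'
  let π : B ⟶ B₀ := pullback.snd ρ iB'
  have sq : IsPullback b π ρ iB' := IsPullback.of_hasPullback ρ iB'
  have sqL := sq.map (Over.forget _)
  haveI : IsClosedImmersion b.left := MorphismProperty.of_isPullback (P := @IsClosedImmersion) sqL.flip hBc'
  haveI : Smooth π.left := MorphismProperty.of_isPullback (P := @Smooth) sqL ‹Smooth ρ.left›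
  haveI : Surjective π.left := MorphismProperty.of_isPullback (P := @Surjective) sqL ‹Surjective ρ.left›
  haveI : Smooth B.hom := by rw [← Over.w π]; infer_instance
  obtain ⟨_, hbm⟩ := GrothLib.EssFree.exists_grpObj_of_mono b
    (fun X => ⟨pullback.lift 1 1 (by rw [MonObj.one_comp, MonObj.one_comp]), pullback.lift_fst _ _ _⟩)
    (fun X c d => ⟨pullback.lift ((c ≫ b) * (d ≫ b)) ((c ≫ π) * (d ≫ π))
      (by rw [MonObj.mul_comp, MonObj.mul_comp]; simp only [Category.assoc, b, π, pullback.condition]),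
      pullback.lift_fst _ _ _⟩)
    (fun X c => ⟨pullback.lift (c ≫ b)⁻¹ (c ≫ π)⁻¹
      (by rw [GrpObj.inv_comp, GrpObj.inv_comp]; simp only [Category.assoc, b, π, pullback.condition]),
      pullback.lift_fst _ _ _⟩)
  haveI := hbm
  haveI : Mono b := Over.mono_of_mono_left b
  have hbρ : b ≫ ρ = π ≫ iB' := pullback.condition
  haveI : IsMonHom (π ≫ iB') := by rw [← hbρ]; infer_instance
  haveI : IsMonHom π := GrothLib.CentMT14.isMonHom_of_comp π iB'
  -- the kernel lies in the preimage
  let n₀ : N ⟶ B := pullback.lift i 1 (by rw [MonObj.one_comp]; exact GrothLib.GrpSchField.comp_eq_one hker)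
  have hn₀ : n₀ ≫ b = i := pullback.lift_fst _ _ _
  have hn₀π : n₀ ≫ π = 1 := pullback.lift_snd _ _ _
  haveI : IsMonHom (n₀ ≫ b) := by rw [hn₀]; infer_instance
  haveI : IsMonHom n₀ := GrothLib.CentMT14.isMonHom_of_comp n₀ b
  haveI : ConnectedSpace B.left := by
    haveI : LocallyOfFiniteType B.hom := inferInstance
    haveI : JacobsonSpace B.left := LocallyOfFiniteType.jacobsonSpace B.hom
    haveI : LocallyOfFiniteType B₀.hom := inferInstance
    haveI : JacobsonSpace B₀.left := LocallyOfFiniteType.jacobsonSpace B₀.hom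
    refine connectedSpace_iff_clopen.2 ⟨⟨cl (1 : 𝟙_ _ ⟶ B)⟩, fun U hU => ?_⟩
    by_contra hne
    push_neg at hne
    obtain ⟨hU0, hU1⟩ := hne
    have ho : IsOpen (π.left.base '' U) := π.left.isOpenMap _ hU.isOpen
    have ho' : IsOpen (π.left.base '' Uᶜ) := π.left.isOpenMap _ hU.compl.isOpen
    have hcov : Set.univ ⊆ π.left.base '' U ∪ π.left.base '' Uᶜ := fun y _ => by
      obtain ⟨z, rfl⟩ := π.left.surjective y
      by_cases hz : z ∈ U
      · exact Or.inl ⟨z, hz, rfl⟩
      · exact Or.inr ⟨z, hz, rfl⟩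
    obtain ⟨y, -, hyU, hyV⟩ := isPreconnected_univ (α := B₀.left) _ _ ho ho' hcov
      (by rw [Set.univ_inter]; exact hU0.image _)
      (by rw [Set.univ_inter]; exact (Set.nonempty_compl.2 hU1).image _)
    obtain ⟨p, hp, hpc⟩ := nonempty_inter_closedPoints (Z := π.left.base '' U ∩ π.left.base '' Uᶜ)
      ⟨y, hyU, hyV⟩ (ho.inter ho').isLocallyClosed
    obtain ⟨w, rfl⟩ := exists_cl hpc
    obtain ⟨z₀, hz₀, hz₀w⟩ := exists_cl_lift π hU.isOpen.isLocallyClosed hp.1
    obtain ⟨z₁, hz₁, hz₁w⟩ := exists_cl_lift π hU.compl.isOpen.isLocallyClosed hp.2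
    obtain ⟨c, hc⟩ := GrothLib.GrpSchField.exists_lift_of_comp_eq_one hker ((z₀⁻¹ * z₁) ≫ b) (by
      rw [Category.assoc, hbρ, ← Category.assoc, MonObj.mul_comp, GrpObj.inv_comp, hz₀w, hz₁w, inv_mul_cancel,
        MonObj.one_comp])
    have hc' : c ≫ n₀ = z₀⁻¹ * z₁ := by rw [← cancel_mono b, Category.assoc, hn₀, hc]
    let φ : N ⟶ B := (toUnit N ≫ z₀) * n₀
    have hφ : ∀ v : 𝟙_ (Over (Spec (CommRingCat.of k))) ⟶ N, v ≫ φ = z₀ * (v ≫ n₀) := fun v => by
      simp only [φ, MonObj.comp_mul]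
      rw [← Category.assoc v, toUnit_unique (v ≫ toUnit N) (𝟙 _), Category.id_comp]
    have h0 : cl (1 : 𝟙_ _ ⟶ N) ∈ φ.left.base ⁻¹' U := by
      show φ.left.base (cl (1 : 𝟙_ _ ⟶ N)) ∈ U
      rw [← cl_comp, hφ, MonObj.one_comp, _root_.mul_one]; exact hz₀
    have h1 := Set.eq_univ_iff_forall.1 (IsClopen.eq_univ (hU.preimage φ.left.continuous) ⟨_, h0⟩) (cl c)
    rw [Set.mem_preimage, ← cl_comp, hφ, hc', mul_inv_cancel_left] at h1
    exact hz₁ h1
  have hBsolv : Red.IsSolvableGrp B := by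
    obtain ⟨n, hn⟩ := hBsolv'
    refine ⟨n + 1, fun X => eq_bot_iff.2 ?_⟩
    let πX : (X ⟶ B) →* (X ⟶ B₀) := MonoidHom.mk' (fun v => v ≫ π) fun c d => MonObj.mul_comp c d π
    have hle : ∀ v ∈ derivedSeries (X ⟶ B) n, v ≫ π = 1 := fun v hv => by
      have := map_derivedSeries_le_derivedSeries πX n ⟨v, hv, rfl⟩
      rw [hn X, Subgroup.mem_bot] at this
      exact this
    rw [derivedSeries_succ, Subgroup.commutator_le]
    intro c hc d hd
    obtain ⟨c', hc'⟩ := GrothLib.GrpSchField.exists_lift_of_comp_eq_one hker (c ≫ b) (by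
      rw [Category.assoc, hbρ, ← Category.assoc, hle c hc, MonObj.one_comp])
    rw [Subgroup.mem_bot, commutatorElement_eq_one_iff_mul_comm, ← cancel_mono b, MonObj.mul_comp, MonObj.mul_comp,
      ← hc']
    exact hcen X c' (d ≫ b)
  refine ⟨B, inferInstance, b, π, ⟨inferInstance, inferInstance, inferInstance, inferInstance, hBsolv, ?_⟩, sq⟩
  intro B'' _ j _ f hjc hjs hjconn hjsolv hf
  haveI := hjc; haveI := hjs; haveI := hjconn
  haveI : Mono j := Over.mono_of_mono_left j
  haveI : QuasiCompact (j ≫ ρ).left := by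
    haveI : QuasiCompact ((j ≫ ρ).left ≫ H.hom) := by
      rw [Over.w (j ≫ ρ), ← Over.w j]; infer_instance
    exact QuasiCompact.of_comp _ H.hom
  obtain ⟨M, _, jM, _, _, q, hq, hqd, hqq⟩ := GrothLib.AntiAffine.exists_image_subgroup (j ≫ ρ)
  haveI : Mono jM := Over.mono_of_mono_left jM
  haveI : IsMonHom (q ≫ jM) := by rw [hq]; infer_instance
  haveI : IsMonHom q := GrothLib.CentMT14.isMonHom_of_comp q jM
  haveI : IsAffine M.left := isAffine_of_isAffineHom jM.left
  haveI : LocallyOfFiniteType M.hom := by rw [← Over.w jM]; infer_instance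
  haveI : QuasiCompact B''.hom := by rw [← Over.w j]; infer_instance
  haveI : LocallyOfFiniteType B''.hom := inferInstance
  have hqs : Surjective q.left :=
    (GrothLib.AffHull14.flat_surjective_of_dominant q (q.left.app_injective ⊤)).2
  haveI : IsReduced B''.left := GrothLib.RedSmooth.isReduced_of_smooth B''.hom
  haveI : IsReduced M.left := IsSchemeTheoreticallyDominant.isReduced q.left
  haveI : Smooth M.hom := smooth_of_reduced_grp M
  haveI : ConnectedSpace M.left := q.left.surjective.connectedSpace q.left.continuous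
  have hMsolv : Red.IsSolvableGrp M := by
    haveI : Group.IsSolvable (𝟙_ (Over (Spec (CommRingCat.of k))) ⟶ B'') := isSolvable_points hjsolv
    refine isSolvableGrp_of_points (solvable_of_surjective
      (f := MonoidHom.mk' (fun v : 𝟙_ (Over (Spec (CommRingCat.of k))) ⟶ B'' => v ≫ q) fun c d => MonObj.mul_comp c d q)
      fun w => ?_)
    obtain ⟨z, -, hz⟩ := exists_cl_lift q (E := Set.univ) isClosed_univ.isLocallyClosed (w := w)
      (by rw [Set.image_univ, Set.range_eq_univ.2 hqs.surj]; exact Set.mem_univ _)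
    exact ⟨z, hz⟩
  -- the Borel subgroup of the quotient lies in the image
  haveI : IsReduced B₀.left := GrothLib.RedSmooth.isReduced_of_smooth B₀.hom
  obtain ⟨e, he⟩ : ∃ e : B₀ ⟶ M, e ≫ jM = iB' := by
    refine GrothLib.AntiAffine.exists_factor_of_dense iB' jM (A := Set.univ) dense_univ fun y _ => ?_
    obtain ⟨z, rfl⟩ := π.left.surjective y
    have e1 : (f ≫ q) ≫ jM = π ≫ iB' := by rw [Category.assoc, hq, reassoc_of% hf, hbρ]
    refine ⟨(f ≫ q).left.base z, ?_⟩
    rw [← Scheme.Hom.comp_apply, ← Over.comp_left, e1, Over.comp_left, Scheme.Hom.comp_apply]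
  obtain ⟨w, hw⟩ := hB'.2.2.2.2.2 M jM e inferInstance inferInstance inferInstance hMsolv he
  have hfw : j ≫ ρ = (q ≫ w) ≫ iB' := by
    rw [← hq, Category.assoc, ← he, ← Category.assoc w e, hw.2, Category.id_comp]
  refine ⟨pullback.lift j (q ≫ w) hfw, ?_, ?_⟩
  · rw [← cancel_mono b, Category.assoc, pullback.lift_fst, hf, Category.id_comp]
  · rw [← cancel_mono j, Category.assoc, hf, pullback.lift_fst, Category.id_comp]

/-- Every rational point of a connected group lies in a Borel subgroup. -/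
theorem exists_borel_pt_general (g : 𝟙_ (Over (Spec (CommRingCat.of k))) ⟶ G) :
    ∃ (B : Over (Spec (CommRingCat.of k))) (_ : GrpObj B) (b : B ⟶ G), Red.IsBorelOver k b ∧
      ∃ g' : 𝟙_ (Over (Spec (CommRingCat.of k))) ⟶ B, g' ≫ b = g := by
  obtain ⟨H, _, _, _, _, ρ, _, _, _, N, _, _, _, _, i, _, _, hker, hcen⟩ := exists_affine_part (G := G)
  obtain ⟨B₀, _, iB₀, hB₀, -⟩ := exists_borel (G := H)
  obtain ⟨x, b₀, hxb⟩ := exists_conj_mem_borel hB₀ (g ≫ ρ)
  obtain ⟨hm₀, hc₀, hs₀, hconn₀, hsolv₀, -⟩ := id hB₀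
  haveI := hm₀; haveI := hc₀
  haveI := isMonHom_conjBy x iB₀
  haveI := isClosedImmersion_conjBy x iB₀
  obtain ⟨B, _, b, π, hB, hb⟩ := exists_borel_preimage ρ i hker hcen
    (isBorelOver_conjBy (i₂ := AGF.conjBy x iB₀) hB₀ hsolv₀ (Iso.refl B₀) x (by simp))
  exact ⟨B, inferInstance, b, hB, hb.lift g b₀ (by rw [comp_conjBy', conjBy_pt]; exact hxb.symm), hb.lift_fst _ _ _⟩

end GrothLib.Flag27
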