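import Groth.Agent.Lib.Flag27.BorelTheorem
import Groth.Agent.Lib.Flag27.UnipSplit
import Groth.Agent.Lib.CentMT14.ToUnip

/-!
# A point of a connected solvable group normalising a Cartan subgroup lies in it
-/

set_option autoImplicit false
set_option linter.all false
set_option backward.isDefEq.respectTransparency false

universe u

open CategoryTheory CategoryTheory.Limits MonoidalCategory CartesianMonoidalCategory MonObj GrpObj AlgebraicGeometry

namespace GrothLib.Flag27

open GrothLib.DiagGrp GrothLib.MultHopf14 GrothLib.CentMT14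

variable {k : Type u} [Field k] [IsAlgClosed k]

set_option synthInstance.maxHeartbeats 400000 in
set_option maxHeartbeats 1600000 in
/-- A commuting conjugate of a torus is the torus, over any base. -/
theorem conj_eq_of_split {N D U T X : Over (Spec (CommRingCat.of k))} [GrpObj N] [GrpObj D] [GrpObj U] [GrpObj T]
    (p : N ⟶ D) (s : D ⟶ N) (u : U ⟶ N) (r : N ⟶ U) [IsMonHom p] [IsMonHom u] [Mono u]
    (hru : r ≫ u = 𝟙 N * (p ≫ s)⁻¹) [IsMonHom s] (hU : IsUnip k U) (hT : Red.IsTorus T) (tN : T ⟶ N) [IsMonHom tN]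
    (σ : Red.bc X.hom T ⟶ Red.bc X.hom N) [IsMonHom σ]
    (hcomm : ∀ (Y : Over X.left) (a b : Y ⟶ Red.bc X.hom T),
      Commute (a ≫ σ) (b ≫ (Over.pullback X.hom).map tN))
    (hp : σ ≫ (Over.pullback X.hom).map p = (Over.pullback X.hom).map tN ≫ (Over.pullback X.hom).map p) :
    σ = (Over.pullback X.hom).map tN := by
  let F := Over.pullback X.hom
  let w : Red.bc X.hom T ⟶ Red.bc X.hom N := σ * (F.map tN)⁻¹
  have hw : IsMonHom w := by
    refine ⟨?_, ?_⟩
    · simp only [w, MonObj.comp_mul, GrpObj.comp_inv, IsMonHom.one_hom, ← Hom.one_def]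
      rw [show (η : 𝟙_ (Over X.left) ⟶ Red.bc X.hom N) = (1 : 𝟙_ (Over X.left) ⟶ Red.bc X.hom N) by
        rw [Hom.one_def, toUnit_unique (toUnit _) (𝟙 _), Category.id_comp]]
      group
    · have hμ : μ[Red.bc X.hom T] = fst _ _ * snd (Red.bc X.hom T) (Red.bc X.hom T) := by
        rw [Hom.mul_def, lift_fst_snd, Category.id_comp]
      have hR : (w ⊗ₘ w) ≫ μ[Red.bc X.hom N] = (fst _ _ ≫ w) * (snd _ _ ≫ w) := by
        rw [Hom.mul_def]; congr 1
      rw [hR, hμ]
      simp only [w, MonObj.comp_mul, GrpObj.comp_inv, MonObj.mul_comp, _root_.mul_inv_rev, _root_.mul_assoc]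
      congr 1
      have h := hcomm _ (snd (Red.bc X.hom T) (Red.bc X.hom T)) (fst (Red.bc X.hom T) (Red.bc X.hom T))
      have h' : Commute (snd (Red.bc X.hom T) (Red.bc X.hom T) ≫ σ * (snd (Red.bc X.hom T) (Red.bc X.hom T) ≫ F.map tN)⁻¹)
          ((fst (Red.bc X.hom T) (Red.bc X.hom T) ≫ F.map tN)⁻¹) := by
        refine Commute.mul_left h.inv_right (Commute.inv_inv ?_)
        show _ = _
        rw [← MonObj.mul_comp, ← MonObj.mul_comp, mul_comm_of_charts
          ((hasChartsFpqc_of_isTorus hT).baseChange X.hom)]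
      rw [← _root_.mul_assoc, h'.eq]
  haveI := hw
  have hwp : w ≫ F.map p = 1 := by
    simp only [w, MonObj.mul_comp, GrpObj.inv_comp, F, hp, mul_inv_cancel]
  have hfac : (w ≫ F.map r) ≫ F.map u = w := by
    rw [Category.assoc, ← Functor.map_comp, hru, Functor.map_mul, Functor.map_inv', CategoryTheory.Functor.map_id, Functor.map_comp,
      MonObj.comp_mul, GrpObj.comp_inv, Category.comp_id, reassoc_of% hwp, MonObj.one_comp, inv_one, _root_.mul_one]
  haveI : (Over.pullback X.hom).IsRightAdjoint := (Over.mapPullbackAdj _).isRightAdjoint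
  haveI : Mono (F.map u) := inferInstance
  haveI : IsMonHom ((w ≫ F.map r) ≫ F.map u) := by rw [hfac]; exact hw
  haveI : IsMonHom (w ≫ F.map r) := GrothLib.CentMT14.isMonHom_of_comp (w ≫ F.map r) (F.map u)
  obtain ⟨A, _, _, -, hu, ⟨e⟩⟩ := hU
  let i : specGrp (R := k) A ≅ U := (Grp.forget _).mapIso e
  haveI : IsMonHom i.inv := e.inv.hom.isMonHom_hom
  haveI : IsMonHom i.hom := e.hom.hom.isMonHom_hom
  have h1 : (w ≫ F.map r) ≫ F.map i.inv = 1 :=
    GrothLib.CentMT14.hom_eq_one A X.hom ((hasChartsFpqc_of_isTorus hT).baseChange X.hom) hu _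
  have h2 : w ≫ F.map r = 1 := by
    rw [← Category.comp_id (w ≫ F.map r), ← CategoryTheory.Functor.map_id F, ← i.inv_hom_id, Functor.map_comp, ← Category.assoc, h1,
      MonObj.one_comp]
  have h3 : w = 1 := by rw [← hfac, h2, MonObj.one_comp]
  exact mul_inv_eq_one.1 h3

variable {B : Over (Spec (CommRingCat.of k))} [GrpObj B] [Smooth B.hom] [QuasiCompact B.hom] [ConnectedSpace B.left]

set_option synthInstance.maxHeartbeats 400000 in
set_option maxHeartbeats 1600000 in
/-- A point normalising the centraliser of a torus of a connected solvable group lies in it. -/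
theorem exists_factor_cartan_solvable (hs : Red.IsSolvableGrp B) {T C X : Over (Spec (CommRingCat.of k))} [GrpObj T]
    [GrpObj C] {t : T ⟶ B} [IsMonHom t] [Mono t] (hT : Red.IsTorus T) {c : C ⟶ B} (hc : Red.IsCentralizerOf t c)
    (y : X ⟶ B) (hy : GrothLib.MultDef14.ConjInto c c y) : ∃ z : X ⟶ C, z ≫ c = y := by
  haveI : IsSeparated B.hom := GrpSchField.isSeparated B
  haveI : LocallyOfFiniteType B.hom := inferInstance
  obtain ⟨hcm, hcmono, hciff⟩ := id hc
  haveI := hcm; haveI := hcmono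
  obtain ⟨htc, hTa, hTs, hTconn⟩ := GrothLib.Chev24.torus_facts' hT t
  haveI := htc; haveI := hTa; haveI := hTs; haveI := hTconn
  obtain ⟨H, _, _, _, _, ρ, _, _, _, N₀, _, _, _, _, i₀, _, _, -, -⟩ := exists_affine_part (G := B)
  obtain ⟨N, _, i, hi, hic, hNs, hNc, hNa, hfac, hdec⟩ := exists_point_decomp ρ
  haveI := hi; haveI := hic; haveI := hNs; haveI := hNc; haveI := hNa
  haveI : Mono i := Over.mono_of_mono_left i
  obtain ⟨tN, htN⟩ := hfac T t
  haveI : IsMonHom (tN ≫ i) := by rw [htN]; infer_instance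
  haveI : IsMonHom tN := GrothLib.CentMT14.isMonHom_of_comp tN i
  have hsN : IsSolvable (𝟙_ (Over (Spec (CommRingCat.of k))) ⟶ N) := by
    haveI : Group.IsSolvable (𝟙_ (Over (Spec (CommRingCat.of k))) ⟶ B) := isSolvable_points hs
    exact solvable_of_solvable_injective
      (f := MonoidHom.mk' (fun v : 𝟙_ (Over (Spec (CommRingCat.of k))) ⟶ N => v ≫ i) fun a b => MonObj.mul_comp a b i)
      fun a b hab => (cancel_mono i).1 hab
  obtain ⟨D, _, U, _, p, s, u, r, hp, hsm, hu, hsp, hDt, hDa, hDs, -, huc, hup, -, hru, hUu, hUs, -⟩ :=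
    hasSplit_of_solvable (B := N) hsN
  haveI := hp; haveI := hsm; haveI := hu; haveI := huc; haveI := hDa
  haveI : Mono u := Over.mono_of_mono_left u
  haveI : Smooth (B ⊗ T).hom := inferInstanceAs (Smooth (pullback.fst B.hom T.hom ≫ B.hom))
  haveI : IsReduced (B ⊗ T).left := GrothLib.RedSmooth.isReduced_of_smooth (B ⊗ T).hom
  haveI : LocallyOfFiniteType (B ⊗ T).hom := inferInstance
  -- conjugation of the torus on the affine part
  let cj : B ⊗ T ⟶ B := fst B T * (snd B T ≫ t) * (fst B T)⁻¹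
  have hpt : ∀ v : 𝟙_ (Over (Spec (CommRingCat.of k))) ⟶ B ⊗ T, ∃ n : 𝟙_ (Over (Spec (CommRingCat.of k))) ⟶ N,
      v ≫ cj = (n * ((v ≫ snd B T) ≫ tN) * n⁻¹) ≫ i := fun v => by
    obtain ⟨n, m, hnm, -, hm⟩ := hdec (v ≫ fst B T)
    refine ⟨n, ?_⟩
    have hm' : Commute m (((v ≫ snd B T) ≫ tN) ≫ i) := by
      have := hm _ (((v ≫ snd B T) ≫ tN) ≫ i)
      rwa [toUnit_unique (toUnit (𝟙_ (Over (Spec (CommRingCat.of k))))) (𝟙 _), Category.id_comp] at this
    have e : v ≫ cj = (n ≫ i) * m * (((v ≫ snd B T) ≫ tN) ≫ i) * ((n ≫ i) * m)⁻¹ := by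
      simp only [cj, MonObj.comp_mul, GrpObj.comp_inv, hnm, Category.assoc, htN]
    rw [e, MonObj.mul_comp, MonObj.mul_comp, GrpObj.inv_comp, _root_.mul_inv_rev, _root_.mul_assoc (n ≫ i) m, hm'.eq]
    group
  obtain ⟨κ, hκ⟩ := exists_lift_of_pts cj i fun v => by
    obtain ⟨n, hn⟩ := hpt v
    exact ⟨_, hn.symm⟩
  haveI : IsSeparated D.hom := inferInstance
  have hκp : κ ≫ p = (snd B T ≫ tN) ≫ p := by
    refine GrothLib.Rigidity.ext_of_points _ _ fun v => ?_
    obtain ⟨n, hn⟩ := hpt v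
    have e : v ≫ κ = n * ((v ≫ snd B T) ≫ tN) * n⁻¹ := by rw [← cancel_mono i, Category.assoc, hκ, hn]
    rw [← Category.assoc v κ p, e, MonObj.mul_comp, MonObj.mul_comp, GrpObj.inv_comp,
      mul_comm_of_charts (hasChartsFpqc_of_isTorus hDt) _ (n ≫ p), mul_inv_cancel_right]
    simp only [Category.assoc]
  -- over the base of the point
  refine (hciff X y).2 fun X' x h => ?_
  let f := X.hom
  haveI : (Over.pullback f).IsRightAdjoint := (Over.mapPullbackAdj _).isRightAdjoint
  let Y := Red.bc f T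
  let xu : (Over.map f).obj Y ⟶ X := Over.homMk Y.hom rfl
  let hh : (Over.map f).obj Y ⟶ T := (bcPoint f T Y).symm (𝟙 Y)
  let σ : Red.bc f T ⟶ Red.bc f N := bcPoint f N Y (lift (xu ≫ y) hh ≫ κ)
  have hσi : σ ≫ (Over.pullback f).map i =
      bcPointMulEquiv f B Y ((xu ≫ y) * (hh ≫ t) * (xu ≫ y)⁻¹) := by
    refine (bcPoint_comp_right f _ i).symm.trans (congrArg (bcPoint f B Y) ?_)
    rw [Category.assoc, hκ]
    simp [cj, MonObj.comp_mul, GrpObj.comp_inv]
  let yX : 𝟙_ (Over X.left) ⟶ Red.bc f B := bcPointMulEquiv f B (𝟙_ (Over X.left)) (Over.homMk y.left (by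
    show y.left ≫ B.hom = 𝟙 _ ≫ f
    rw [Category.id_comp]; exact Over.w y))
  have hσ' : σ ≫ (Over.pullback f).map i = AGF.conjBy yX ((Over.pullback f).map t) := by
    rw [hσi, map_mul, map_mul, map_inv]
    have h1 : bcPointMulEquiv f B Y (xu ≫ y) = toUnit Y ≫ yX := by
      refine (congrArg (bcPointMulEquiv f B Y) ?_).trans (bcPoint_comp f (toUnit Y) _)
      exact Over.OverMorphism.ext rfl
    have h2 : bcPointMulEquiv f B Y (hh ≫ t) = (Over.pullback f).map t :=
      (bcPoint_comp_right f _ t).trans ((congrArg (· ≫ (Over.pullback f).map t) (Equiv.apply_symm_apply _ _)).trans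
        (Category.id_comp _))
    rw [h1, h2]
  haveI : IsMonHom (σ ≫ (Over.pullback f).map i) := by rw [hσ']; exact isMonHom_conjBy yX _
  haveI : IsMonHom σ := GrothLib.CentMT14.isMonHom_of_comp σ ((Over.pullback f).map i)
  obtain ⟨jT, hjT⟩ := (hciff T t).2 fun X' x h => by
    show Commute (x ≫ t) (h ≫ t)
    show _ = _
    rw [← MonObj.mul_comp, ← MonObj.mul_comp, mul_comm_of_charts (hasChartsFpqc_of_isTorus hT)]
  obtain ⟨h'', he''⟩ := hy _ xu (hh ≫ jT)
  have hσC : σ ≫ (Over.pullback f).map i = bcPoint f C Y h'' ≫ (Over.pullback f).map c := by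
    rw [hσi, ← bcPoint_comp_right]
    refine congrArg (bcPoint f B Y) ?_
    rw [← he'', Category.assoc, hjT]
  have hcomm : ∀ (Z : Over X.left) (a b : Z ⟶ Red.bc f T),
      Commute (a ≫ σ) (b ≫ (Over.pullback f).map tN) := fun Z a b => by
    have e := ((isCentralizerOf_bc f hc).2.2 Z (a ≫ σ ≫ (Over.pullback f).map i)).1
      ⟨a ≫ bcPoint f C Y h'', by rw [hσC, Category.assoc]⟩ Z (𝟙 Z) b
    show _ = _
    rw [← cancel_mono ((Over.pullback f).map i), MonObj.mul_comp, MonObj.mul_comp]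
    simp only [Category.assoc, ← Functor.map_comp, htN]
    simpa only [Category.id_comp] using e
  have hpσ : σ ≫ (Over.pullback f).map p = (Over.pullback f).map tN ≫ (Over.pullback f).map p := by
    refine (bcPoint_comp_right f _ p).symm.trans ?_
    rw [Category.assoc, hκp]
    refine (congrArg (bcPoint f D Y) (show _ = hh ≫ tN ≫ p by simp)).trans ((bcPoint_comp_right f hh (tN ≫ p)).trans ?_)
    rw [show bcPoint f T Y hh = 𝟙 Y from Equiv.apply_symm_apply _ _, Category.id_comp, Functor.map_comp]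
  have hfix := conj_eq_of_split (X := X) p s u r hru hUu hT tN σ hcomm hpσ
  have key : (xu ≫ y) * (hh ≫ t) * (xu ≫ y)⁻¹ = hh ≫ t := by
    apply (bcPointMulEquiv f B Y).injective
    rw [← hσi, hfix, ← Functor.map_comp, htN]
    exact ((bcPoint_comp_right f hh t).trans ((congrArg (· ≫ (Over.pullback f).map t) (Equiv.apply_symm_apply _ _)).trans
        (Category.id_comp _))).symm
  -- specialise
  let Z : Over X.left := Over.mk x.left
  let e : X' ≅ (Over.map f).obj Z := Over.isoMk (Iso.refl _) (by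
    show 𝟙 _ ≫ x.left ≫ f = X'.hom
    rw [Category.id_comp]; exact Over.w x)
  let a : Z ⟶ Y := bcPoint f T Z (e.inv ≫ h)
  have ha : e.hom ≫ (Over.map f).map a ≫ hh = h := by
    have : bcPoint f T Z ((Over.map f).map a ≫ hh) = bcPoint f T Z (e.inv ≫ h) := by
      rw [bcPoint_comp, show bcPoint f T Y hh = 𝟙 Y from Equiv.apply_symm_apply _ _, Category.comp_id]
    rw [(bcPoint f T Z).injective this, e.hom_inv_id_assoc]
  have hx : e.hom ≫ (Over.map f).map a ≫ xu = x := Over.OverMorphism.ext (by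
    show 𝟙 _ ≫ a.left ≫ Y.hom = x.left
    rw [Category.id_comp]; exact Over.w a)
  have k2 := congrArg ((e.hom ≫ (Over.map f).map a) ≫ ·) key
  simp only [MonObj.comp_mul, GrpObj.comp_inv, ← Category.assoc] at k2
  rw [Category.assoc e.hom, hx, Category.assoc e.hom, ha] at k2
  exact mul_inv_eq_iff_eq_mul.1 k2

end GrothLib.Flag27
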