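import Groth.Agent.Lib.Flag27.CentInter
import Groth.Agent.Lib.Kleiman27.Orbit
import Groth.Prelude.Def_ChGrp

/-!
# Borel subgroups of centralizers of tori
-/

set_option autoImplicit false
set_option linter.all false
set_option backward.isDefEq.respectTransparency false

universe u

open CategoryTheory CategoryTheory.Limits MonoidalCategory CartesianMonoidalCategory MonObj GrpObj AlgebraicGeometry

namespace GrothLib.Flag27

variable {k : Type u} [Field k] [IsAlgClosed k]
  {G S C B : Over (Spec (CommRingCat.of k))} [GrpObj G] [GrpObj S] [GrpObj C] [GrpObj B]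
  [IsAffine G.left] [Smooth G.hom] [ConnectedSpace G.left]

/-- Centralizers of subtori are closed, affine, smooth and connected. -/
theorem centralizer_facts (iS : S ⟶ G) [IsMonHom iS] [Mono iS] (hS : Red.IsTorus S) {c : C ⟶ G}
    (hc : Red.IsCentralizerOf iS c) :
    IsClosedImmersion c.left ∧ IsAffine C.left ∧ Smooth C.hom ∧ ConnectedSpace C.left := by
  have hconn := connectedSpace_centralizer iS hS c hc
  obtain ⟨-, hcmono, hciff⟩ := hc
  haveI := hcmono
  obtain ⟨Z₀, _, z₀, hz₀, hz₀c, hz₀s⟩ := GrothLib.MultDef14.exists_centralizer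
    (GrothLib.DiagGrp.hasChartsFpqc_of_isTorus hS) (inferInstance : Smooth G.hom) (isAffineHom_of_isAffine _) iS
  haveI := hz₀c; haveI := hz₀s
  obtain ⟨-, hz₀mono, hz₀iff⟩ := hz₀
  haveI := hz₀mono
  obtain ⟨f, hf⟩ := (hz₀iff _ c).2 ((hciff _ c).1 ⟨𝟙 C, Category.id_comp _⟩)
  obtain ⟨f', hf'⟩ := (hciff _ z₀).2 ((hz₀iff _ z₀).1 ⟨𝟙 Z₀, Category.id_comp _⟩)
  haveI : IsIso f := ⟨f', by rw [← cancel_mono c, Category.assoc, hf', hf, Category.id_comp],
    by rw [← cancel_mono z₀, Category.assoc, hf, hf', Category.id_comp]⟩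
  haveI : IsIso f.left := inferInstanceAs (IsIso ((Over.forget _).map f))
  haveI : IsClosedImmersion c.left := by rw [← hf, Over.comp_left]; infer_instance
  exact ⟨inferInstance, isAffine_of_isAffineHom c.left, by rw [← Over.w f]; infer_instance, hconn⟩

/-- A rational point normalizing a torus trivially centralizes it. -/
theorem exists_lift_centralizer {iS : S ⟶ G} {c : C ⟶ G} (hc : Red.IsCentralizerOf iS c)
    (x : 𝟙_ (Over (Spec (CommRingCat.of k))) ⟶ G) (hx : AGF.conjBy x iS = iS) : ∃ z, z ≫ c = x := by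
  refine (hc.2.2 _ x).2 fun X' x' h => ?_
  have h1 := congrArg (h ≫ ·) hx
  simp only [AGF.conjBy, MonObj.comp_mul, GrpObj.comp_inv, ← Category.assoc] at h1
  rw [toUnit_unique (h ≫ toUnit S) x', mul_inv_eq_iff_eq_mul] at h1
  exact h1

set_option maxHeartbeats 800000 in
/-- The closure of the product of the centralizer and a Borel subgroup has no new rational points. -/
theorem exists_decomp_of_closure (iS : S ⟶ G) [IsMonHom iS] [Mono iS] (hS : Red.IsTorus S) {c : C ⟶ G}
    (hc : Red.IsCentralizerOf iS c) {iB : B ⟶ G} (hB : Red.IsBorelOver k iB) (t : S ⟶ B) (ht : t ≫ iB = iS)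
    (g : 𝟙_ (Over (Spec (CommRingCat.of k))) ⟶ G)
    (hg : cl g ∈ closure (Set.range ((fst C B ≫ c) * (snd C B ≫ iB)).left.base)) :
    ∃ (c₀ : 𝟙_ (Over (Spec (CommRingCat.of k))) ⟶ C) (b₀ : 𝟙_ (Over (Spec (CommRingCat.of k))) ⟶ B),
      (c₀ ≫ c) * (b₀ ≫ iB) = g := by
  obtain ⟨hcc, hCa, hCs, -⟩ := centralizer_facts iS hS hc
  haveI := hcc; haveI := hCa; haveI := hCs
  obtain ⟨hcm, hcmono, hciff⟩ := id hc
  haveI := hcm; haveI := hcmono
  obtain ⟨hSc, hSa, hSs, hSconn⟩ := torus_facts hS iS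
  haveI := hSc; haveI := hSa; haveI := hSs; haveI := hSconn
  haveI : IsReduced S.left := GrothLib.RedSmooth.isReduced_of_smooth S.hom
  obtain ⟨hBm, hBc, hBsm, hBconn, hBsolv, -⟩ := id hB
  haveI := hBm; haveI := hBc; haveI := hBsm; haveI := hBconn
  haveI : Mono iB := Over.mono_of_mono_left iB
  haveI : IsAffine B.left := isAffine_of_isAffineHom iB.left
  haveI : IsMonHom (t ≫ iB) := by rw [ht]; infer_instance
  haveI : IsMonHom t := GrothLib.CentMT14.isMonHom_of_comp t iB
  obtain ⟨D, _, U, _, p, s, u, r, hp, hs, hu, hsp, hDt, hDa, hDs, hDc, huc, hup, hur, hru, hUu, hUs, hUc⟩ :=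
    hasSplit_of_solvable (isSolvable_points hBsolv)
  haveI := hp; haveI := hs; haveI := hu; haveI := hDa; haveI := hDs; haveI := hUs; haveI := huc
  haveI : IsAffine U.left := isAffine_of_isAffineHom u.left
  haveI : Mono u := Over.mono_of_mono_left u
  haveI : IsSeparated D.hom := inferInstance
  haveI : LocallyOfFiniteType (C ⊗ B).hom := by
    show LocallyOfFiniteType (pullback.fst C.hom B.hom ≫ C.hom)
    infer_instance
  have hid : toUnit (𝟙_ (Over (Spec (CommRingCat.of k)))) = 𝟙 _ := toUnit_unique _ _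
  -- the closed conditions
  have hpts : ∀ s₀ : 𝟙_ (Over (Spec (CommRingCat.of k))) ⟶ S,
      ∃ z : 𝟙_ (Over (Spec (CommRingCat.of k))) ⟶ B, z ≫ iB = g⁻¹ * (s₀ ≫ iS) * g ∧ z ≫ p = s₀ ≫ t ≫ p := by
    intro s₀
    let q : G ⟶ G := (𝟙 G)⁻¹ * (toUnit G ≫ s₀ ≫ iS) * 𝟙 G
    have hq : ∀ v : 𝟙_ (Over (Spec (CommRingCat.of k))) ⟶ G, v ≫ q = v⁻¹ * (s₀ ≫ iS) * v := fun v => by
      simp only [q, MonObj.comp_mul, GrpObj.comp_inv, Category.comp_id, ← Category.assoc]
      rw [toUnit_unique (v ≫ toUnit G) (𝟙 _), Category.id_comp]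
    let E : Set B.left := p.left.base ⁻¹' {cl (s₀ ≫ t ≫ p)}
    have hE : IsClosed E := (isClosed_cl _).preimage p.left.continuous
    have hF : IsClosed (q.left.base ⁻¹' (iB.left.base '' E)) :=
      (iB.left.isClosedEmbedding.isClosedMap _ hE).preimage q.left.continuous
    let m := (fst C B ≫ c) * (snd C B ≫ iB)
    have hsub : Set.range m.left.base ⊆ q.left.base ⁻¹' (iB.left.base '' E) := by
      rw [Set.range_subset_iff]
      intro y
      refine subset_of_cl isClosed_univ (hF.preimage m.left.continuous) (fun v _ => ?_) (Set.mem_univ y)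
      show q.left.base (m.left.base (cl v)) ∈ iB.left.base '' E
      rw [← cl_comp, ← cl_comp, hq]
      refine ⟨cl ((v ≫ snd C B)⁻¹ * (s₀ ≫ t) * (v ≫ snd C B)), ?_, ?_⟩
      · show p.left.base _ ∈ ({cl (s₀ ≫ t ≫ p)} : Set D.left)
        rw [Set.mem_singleton_iff, ← cl_comp, MonObj.mul_comp, MonObj.mul_comp, GrpObj.inv_comp,
          GrothLib.RankCell14.comm_torus hDt (((v ≫ snd C B) ≫ p)⁻¹) ((s₀ ≫ t) ≫ p), inv_mul_cancel_right,
          Category.assoc]
      · rw [← cl_comp]
        refine congrArg cl ?_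
        have hcomm : ((v ≫ fst C B) ≫ c) * (s₀ ≫ iS) = (s₀ ≫ iS) * ((v ≫ fst C B) ≫ c) := by
          have := (hciff _ ((v ≫ fst C B) ≫ c)).1 ⟨v ≫ fst C B, rfl⟩ _ (𝟙 _) s₀
          rwa [Category.id_comp] at this
        have hm : v ≫ m = ((v ≫ fst C B) ≫ c) * ((v ≫ snd C B) ≫ iB) := by
          simp only [m, MonObj.comp_mul, Category.assoc]
        rw [MonObj.mul_comp, MonObj.mul_comp, GrpObj.inv_comp, Category.assoc s₀ t iB, ht, hm, _root_.mul_inv_rev]
        simp only [_root_.mul_assoc]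
        rw [← _root_.mul_assoc (s₀ ≫ iS) ((v ≫ fst C B) ≫ c), ← hcomm, _root_.mul_assoc, inv_mul_cancel_left]
    have hgF := (hF.closure_subset_iff.2 hsub) hg
    have hw : cl (g ≫ q) ∈ iB.left.base '' E := by rw [cl_comp]; exact hgF
    obtain ⟨z, hzE, hz⟩ := exists_cl_lift iB hE.isLocallyClosed hw
    refine ⟨z, hz.trans (hq g), eq_of_cl ?_⟩
    rw [cl_comp]
    exact hzE
  obtain ⟨f, hf⟩ := exists_lift_of_pts (AGF.conjBy g⁻¹ iS) iB fun s₀ => by
    obtain ⟨z, hz, -⟩ := hpts s₀
    refine ⟨z, hz.trans ?_⟩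
    rw [comp_conjBy', AGF.conjBy, hid, Category.id_comp, _root_.inv_inv]
  haveI : IsMonHom (f ≫ iB) := by rw [hf]; exact isMonHom_conjBy g⁻¹ iS
  haveI : IsMonHom f := GrothLib.CentMT14.isMonHom_of_comp f iB
  have hfp : f ≫ p = t ≫ p := GrothLib.Rigidity.ext_of_points _ _ fun s₀ => by
    obtain ⟨z, hz, hzp⟩ := hpts s₀
    have : s₀ ≫ f = z := by
      rw [← cancel_mono iB, Category.assoc, hf, hz, comp_conjBy', AGF.conjBy, hid, Category.id_comp, _root_.inv_inv]
    rw [← Category.assoc, this, hzp]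
  obtain ⟨h₁, hh₁⟩ := exists_conj_section hUu p s u r hsp hup hru hS f
  obtain ⟨h₂, hh₂⟩ := exists_conj_section hUu p s u r hsp hup hru hS t
  rw [reassoc_of% hfp, ← hh₂] at hh₁
  have e : ∀ (h : 𝟙_ (Over (Spec (CommRingCat.of k))) ⟶ B) (i : S ⟶ B),
      AGF.conjBy h i ≫ iB = AGF.conjBy (h ≫ iB) (i ≫ iB) := fun h i => by
    simp only [AGF.conjBy, MonObj.mul_comp, GrpObj.inv_comp, Category.assoc]
  have h3 := congrArg (· ≫ iB) hh₁
  simp only [e, hf, ht, conjBy_conjBy] at h3
  have h4 := congrArg (AGF.conjBy (h₂ ≫ iB)⁻¹) h3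
  rw [conjBy_conjBy, conjBy_conjBy, inv_mul_cancel, conjBy_one] at h4
  obtain ⟨z, hz⟩ := exists_lift_centralizer hc _ h4
  refine ⟨z⁻¹, h₂⁻¹ * h₁, ?_⟩
  rw [GrpObj.inv_comp, hz, MonObj.mul_comp, GrpObj.inv_comp]
  group

set_option maxHeartbeats 1600000 in
/-- The intersection of a Borel subgroup with the centralizer of a torus in it is a Borel subgroup of the
centralizer. -/
theorem isBorelOver_inter (iS : S ⟶ G) [IsMonHom iS] [Mono iS] (hS : Red.IsTorus S) {c : C ⟶ G}
    (hc : Red.IsCentralizerOf iS c) {iB : B ⟶ G} (hB : Red.IsBorelOver k iB) (t : S ⟶ B) (ht : t ≫ iB = iS)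
    {D : Over (Spec (CommRingCat.of k))} [GrpObj D] (dC : D ⟶ C) [IsMonHom dC] (dB : D ⟶ B)
    (hD : IsPullback dC dB c iB) : Red.IsBorelOver k dC := by
  obtain ⟨hcc, hCa, hCs, hCconn⟩ := centralizer_facts iS hS hc
  haveI := hcc; haveI := hCa; haveI := hCs; haveI := hCconn
  obtain ⟨hcm, hcmono, -⟩ := id hc
  haveI := hcm; haveI := hcmono
  obtain ⟨hBm, hBc, hBsm, hBconn, hBsolv, -⟩ := id hB
  haveI := hBm; haveI := hBc; haveI := hBsm; haveI := hBconn
  haveI : Mono iB := Over.mono_of_mono_left iB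
  haveI : IsAffine B.left := isAffine_of_isAffineHom iB.left
  obtain ⟨hDsm, hDconn⟩ := smooth_connected_inter iS hS c hc iB hBc
    (fun X v h => ⟨(v ≫ t) * h * (v ≫ t)⁻¹, by
      simp only [MonObj.mul_comp, GrpObj.inv_comp, Category.assoc, ht]⟩) dC dB hD
  haveI := hDsm; haveI := hDconn
  haveI : IsMonHom (dB ≫ iB) := by rw [← hD.w]; infer_instance
  haveI : IsMonHom dB := GrothLib.CentMT14.isMonHom_of_comp dB iB
  haveI : IsClosedImmersion dC.left :=
    MorphismProperty.of_isPullback (P := @IsClosedImmersion) (hD.map (Over.forget _)).flip ‹IsClosedImmersion iB.left›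
  haveI : Mono dB := hD.mono_snd_of_mono
  have hDsolv : IsSolvable (𝟙_ (Over (Spec (CommRingCat.of k))) ⟶ D) := by
    haveI : Group.IsSolvable (𝟙_ (Over (Spec (CommRingCat.of k))) ⟶ B) := isSolvable_points hBsolv
    exact solvable_of_solvable_injective (f := GrothLib.RankOne.postHom dB (𝟙_ (Over (Spec (CommRingCat.of k)))))
      fun v w h => (cancel_mono dB).1 h
  -- the quotient of the group
  obtain ⟨X, a, o, hX, hXp⟩ := isProper_quotient_good (uc_of_borel hB)
  haveI := hXp
  obtain ⟨hXl, hfl, hsurj, hpb⟩ := id hX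
  haveI := hXl; haveI := hfl; haveI := hsurj
  haveI := GrothLib.Induce27.lfp_orbit (a.orbitMap o)
  haveI : UniversallyOpen (a.orbitMap o).left := inferInstance
  let m := (fst C B ≫ c) * (snd C B ≫ iB)
  have hπ : ∀ (g : 𝟙_ (Over (Spec (CommRingCat.of k))) ⟶ G) (b : 𝟙_ (Over (Spec (CommRingCat.of k))) ⟶ B),
      g ≫ a.orbitMap o = (g * (b ≫ iB)) ≫ a.orbitMap o := fun g b => by
    have w := congrArg (lift g b ≫ ·) hpb.w
    simp only [← Category.assoc, lift_fst, lift_whiskerLeft] at w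
    rw [← Hom.mul_def] at w
    exact w
  have hm : ∀ (x : 𝟙_ (Over (Spec (CommRingCat.of k))) ⟶ C) (y : 𝟙_ (Over (Spec (CommRingCat.of k))) ⟶ B),
      lift x y ≫ m = (x ≫ c) * (y ≫ iB) := fun x y => by
    simp only [m, MonObj.comp_mul, ← Category.assoc, lift_fst, lift_snd]
  have hIm : IsClosed ((a.orbitMap o).left.base '' closure (Set.range m.left.base)) := by
    refine isClosed_image _ (a.orbitMap o).left.isOpenMap (a.orbitMap o).left.surjective isClosed_closure
      fun z z' hzz hz => ?_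
    obtain ⟨l, hl1, hl2⟩ : ∃ l, l ≫ fst G B = z ∧ l ≫ (G ◁ iB) ≫ μ[G] = z' :=
      ⟨hpb.lift z z' hzz, hpb.lift_fst _ _ _, hpb.lift_snd _ _ _⟩
    have el : l = lift (l ≫ fst G B) (l ≫ snd G B) := by rw [← comp_lift, lift_fst_snd, Category.comp_id]
    rw [el, lift_whiskerLeft_assoc, ← Hom.mul_def, hl1] at hl2
    obtain ⟨c₀, b₀, hcb⟩ := exists_decomp_of_closure iS hS hc hB t ht z hz
    refine subset_closure ⟨cl (lift c₀ (b₀ * (l ≫ snd G B))), ?_⟩
    rw [← cl_comp, hm, MonObj.mul_comp, ← _root_.mul_assoc, hcb, hl2]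
  let aC := AlgGrp.Action.restrict c a
  have hor : aC.orbitMap o = c ≫ a.orbitMap o := by
    rw [GrothLib.FlatFactor.comp_orbitMap]
    exact AlgGrp.Action.lift_restrict_act c a (𝟙 C) (toUnit C ≫ o) |>.trans (by rw [Category.id_comp])
  have hRo : IsClosed (Set.range (aC.orbitMap o).left.base) := by
    have hsub : Set.range (aC.orbitMap o).left.base ⊆ (a.orbitMap o).left.base '' closure (Set.range m.left.base) := by
      rintro _ ⟨y, rfl⟩
      refine ⟨c.left.base y, subset_closure ⟨(lift (𝟙 C) (1 : C ⟶ B)).left.base y, ?_⟩, ?_⟩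
      · rw [← Scheme.Hom.comp_apply, ← Over.comp_left]
        simp only [m, MonObj.comp_mul, ← Category.assoc, lift_fst, lift_snd, Category.id_comp, MonObj.one_comp,
          _root_.mul_one]
      · rw [← Scheme.Hom.comp_apply, ← Over.comp_left, hor]
    haveI : QuasiCompact (aC.orbitMap o).left := by
      haveI : QuasiCompact ((aC.orbitMap o).left ≫ X.hom) := by rw [Over.w]; infer_instance
      exact QuasiCompact.of_comp _ X.hom
    have hlc := GrothLib.GrpSchField.isLocallyClosed_range_orbitMap aC o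
    set Ro := Set.range (aC.orbitMap o).left.base with hRodef
    have hdc : IsClosed (closure Ro \ Ro) := by
      have : closure Ro \ Ro = closure Ro ∩ (coborder Ro)ᶜ := by
        ext y
        refine ⟨fun ⟨h1, h2⟩ => ⟨h1, fun h3 => h2 (coborder_inter_closure.subset ⟨h3, h1⟩)⟩,
          fun ⟨h1, h2⟩ => ⟨h1, fun h3 => h2 (subset_coborder h3)⟩⟩
      rw [this]
      exact isClosed_closure.inter hlc.isOpen_coborder.isClosed_compl
    refine closure_subset_iff_isClosed.mp (Set.sdiff_eq_empty.1 (Set.subset_empty_iff.1 ?_))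
    refine subset_of_cl hdc isClosed_empty fun w hw => hw.2 ?_
    obtain ⟨z, hz, hzw⟩ := exists_cl_lift (a.orbitMap o) isClosed_closure.isLocallyClosed
      (hIm.closure_subset_iff.2 hsub hw.1)
    obtain ⟨c₀, b₀, hcb⟩ := exists_decomp_of_closure iS hS hc hB t ht z hz
    exact ⟨cl c₀, by rw [← cl_comp, hor, ← Category.assoc, hπ (c₀ ≫ c) b₀, hcb, hzw]⟩
  -- the orbit of the centralizer is the quotient
  haveI := GrothLib.Rigidity.irreducibleSpace_of_connected C
  haveI : IsReduced C.left := GrothLib.RedSmooth.isReduced_of_smooth C.hom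
  haveI : IsIntegral C.left := isIntegral_of_irreducibleSpace_of_isReduced _
  obtain ⟨O, z, π, hzi, hOr, hzr, hπz, hπfl, hπs, -⟩ := GrothLib.Kleiman27.exists_orbit aC o
  haveI := hzi; haveI := hOr; haveI := hπfl; haveI := hπs
  haveI : IsClosedImmersion z := IsClosedImmersion.of_isPreimmersion z (hzr ▸ hRo)
  let Oo : Over (Spec (CommRingCat.of k)) := Over.mk (z ≫ X.hom)
  let z' : Oo ⟶ X := Over.homMk z rfl
  let pO : C ⟶ Oo := Over.homMk π (by show π ≫ z ≫ X.hom = C.hom; rw [reassoc_of% hπz, Over.w])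
  haveI : IsClosedImmersion z'.left := inferInstanceAs (IsClosedImmersion z)
  haveI : Mono z' := Over.mono_of_mono_left z'
  haveI : Flat pO.left := inferInstanceAs (Flat π)
  haveI : Surjective pO.left := inferInstanceAs (Surjective π)
  have hpz : pO ≫ z' = aC.orbitMap o := Over.OverMorphism.ext hπz
  haveI : IsProper Oo.hom := inferInstanceAs (IsProper (z ≫ X.hom))
  haveI : LocallyOfFiniteType (C ⊗ Oo).hom := by
    show LocallyOfFiniteType (pullback.fst C.hom Oo.hom ≫ C.hom)
    infer_instance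
  haveI : IsReduced (C ⊗ Oo).left := by
    haveI : Smooth (C ⊗ C).hom := TorsorTriv19.smooth_tensor C C
    haveI : IsReduced (C ⊗ C).left := GrothLib.RedSmooth.isReduced_of_smooth (C ⊗ C).hom
    have e : C ◁ pO = (β_ C C).hom ≫ (pO ▷ C) ≫ (β_ Oo C).hom := by ext <;> simp
    haveI := GrothLib.GrpSchField.isIso_left (β_ C C).hom
    haveI := GrothLib.GrpSchField.isIso_left (β_ Oo C).hom
    haveI : Flat (pO ▷ C).left := GrothLib.GrpSchField.whiskerRight_property @Flat pO C inferInstance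
    haveI : Surjective (pO ▷ C).left := GrothLib.GrpSchField.whiskerRight_property @Surjective pO C inferInstance
    haveI : Flat (C ◁ pO).left := by rw [e, Over.comp_left, Over.comp_left]; infer_instance
    haveI : Surjective (C ◁ pO).left := by rw [e, Over.comp_left, Over.comp_left]; infer_instance
    exact GrothLib.FlatFactor.isReduced_of_flat_surjective (C ◁ pO).left
  obtain ⟨act', hact⟩ : ∃ act' : C ⊗ Oo ⟶ Oo, act' ≫ z' = (C ◁ z') ≫ aC.act := by
    refine exists_lift_of_pts _ z' fun v => ?_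
    obtain ⟨g₀, -, hg₀⟩ := exists_cl_lift pO (E := Set.univ) isClosed_univ.isLocallyClosed (w := v ≫ snd C Oo)
      (by rw [Set.image_univ]; exact pO.left.surjective _)
    refine ⟨((v ≫ fst C Oo) * g₀) ≫ pO, ?_⟩
    have ev : v = lift (v ≫ fst C Oo) (v ≫ snd C Oo) := by rw [← comp_lift, lift_fst_snd, Category.comp_id]
    conv_rhs => rw [ev, lift_whiskerLeft_assoc, ← hg₀, Category.assoc, hpz, GrothLib.FlatFactor.comp_orbitMap]
    rw [Category.assoc, hpz, GrothLib.FlatFactor.comp_orbitMap, GrothLib.DiagGrp.act_mul]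
  let aO : AlgGrp.Action C Oo :=
    { act := act'
      one_act := by
        rw [← cancel_mono z', Category.assoc, hact, ← whisker_exchange_assoc, aC.one_act, leftUnitor_naturality]
      mul_act := by
        rw [← cancel_mono z', Category.assoc, hact, ← whisker_exchange_assoc, aC.mul_act]
        simp only [Category.assoc, hact]
        rw [← MonoidalCategory.whiskerLeft_comp_assoc, hact, MonoidalCategory.whiskerLeft_comp_assoc,
          associator_naturality_right_assoc] }
  let oO : 𝟙_ (Over (Spec (CommRingCat.of k))) ⟶ Oo := (1 : 𝟙_ (Over (Spec (CommRingCat.of k))) ⟶ C) ≫ pO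
  have ho : oO ≫ z' = o := by
    rw [Category.assoc, hpz, GrothLib.FlatFactor.comp_orbitMap, GrothLib.DiagGrp.act_one,
      toUnit_unique (toUnit _) (𝟙 _), Category.id_comp]
  have horb : aO.orbitMap oO = pO := by
    rw [← cancel_mono z', hpz]
    show (lift (𝟙 C) (toUnit C ≫ oO) ≫ act') ≫ z' = _
    rw [Category.assoc, hact, lift_whiskerLeft_assoc, Category.assoc, ho]
    rfl
  have hst : IsPullback iB (toUnit B) (a.orbitMap o) o := by
    have hone : ∀ T : Over (Spec (CommRingCat.of k)), (1 : T ⟶ G) ≫ a.orbitMap o = toUnit T ≫ o := fun T => by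
      rw [GrothLib.FlatFactor.comp_orbitMap, GrothLib.DiagGrp.act_one]
    have hmul : ∀ {T : Over (Spec (CommRingCat.of k))} (g : T ⟶ G) (b : T ⟶ B),
        lift g b ≫ (G ◁ iB) ≫ μ[G] = g * (b ≫ iB) := fun g b => by
      rw [lift_whiskerLeft_assoc, ← Hom.mul_def]
    refine ⟨⟨?_⟩, ⟨PullbackCone.IsLimit.mk _ (fun s => hpb.lift 1 s.fst ?_ ≫ snd G B) (fun s => ?_)
      (fun s => toUnit_unique _ _) fun s m h₁ h₂ => ?_⟩⟩
    · have w := congrArg (lift (1 : B ⟶ G) (𝟙 B) ≫ ·) hpb.w
      simp only [← Category.assoc, lift_fst] at w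
      simp only [Category.assoc, ← hone] at w
      rw [← hone B, w, ← Category.assoc, ← Category.assoc, Category.assoc (lift _ _), hmul, _root_.one_mul,
        Category.id_comp]
    · rw [hone, s.condition, toUnit_unique s.snd (toUnit _)]
    · have e1 := hpb.lift_fst 1 s.fst (by rw [hone, s.condition, toUnit_unique s.snd (toUnit _)])
      have e2 := hpb.lift_snd 1 s.fst (by rw [hone, s.condition, toUnit_unique s.snd (toUnit _)])
      generalize hpb.lift 1 s.fst _ = l at e1 e2
      have el : l = lift (l ≫ fst G B) (l ≫ snd G B) := by rw [← comp_lift, lift_fst_snd, Category.comp_id]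
      rw [el, hmul, e1, _root_.one_mul] at e2
      exact e2
    · rw [← cancel_mono iB, h₁]
      have e1 := hpb.lift_fst 1 s.fst (by rw [hone, s.condition, toUnit_unique s.snd (toUnit _)])
      have e2 := hpb.lift_snd 1 s.fst (by rw [hone, s.condition, toUnit_unique s.snd (toUnit _)])
      generalize hpb.lift 1 s.fst _ = l at e1 e2 ⊢
      have el : l = lift (l ≫ fst G B) (l ≫ snd G B) := by rw [← comp_lift, lift_fst_snd, Category.comp_id]
      rw [el, hmul, e1, _root_.one_mul] at e2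
      exact e2.symm
  have hDst : IsPullback dC (toUnit D) pO oO := by
    refine GrothLib.FlatFactor.isPullback_cancel_mono z' hpz ho ?_
    rw [hor, toUnit_unique (toUnit D) (dB ≫ toUnit B)]
    exact (hD.flip.paste_horiz hst.flip).flip
  have hq : AGF.IsQuotient dC Oo aO oO := by
    refine ⟨inferInstance, ?_, ?_, ?_⟩
    · rw [horb]; infer_instance
    · rw [horb]; infer_instance
    · exact (GrothLib.FlatFactor.orbit_isPullback aO oO dC (by rw [horb]; exact hDst)).flip
  haveI : IsAffine D.left := isAffine_of_isAffineHom dC.left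
  exact isBorel_of_proper dC (isSolvableGrp_of_points hDsolv) aO oO hq

end GrothLib.Flag27
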