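import Groth.Agent.Lib.Flag27.CentBC
import Groth.Agent.Lib.TorsorTriv19.Transport
import Groth.Agent.Lib.EssFree.Subgroup
import Groth.Agent.Lib.MultDef14.Transporter

/-!
# Centralizers of tori meet normalized smooth connected subgroups in smooth connected subgroups
-/

set_option autoImplicit false
set_option linter.all false
set_option backward.isDefEq.respectTransparency false

universe u

open CategoryTheory CategoryTheory.Limits MonoidalCategory CartesianMonoidalCategory MonObj GrpObj AlgebraicGeometry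

namespace GrothLib.Flag27

variable {k : Type u} [Field k] [IsAlgClosed k]

set_option maxHeartbeats 1600000 in
/-- The intersection of the centralizer of a torus with a normalized smooth connected subgroup. -/
theorem smooth_connected_inter {G S C H I : Over (Spec (CommRingCat.of k))} [GrpObj G] [GrpObj S] [GrpObj C] [GrpObj H]
    [IsAffine G.left] [Smooth G.hom] [ConnectedSpace G.left]
    (iS : S ⟶ G) [IsMonHom iS] [Mono iS] (hS : Red.IsTorus S) (c : C ⟶ G) (hc : Red.IsCentralizerOf iS c)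
    (j : H ⟶ G) [IsMonHom j] (hj : IsClosedImmersion j.left) [Smooth H.hom] [ConnectedSpace H.left]
    (hnorm : ∀ (X : Over (Spec (CommRingCat.of k))) (s : X ⟶ S) (h : X ⟶ H), ∃ h' : X ⟶ H,
      (s ≫ iS) * (h ≫ j) * (s ≫ iS)⁻¹ = h' ≫ j)
    (p : I ⟶ C) (q : I ⟶ H) (hI : IsPullback p q c j) : Smooth I.hom ∧ ConnectedSpace I.left := by
  haveI := hj
  obtain ⟨hSc, hSa, hSs, hSconn⟩ := torus_facts hS iS
  haveI := hSc; haveI := hSa; haveI := hSs; haveI := hSconn
  haveI : Mono j := Over.mono_of_mono_left j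
  haveI : IsAffine H.left := isAffine_of_isAffineHom j.left
  obtain ⟨hcm, hcmono, hciff⟩ := id hc
  haveI := hcm; haveI := hcmono
  -- the semidirect product inside the product
  let M := G ⊗ S
  have hfst : ∀ {T : Over (Spec (CommRingCat.of k))} (a b : T ⟶ M), (a * b) ≫ fst G S = (a ≫ fst G S) * (b ≫ fst G S) :=
    fun a b => MonObj.mul_comp a b (fst G S)
  have hsnd : ∀ {T : Over (Spec (CommRingCat.of k))} (a b : T ⟶ M), (a * b) ≫ snd G S = (a ≫ snd G S) * (b ≫ snd G S) :=
    fun a b => MonObj.mul_comp a b (snd G S)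
  let m : H ⊗ S ⟶ M := lift ((fst H S ≫ j) * (snd H S ≫ iS)) (snd H S)
  have hm1 : ∀ {T : Over (Spec (CommRingCat.of k))} (z : T ⟶ H ⊗ S),
      (z ≫ m) ≫ fst G S = (z ≫ fst H S ≫ j) * ((z ≫ snd H S) ≫ iS) := fun z => by
    rw [Category.assoc, lift_fst, MonObj.comp_mul]; simp only [Category.assoc]
  have hm2 : ∀ {T : Over (Spec (CommRingCat.of k))} (z : T ⟶ H ⊗ S), (z ≫ m) ≫ snd G S = z ≫ snd H S := fun z => by
    rw [Category.assoc, lift_snd]
  haveI : Mono m := ⟨fun {T} z z' h => by
    have h2 := congrArg (· ≫ snd G S) h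
    simp only [hm2] at h2
    have h1 := congrArg (· ≫ fst G S) h
    simp only [hm1, h2, mul_left_inj, ← Category.assoc] at h1
    exact CartesianMonoidalCategory.hom_ext _ _ ((cancel_mono j).1 h1) h2⟩
  obtain ⟨inst, hmm⟩ := EssFree.exists_grpObj_of_mono m
    (fun T => ⟨1, by
      refine CartesianMonoidalCategory.hom_ext _ _ ?_ ?_
      · rw [hm1, MonObj.one_comp (f := fst G S)]
        simp only [← Category.assoc, MonObj.one_comp, _root_.mul_one]
      · rw [hm2, MonObj.one_comp (f := snd G S), MonObj.one_comp (f := snd H S)]⟩)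
    (fun T a b => by
      obtain ⟨h', hh'⟩ := hnorm T (a ≫ snd H S) (b ≫ fst H S)
      refine ⟨lift ((a ≫ fst H S) * h') ((a ≫ snd H S) * (b ≫ snd H S)),
        CartesianMonoidalCategory.hom_ext _ _ ?_ ?_⟩
      · rw [hm1, hfst, hm1, hm1]
        simp only [← Category.assoc, lift_fst, lift_snd, MonObj.mul_comp]
        rw [← hh']
        simp only [_root_.mul_assoc, inv_mul_cancel_left]
      · rw [hm2, hsnd, hm2, hm2, lift_snd])
    (fun T a => by
      obtain ⟨h', hh'⟩ := hnorm T (a ≫ snd H S)⁻¹ (a ≫ fst H S)⁻¹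
      refine ⟨lift h' (a ≫ snd H S)⁻¹, CartesianMonoidalCategory.hom_ext _ _ ?_ ?_⟩
      · rw [hm1, GrpObj.inv_comp (a ≫ m) (fst G S), hm1]
        simp only [← Category.assoc, lift_fst, lift_snd, GrpObj.inv_comp, _root_.mul_inv_rev]
        rw [← hh']
        simp only [GrpObj.inv_comp, _root_.inv_inv, inv_mul_cancel_right, mul_inv_cancel_right, _root_.mul_assoc,
          mul_inv_cancel, _root_.mul_one]
      · rw [hm2, GrpObj.inv_comp (a ≫ m) (snd G S), hm2, lift_snd])
  letI : GrpObj (H ⊗ S) := inst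
  letI : MonObj (H ⊗ S) := inst.toMonObj
  haveI := hmm
  let iS' : S ⟶ H ⊗ S := lift 1 (𝟙 S)
  have hi' : ∀ {T : Over (Spec (CommRingCat.of k))} (t : T ⟶ S),
      ((t ≫ iS') ≫ m) ≫ fst G S = t ≫ iS ∧ ((t ≫ iS') ≫ m) ≫ snd G S = t := fun t => by
    constructor
    · rw [hm1]
      simp only [iS', comp_lift, MonObj.comp_one, Category.comp_id, lift_snd, ← Category.assoc, lift_fst,
        MonObj.one_comp, _root_.one_mul]
    · rw [hm2]
      simp [iS']
  haveI : IsMonHom (iS' ≫ m) := by
    have e : iS' ≫ m = lift iS (𝟙 S) := CartesianMonoidalCategory.hom_ext _ _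
      (by have := (hi' (𝟙 S)).1; rw [Category.id_comp] at this; rw [this, lift_fst]; exact Category.id_comp _)
      (by have := (hi' (𝟙 S)).2; rw [Category.id_comp] at this; rw [this, lift_snd])
    rw [e]
    infer_instance
  haveI : IsMonHom iS' := GrothLib.CentMT14.isMonHom_of_comp iS' m
  haveI : IsSplitMono iS' := IsSplitMono.mk' ⟨snd H S, lift_snd _ _⟩
  haveI : Smooth (H ⊗ S).hom := TorsorTriv19.smooth_tensor H S
  haveI : IsAffine (H ⊗ S).left := by
    show IsAffine (pullback H.hom S.hom)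
    infer_instance
  haveI : ConnectedSpace (H ⊗ S).left :=
    GrothLib.Neutral.connectedSpace_pullback H.hom S.hom (η[H]).left (Over.w η[H])
  -- its centralizer of the torus
  obtain ⟨Z, _, ζ, hζ, -, hZs⟩ := GrothLib.MultDef14.exists_centralizer
    (GrothLib.DiagGrp.hasChartsFpqc_of_isTorus hS) (inferInstance : Smooth (H ⊗ S).hom)
    (isAffineHom_of_isAffine _) iS'
  haveI := hZs
  haveI hZconn := connectedSpace_centralizer iS' hS ζ hζ
  obtain ⟨hζm, hζmono, hζiff⟩ := hζ
  haveI := hζm; haveI := hζmono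
  obtain ⟨zc, hzc⟩ : ∃ zc : Z ⟶ C, zc ≫ c = (ζ ≫ fst H S) ≫ j := (hciff _ _).2 fun X' x t => by
    have h0 := congrArg (· ≫ m) ((hζiff _ ζ).1 ⟨𝟙 Z, Category.id_comp _⟩ X' x t)
    simp only [MonObj.mul_comp] at h0
    have h1 := congrArg (· ≫ fst G S) h0
    rw [hfst, hfst, (hi' t).1, hm1] at h1
    simp only [Category.assoc] at h1
    have hcs : Commute (x ≫ ζ ≫ snd H S ≫ iS) (t ≫ iS) := by
      have := congrArg (· ≫ iS) (GrothLib.RankCell14.comm_torus hS (x ≫ ζ ≫ snd H S) t)
      simp only [MonObj.mul_comp, Category.assoc] at this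
      exact this
    have h1' : Commute ((x ≫ ζ ≫ fst H S ≫ j) * (x ≫ ζ ≫ snd H S ≫ iS)) (t ≫ iS) := h1
    have := Commute.mul_left h1' hcs.inv_left
    rw [mul_inv_cancel_right] at this
    simp only [Category.assoc]
    exact this
  let r : Z ⟶ I := hI.lift zc (ζ ≫ fst H S) hzc
  obtain ⟨e, he⟩ : ∃ e : I ⟶ Z, e ≫ ζ = lift q 1 := (hζiff _ _).2 fun X' x t => by
    rw [← cancel_mono m]
    refine CartesianMonoidalCategory.hom_ext _ _ ?_ ?_
    · simp only [MonObj.mul_comp]
      rw [(hi' t).1, hm1]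
      simp only [comp_lift, lift_snd, MonObj.comp_one, MonObj.one_comp, _root_.mul_one, ← Category.assoc, lift_fst]
      rw [Category.assoc x q j, ← hI.w]
      exact (hciff _ (p ≫ c)).1 ⟨p, rfl⟩ X' x t
    · simp only [MonObj.mul_comp]
      rw [(hi' t).2, hm2]
      exact GrothLib.RankCell14.comm_torus hS _ _
  have her : e ≫ r = 𝟙 I := by
    have hq : (e ≫ r) ≫ q = q := by rw [Category.assoc, hI.lift_snd, ← Category.assoc, he, lift_fst]
    refine hI.hom_ext ?_ (by rw [hq, Category.id_comp])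
    rw [← cancel_mono c, Category.assoc, hI.w, ← Category.assoc, hq, Category.id_comp, hI.w]
  have her' : e.left ≫ r.left = 𝟙 I.left := by rw [← Over.comp_left, her]; rfl
  haveI hIconn : ConnectedSpace I.left := by
    have hs : Function.Surjective r.left.base := fun y => ⟨e.left.base y, by
      rw [← Scheme.Hom.comp_apply, her']; rfl⟩
    exact hs.connectedSpace r.left.continuous
  -- smoothness
  obtain ⟨Z₀, _, z₀, hz₀, hz₀c, -⟩ := GrothLib.MultDef14.exists_centralizer
    (GrothLib.DiagGrp.hasChartsFpqc_of_isTorus hS) (inferInstance : Smooth G.hom) (isAffineHom_of_isAffine _) iS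
  haveI := hz₀c
  obtain ⟨-, hz₀mono, hz₀iff⟩ := hz₀
  haveI := hz₀mono
  obtain ⟨f, hf⟩ := (hz₀iff _ c).2 ((hciff _ c).1 ⟨𝟙 C, Category.id_comp _⟩)
  obtain ⟨f', hf'⟩ := (hciff _ z₀).2 ((hz₀iff _ z₀).1 ⟨𝟙 Z₀, Category.id_comp _⟩)
  haveI : IsIso f := ⟨f', by rw [← cancel_mono c, Category.assoc, hf', hf, Category.id_comp],
    by rw [← cancel_mono z₀, Category.assoc, hf, hf', Category.id_comp]⟩
  haveI : IsIso f.left := inferInstanceAs (IsIso ((Over.forget _).map f))
  haveI : IsClosedImmersion c.left := by rw [← hf, Over.comp_left]; infer_instance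
  haveI hqc : IsClosedImmersion q.left :=
    MorphismProperty.of_isPullback (P := @IsClosedImmersion) (hI.map (Over.forget _)) ‹_›
  haveI : IsAffine I.left := isAffine_of_isAffineHom q.left
  haveI : LocallyOfFiniteType I.hom := by rw [← Over.w q]; infer_instance
  haveI : IsReduced Z.left := GrothLib.RedSmooth.isReduced_of_smooth Z.hom
  haveI : IsReduced I.left := by
    haveI : _root_.IsReduced Γ(I.left, ⊤) := isReduced_of_injective r.left.appTop.hom (fun a b h => by
      have h' := congrArg e.left.appTop.hom h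
      have key : ∀ a, e.left.appTop (r.left.appTop a) = a := fun a => by
        rw [← GmPts.appTop_comp_apply, her']; rfl
      rwa [key, key] at h')
    haveI : IsReduced (Spec Γ(I.left, ⊤)) := inferInstance
    exact isReduced_of_isOpenImmersion I.left.isoSpec.hom
  haveI : Mono q := Over.mono_of_mono_left q
  obtain ⟨instI, -⟩ := EssFree.exists_grpObj_of_mono q
    (fun T => ⟨hI.lift 1 1 (by rw [MonObj.one_comp, MonObj.one_comp]), hI.lift_snd _ _ _⟩)
    (fun T a b => ⟨hI.lift ((a ≫ p) * (b ≫ p)) ((a ≫ q) * (b ≫ q))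
      (by simp only [MonObj.mul_comp, Category.assoc, hI.w]), hI.lift_snd _ _ _⟩)
    (fun T a => ⟨hI.lift (a ≫ p)⁻¹ (a ≫ q)⁻¹
      (by simp only [GrpObj.inv_comp, Category.assoc, hI.w]), hI.lift_snd _ _ _⟩)
  exact ⟨smooth_of_reduced_grp I, hIconn⟩

end GrothLib.Flag27
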