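import Groth.Agent.Lib.Flag27.ProjAct
import Groth.Agent.Lib.Induce27.Main
import Groth.Agent.Lib.Induce27.Inter
import Mathlib.GroupTheory.Solvable

/-!
# Representations without stable lines
-/

set_option autoImplicit false
set_option backward.isDefEq.respectTransparency false

universe u

open CategoryTheory MonoidalCategory CartesianMonoidalCategory MonObj GrpObj
open AlgebraicGeometry VecGrp
open GrothLib.Repr
open scoped TensorProduct

noncomputable section

namespace GrothLib.Flag27

open GrothLib.Induce27 Groth.Agent.S11191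

variable {k : Type u} [Field k] [IsAlgClosed k]
  {G : Over (Spec (CommRingCat.of k))} [GrpObj G] [IsAffine G.left] [Smooth G.hom]

/-- A faithful matrix representation. -/
theorem exists_faithful :
    ∃ (d : ℕ) (M : Matrix (Fin d) (Fin d) (Fn G)), IsRep M ∧ ∀ g, evM M g = 1 → g = 1 := by
  classical
  haveI : IsAffineHom G.hom := inferInstance
  haveI := finiteType_fn (X := G)
  obtain ⟨S, hS⟩ := (‹Algebra.FiniteType k (Fn G)›).out
  obtain ⟨N, hN, -, -, hst, hmem⟩ := exists_stable_fn (i := 𝟙 G) S
  haveI := hN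
  let ρ := subGMod (fnGMod (rtAct G)) N hst
  let b := Module.finBasis k N
  refine ⟨_, fun j l => coeff ρ (b.coord j) (b l), ?_⟩
  have hev : ∀ g, evM (fun j l => coeff ρ (b.coord j) (b l)) g = LinearMap.toMatrix b b (kAct ρ g) := fun g => by
    refine Matrix.ext fun j l => ?_
    rw [LinearMap.toMatrix_apply]
    show valAt g (coeff ρ (b.coord j) (b l)) = _
    rw [valAt_coeff, rho_one_tmul, cf_tmul, smul_eq_mul, _root_.mul_one]
    rfl
  refine ⟨⟨?_, fun g h => ?_⟩, fun g hg => ?_⟩
  · rw [hev, show kAct ρ 1 = LinearMap.id from LinearMap.ext (kAct_one ρ), LinearMap.toMatrix_id]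
  · rw [hev, hev, hev, ← LinearMap.toMatrix_comp]
    exact congrArg _ (LinearMap.ext (kAct_mul ρ g h))
  · rw [hev, ← LinearMap.toMatrix_id b] at hg
    have hk : kAct ρ g = LinearMap.id := (LinearMap.toMatrix b b).injective hg
    refine pt_ext (AlgHom.ext_of_adjoin_eq_top hS fun f hf => ?_)
    have e := kAct_subGMod hst g ⟨f, hmem f hf⟩
    rw [show kAct (subGMod (fnGMod (rtAct G)) N hst) g ⟨f, hmem f hf⟩ = ⟨f, hmem f hf⟩ from
      LinearMap.congr_fun hk _] at e
    have e' := congrArg (valAt (1 : pt k k ⟶ G)) e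
    rw [valAt_rt, _root_.one_mul] at e'
    exact e'.symm

variable {n : ℕ}

theorem exists_conj (w : Fin (n + 1) → k) (hw : w ≠ 0) :
    ∃ (p : Fin (n + 1)) (Q Q' : Matrix (Fin (n + 1)) (Fin (n + 1)) k), Q * Q' = 1 ∧ Q' * Q = 1 ∧
      Q.mulVec (Pi.single p 1) = w := by
  obtain ⟨p, hp⟩ : ∃ p, w p ≠ 0 := by
    by_contra h
    push Not at h
    exact hw (funext h)
  let Q : Matrix (Fin (n + 1)) (Fin (n + 1)) k := (1 : Matrix _ _ k).updateCol p w
  have hd : IsUnit Q.det := by
    have : Q.det = w p := by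
      rw [← Matrix.cramer_apply, Matrix.cramer_one]
      rfl
    rw [this]
    exact isUnit_iff_ne_zero.2 hp
  refine ⟨p, Q, Q⁻¹, Matrix.mul_nonsing_inv _ hd, Matrix.nonsing_inv_mul _ hd, ?_⟩
  funext j
  rw [Matrix.mulVec_single_one]
  simp [Q]

omit [IsAffine G.left] [Smooth G.hom] [IsAlgClosed k] in
theorem evM_conj {d : ℕ} (M : Matrix (Fin d) (Fin d) (Fn G)) (A B : Matrix (Fin d) (Fin d) k) (g : pt k k ⟶ G) :
    evM (A.map (algebraMap k (Fn G)) * M * B.map (algebraMap k (Fn G))) g = A * evM M g * B := by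
  rw [evM, Matrix.map_mul, Matrix.map_mul, Matrix.map_map, Matrix.map_map]
  congr 2 <;> refine Matrix.ext fun i j => ?_ <;> simp [evM]

/-- If every representation has a stable line, derived subgroups die in every representation. -/
theorem derived_trivial
    (hG : ∀ (n : ℕ) (M : Matrix (Fin (n + 1)) (Fin (n + 1)) (Fn G)), IsRep M →
      ∃ w, w ≠ 0 ∧ ∀ g, ∃ c : k, (evM M g).mulVec w = c • w) :
    ∀ (d : ℕ) (M : Matrix (Fin d) (Fin d) (Fn G)), IsRep M →
      ∃ m, ∀ g ∈ derivedSeries (pt k k ⟶ G) m, evM M g = 1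
  | 0, M, _ => ⟨0, fun g _ => Subsingleton.elim _ _⟩
  | n + 1, M, hM => by
    obtain ⟨w, hw, hwe⟩ := hG n M hM
    obtain ⟨p, Q, Q', hQQ', hQ'Q, hQp⟩ := exists_conj w hw
    let M' := Q'.map (algebraMap k (Fn G)) * M * Q.map (algebraMap k (Fn G))
    let A := fun g : pt k k ⟶ G => evM M' g
    have hA : ∀ g, A g = Q' * evM M g * Q := fun g => evM_conj M Q' Q g
    have hAmul : ∀ g h, A (g * h) = A g * A h := fun g h => by
      rw [hA, hA, hA, hM.mul]
      calc Q' * (evM M g * evM M h) * Q = Q' * evM M g * (Q * Q') * (evM M h * Q) := by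
            rw [hQQ', _root_.mul_one]; noncomm_ring
        _ = _ := by noncomm_ring
    have hAone : A 1 = 1 := by rw [hA, hM.one, _root_.mul_one, hQ'Q]
    have hcol : ∀ g j, j ≠ p → A g j p = 0 := fun g j hj => by
      obtain ⟨c, hc⟩ := hwe g
      have e : (A g).mulVec (Pi.single p 1) = c • Pi.single p 1 := by
        rw [hA, ← Matrix.mulVec_mulVec, hQp, ← Matrix.mulVec_mulVec, hc, Matrix.mulVec_smul, ← hQp,
          Matrix.mulVec_mulVec, hQ'Q, Matrix.one_mulVec]
      have e' := congrFun e j
      rw [Matrix.mulVec_single_one, Pi.smul_apply, Pi.single_eq_of_ne hj, smul_zero] at e'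
      exact e'
    let M'' := M'.submatrix p.succAbove p.succAbove
    have hB : ∀ g, evM M'' g = (A g).submatrix p.succAbove p.succAbove := fun g => rfl
    have hM'' : IsRep M'' := by
      refine ⟨?_, fun g h => ?_⟩
      · rw [hB, hAone, Matrix.submatrix_one _ Fin.succAbove_right_injective]
      · refine Matrix.ext fun a b => ?_
        rw [hB, hB, hB, Matrix.submatrix_apply, hAmul, Matrix.mul_apply, Matrix.mul_apply,
          Fin.sum_univ_succAbove _ p, hcol g _ (Fin.succAbove_ne p a), zero_mul, _root_.zero_add]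
        rfl
    obtain ⟨m, hm⟩ := derived_trivial hG n M'' hM''
    have hχ : ∀ g h, A (g * h) p p = A g p p * A h p p := fun g h => by
      rw [hAmul, Matrix.mul_apply, Fintype.sum_eq_single p]
      intro l hl
      rw [hcol h l hl, mul_zero]
    have h1 : ∀ g ∈ derivedSeries (pt k k ⟶ G) (m + 1), A g p p = 1 := by
      intro g hg
      let χ : (pt k k ⟶ G) →* k :=
        { toFun := fun g => A g p p
          map_one' := by rw [hAone, Matrix.one_apply_eq]
          map_mul' := hχ }
      let χu := χ.toHomUnits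
      have : g ∈ χu.ker := by
        rw [derivedSeries_succ] at hg
        refine Subgroup.commutator_le.2 (fun a _ b _ => ?_) hg
        rw [MonoidHom.mem_ker, map_commutatorElement, commutatorElement_eq_one_iff_mul_comm, mul_comm]
      exact congrArg Units.val this
    refine ⟨m + 2, fun g hg => ?_⟩
    have hT : ∀ g ∈ derivedSeries (pt k k ⟶ G) (m + 1), ∀ i j, ¬ (i = p ∧ j ≠ p) →
        A g i j = (1 : Matrix (Fin (n + 1)) (Fin (n + 1)) k) i j := by
      intro g hg i j hij
      by_cases hi : i = p
      · subst hi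
        have hj : j = i := by by_contra hj; exact hij ⟨rfl, hj⟩
        subst hj
        rw [h1 g hg, Matrix.one_apply_eq]
      · by_cases hj : j = p
        · subst hj
          rw [hcol g i hi, Matrix.one_apply_ne hi]
        · obtain ⟨a, rfl⟩ := Fin.exists_succAbove_eq hi
          obtain ⟨b, rfl⟩ := Fin.exists_succAbove_eq hj
          have e := congrFun (congrFun (hm g (derivedSeries_antitone _ (Nat.le_succ m) hg)) a) b
          rw [hB, Matrix.submatrix_apply] at e
          rw [e]
          simp [Matrix.one_apply]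
    have hsq : ∀ g ∈ derivedSeries (pt k k ⟶ G) (m + 1), ∀ h ∈ derivedSeries (pt k k ⟶ G) (m + 1),
        (A g - 1) * (A h - 1) = 0 := by
      intro g hg h hh
      refine Matrix.ext fun i j => ?_
      rw [Matrix.mul_apply, Matrix.zero_apply]
      refine Finset.sum_eq_zero fun l _ => ?_
      by_cases hl : l = p
      · rw [Matrix.sub_apply, hT g hg i l (fun hc => hc.2 hl), sub_self, zero_mul]
      · rw [Matrix.sub_apply (A h), hT h hh l j (fun hc => hl hc.1), sub_self, mul_zero]
    have hcomm : ∀ g ∈ derivedSeries (pt k k ⟶ G) (m + 1), ∀ h ∈ derivedSeries (pt k k ⟶ G) (m + 1),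
        A g * A h = A h * A g := by
      intro g hg h hh
      have e1 := hsq g hg h hh
      have e2 := hsq h hh g hg
      have : A g * A h - A h * A g = (A g - 1) * (A h - 1) - (A h - 1) * (A g - 1) := by noncomm_ring
      rw [e1, e2, sub_zero] at this
      exact sub_eq_zero.1 this
    have key : ∀ g ∈ derivedSeries (pt k k ⟶ G) (m + 2), A g = 1 := by
      intro g hg
      let Au : (pt k k ⟶ G) →* Matrix (Fin (n + 1)) (Fin (n + 1)) k :=
        { toFun := A, map_one' := hAone, map_mul' := hAmul }
      have : g ∈ Au.toHomUnits.ker := by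
        rw [derivedSeries_succ] at hg
        refine Subgroup.commutator_le.2 (fun a ha b hb => ?_) hg
        rw [MonoidHom.mem_ker, map_commutatorElement, commutatorElement_eq_one_iff_mul_comm]
        exact Units.ext (hcomm a ha b hb)
      exact congrArg Units.val this
    have e := key g hg
    rw [hA] at e
    calc evM M g = (Q * Q') * evM M g * (Q * Q') := by rw [hQQ', _root_.mul_one, _root_.one_mul]
      _ = Q * (Q' * evM M g * Q) * Q' := by noncomm_ring
      _ = 1 := by rw [e, _root_.mul_one, hQQ']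

/-- A non-solvable group has a representation without stable lines. -/
theorem exists_rep_no_eigen (hns : ¬ IsSolvable (pt k k ⟶ G)) :
    ∃ (n : ℕ) (M : Matrix (Fin (n + 1)) (Fin (n + 1)) (Fn G)), IsRep M ∧
      ∀ w, w ≠ 0 → ∃ g, ∀ c : k, (evM M g).mulVec w ≠ c • w := by
  by_contra hne
  push Not at hne
  obtain ⟨d, M, hM, hf⟩ := exists_faithful (G := G)
  obtain ⟨m, hm⟩ := derived_trivial (fun n M hM => hne n M hM) d M hM
  exact hns ⟨⟨m, eq_bot_iff.2 fun g hg => Subgroup.mem_bot.2 (hf g (hm g hg))⟩⟩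

end GrothLib.Flag27
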