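import Groth.Agent.Lib.Flag27.Closed
import Groth.Agent.Lib.Flag27.RepExists
import Groth.Agent.Lib.Flag27.Solvable
import Groth.Agent.Lib.Induce27.Neutral
import Groth.Agent.Lib.GrpSchField.Shear
import Groth.Agent.Lib.Chow.Prod
import Groth.Agent.S14586
import Groth.Agent.S15608

/-!
# Existence of subgroups with proper quotients and solvable points
-/

set_option autoImplicit false
set_option backward.isDefEq.respectTransparency false

universe u

open CategoryTheory CategoryTheory.Limits MonoidalCategory CartesianMonoidalCategory MonObj GrpObj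
open AlgebraicGeometry TopologicalSpace

namespace GrothLib.Flag27

open GrothLib.Induce27

variable {k : Type u} [Field k] [IsAlgClosed k]

/-- A connected solvable subgroup with closed images. -/
def Good (G : Over (Spec (CommRingCat.of k))) [GrpObj G] : Prop :=
  ∃ (B : Over (Spec (CommRingCat.of k))) (_ : GrpObj B) (i : B ⟶ G), IsMonHom i ∧ IsClosedImmersion i.left ∧
    Smooth B.hom ∧ ConnectedSpace B.left ∧ IsSolvable (𝟙_ (Over (Spec (CommRingCat.of k))) ⟶ B) ∧ UC i

/-- Transport between the two models of rational points. -/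
noncomputable def ptHomEquiv (G : Over (Spec (CommRingCat.of k))) [GrpObj G] :
    (𝟙_ (Over (Spec (CommRingCat.of k))) ⟶ G) →* (VecGrp.pt k k ⟶ G) where
  toFun v := ptOne.hom ≫ v
  map_one' := MonObj.comp_one _
  map_mul' _ _ := MonObj.comp_mul _ _ _

theorem isSolvable_pt_iff (G : Over (Spec (CommRingCat.of k))) [GrpObj G] :
    IsSolvable (VecGrp.pt k k ⟶ G) ↔ IsSolvable (𝟙_ (Over (Spec (CommRingCat.of k))) ⟶ G) := by
  have hb : Function.Bijective (ptHomEquiv G) :=
    ⟨fun v w h => (cancel_epi ptOne.hom).1 h, fun v => ⟨ptOne.inv ≫ v, Iso.hom_inv_id_assoc ptOne v⟩⟩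
  constructor
  · intro h
    haveI : Group.IsSolvable (VecGrp.pt k k ⟶ G) := h
    exact solvable_of_solvable_injective (f := ptHomEquiv G) hb.1
  · intro h
    haveI : Group.IsSolvable (𝟙_ (Over (Spec (CommRingCat.of k))) ⟶ G) := h
    exact solvable_of_surjective (f := ptHomEquiv G) hb.2

/-- The quotient map of the saturation. -/
noncomputable def shiftMap {G P : Over (Spec (CommRingCat.of k))} [GrpObj G] (j : P ⟶ G)
    (T : Over (Spec (CommRingCat.of k))) : P ⊗ (G ⊗ T) ⟶ G ⊗ T :=
  lift ((snd P (G ⊗ T) ≫ fst G T) * (fst P (G ⊗ T) ≫ j)) (snd P (G ⊗ T) ≫ snd G T)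

set_option maxHeartbeats 1000000 in
theorem good_step {G : Over (Spec (CommRingCat.of k))} [GrpObj G] [IsAffine G.left] [Smooth G.hom]
    [ConnectedSpace G.left]
    (ih : ∀ (H : Over (Spec (CommRingCat.of k))) [GrpObj H] (j : H ⟶ G) [IsMonHom j] [IsClosedImmersion j.left]
      [Smooth H.hom] [ConnectedSpace H.left], Set.range j.left.base ≠ Set.univ → Good H) : Good G := by
  classical
  by_cases hs : IsSolvable (𝟙_ (Over (Spec (CommRingCat.of k))) ⟶ G)
  · exact ⟨G, inferInstance, 𝟙 G, inferInstance, inferInstanceAs (IsClosedImmersion (𝟙 G.left)), inferInstance,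
      inferInstance, hs, uc_id⟩
  obtain ⟨n, M, hM, hno⟩ := exists_rep_no_eigen (G := G) (fun h => hs ((isSolvable_pt_iff G).1 h))
  obtain ⟨a, ha⟩ := exists_action hM
  haveI : IsProper (PO k n).hom := GrothLib.Chow.isProper_toSpec n k
  haveI : Nonempty (PO k n).left := ⟨(line (Pi.single 0 1) (by simp)).left.base (IsLocalRing.closedPoint k)⟩
  obtain ⟨x, hxc⟩ := Groth.Agent.S14586.result k G (PO k n) a
  haveI := GrothLib.Rigidity.irreducibleSpace_of_connected G
  haveI : IsReduced G.left := GrothLib.RedSmooth.isReduced_of_smooth G.hom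
  haveI : IsIntegral G.left := isIntegral_of_irreducibleSpace_of_isReduced _
  haveI : CompactSpace G.left := inferInstance
  -- the orbit
  obtain ⟨O, z, π, _, _, hzr, hπ, hπf, hπs, _⟩ := GrothLib.Kleiman27.exists_orbit a x
  haveI : IsClosedImmersion z := IsClosedImmersion.of_isPreimmersion z (hzr ▸ hxc)
  let O' : Over (Spec (CommRingCat.of k)) := Over.mk (z ≫ (PO k n).hom)
  haveI : IsProper O'.hom := inferInstanceAs (IsProper (z ≫ (PO k n).hom))
  let q : G ⟶ O' := Over.homMk π (by show π ≫ z ≫ (PO k n).hom = G.hom; rw [reassoc_of% hπ, Over.w])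
  have hq : ∀ (g g' : 𝟙_ (Over (Spec (CommRingCat.of k))) ⟶ G), g ≫ q = g' ≫ q →
      g ≫ a.orbitMap x = g' ≫ a.orbitMap x := fun g g' h => by
    let z' : O' ⟶ PO k n := Over.homMk z rfl
    have hz' : q ≫ z' = a.orbitMap x := Over.OverMorphism.ext hπ
    rw [← hz', ← Category.assoc, h, Category.assoc]
  -- the stabiliser
  have hstab : ∀ g : 𝟙_ (Over (Spec (CommRingCat.of k))) ⟶ G, g ≫ a.orbitMap x = lift g x ≫ a.act :=
    fun g => by rw [GrothLib.FlatFactor.comp_orbitMap, toUnit_unique (toUnit _) (𝟙 _), Category.id_comp]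
  let S : Subgroup (𝟙_ (Over (Spec (CommRingCat.of k))) ⟶ G) :=
    { carrier := {g | g ≫ a.orbitMap x = x}
      one_mem' := by
        show _ ≫ _ = x
        rw [hstab, GrothLib.DiagGrp.act_one]
      mul_mem' := fun {g₁ g₂} h₁ h₂ => by
        show _ ≫ _ = x
        rw [hstab, GrothLib.DiagGrp.act_mul, ← hstab g₂, h₂, ← hstab, h₁]
      inv_mem' := fun {g} hg => by
        show _ ≫ _ = x
        conv_lhs => rw [hstab, ← hg, hstab g]
        rw [← GrothLib.DiagGrp.act_mul, inv_mul_cancel, GrothLib.DiagGrp.act_one] }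
  obtain ⟨P, _, iP, hiPm, hiP, hPsm, hPr⟩ := Groth.Agent.S15608.result k G S
  haveI := hiPm; haveI := hiP; haveI := hPsm
  obtain ⟨P₀, _, jP, hjPm, hjPo, hP₀c, -⟩ := GrothLib.Induce27.exists_neutral P
  haveI := hjPm; haveI := hjPo; haveI := hP₀c
  haveI : IsClosedImmersion jP.left := GrothLib.Induce27.isClosedImmersion_of_open jP
  let j : P₀ ⟶ G := jP ≫ iP
  haveI : IsClosedImmersion j.left := inferInstanceAs (IsClosedImmersion (jP.left ≫ iP.left))
  haveI : Smooth P₀.hom := by rw [← Over.w jP]; infer_instance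
  haveI : IsAffine P₀.left := isAffine_of_isAffineHom j.left
  have hPS : ∀ p : 𝟙_ (Over (Spec (CommRingCat.of k))) ⟶ P, p ≫ iP ∈ S := by
    intro p
    show (p ≫ iP) ≫ a.orbitMap x = x
    refine eq_of_cl ?_
    rw [cl_comp]
    refine closure_minimal (t := (a.orbitMap x).left.base ⁻¹' {cl x}) ?_
      ((isClosed_cl x).preimage (a.orbitMap x).left.continuous) (hPr.le ⟨cl p, (cl_comp p iP).symm⟩)
    rintro _ ⟨s, hs, rfl⟩
    show (a.orbitMap x).left.base (cl s) = cl x
    rw [← cl_comp, show s ≫ a.orbitMap x = x from hs]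
  have hSP : ∀ g ∈ S, ∃ p : 𝟙_ (Over (Spec (CommRingCat.of k))) ⟶ P, p ≫ iP = g := by
    intro g hg
    obtain ⟨y, hy, hyg⟩ := exists_cl_lift iP (E := Set.univ) isClosed_univ.isLocallyClosed (w := g)
      (by rw [Set.image_univ]; exact hPr.ge (subset_closure ⟨g, hg, rfl⟩))
    exact ⟨y, hyg⟩
  have hne : Set.range j.left.base ≠ Set.univ := by
    intro hu
    have hall : ∀ g : 𝟙_ (Over (Spec (CommRingCat.of k))) ⟶ G, g ∈ S := fun g => by
      obtain ⟨p, -, hp⟩ := exists_cl_lift j (E := Set.univ) isClosed_univ.isLocallyClosed (w := g)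
        (by rw [Set.image_univ, hu]; trivial)
      rw [← hp]
      show (p ≫ jP ≫ iP) ∈ S
      rw [← Category.assoc]
      exact hPS _
    obtain ⟨w, hw, hxw⟩ := exists_line (ptOne.hom ≫ x)
    obtain ⟨g, hg⟩ := hno w hw
    have h1 : (ptOne.inv ≫ g) ≫ a.orbitMap x = x := hall (ptOne.inv ≫ g)
    rw [hstab] at h1
    have h2 := congrArg (ptOne.hom ≫ ·) h1
    simp only [← Category.assoc, comp_lift, Iso.hom_inv_id, Category.id_comp] at h2
    rw [hxw, ha g w hw] at h2
    obtain ⟨r, hr⟩ := (line_eq_iff hw _).1 h2.symm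
    exact hg r hr
  obtain ⟨B, _, i, hi, hic, hBsm, hBc, hBs, hU⟩ := ih P₀ j hne
  haveI := hi; haveI := hic; haveI := hBsm; haveI := hBc
  refine ⟨B, inferInstance, i ≫ j, inferInstance, inferInstanceAs (IsClosedImmersion (i.left ≫ j.left)),
    inferInstance, inferInstance, hBs, fun T hT hTc C hC hst => ?_⟩
  haveI := hT; haveI := hTc
  haveI : QuasiCompact G.hom := inferInstance
  haveI : LocallyOfFiniteType (G ⊗ T).hom := by
    show LocallyOfFiniteType (pullback.fst G.hom T.hom ≫ G.hom)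
    infer_instance
  have hGT : QuasiCompact (G ⊗ T).hom := by
    show QuasiCompact (pullback.fst G.hom T.hom ≫ G.hom)
    infer_instance
  haveI : LocallyOfFiniteType (P₀ ⊗ (G ⊗ T)).hom := by
    show LocallyOfFiniteType (pullback.fst P₀.hom (G ⊗ T).hom ≫ P₀.hom)
    infer_instance
  let φ := shiftMap j T
  have hφ : ∀ (p : 𝟙_ (Over (Spec (CommRingCat.of k))) ⟶ P₀) (g : 𝟙_ (Over (Spec (CommRingCat.of k))) ⟶ G)
      (t : 𝟙_ (Over (Spec (CommRingCat.of k))) ⟶ T), lift p (lift g t) ≫ φ = lift (g * (p ≫ j)) t := by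
    intro p g t
    simp only [φ, shiftMap, comp_lift, MonObj.comp_mul, lift_fst_assoc, lift_snd_assoc, lift_fst, lift_snd]
  let D : Set (P₀ ⊗ (G ⊗ T)).left := φ.left.base ⁻¹' C
  let E : Set (G ⊗ T).left := (snd P₀ (G ⊗ T)).left.base '' D
  have hE : IsClosed E := hU (G ⊗ T) inferInstance hGT D (hC.preimage φ.left.continuous) fun b p w hb => by
    obtain ⟨g, t, rfl⟩ : ∃ g t, w = lift g t :=
      ⟨w ≫ fst G T, w ≫ snd G T, by rw [← comp_lift, lift_fst_snd, Category.comp_id]⟩
    simp only [D, Set.mem_preimage, ← cl_comp, hφ] at hb ⊢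
    have := hst b _ _ hb
    rw [MonObj.mul_comp _ _ j, ← _root_.mul_assoc, Category.assoc]
    exact this
  have hEmem : ∀ (g : 𝟙_ (Over (Spec (CommRingCat.of k))) ⟶ G) (t : 𝟙_ (Over (Spec (CommRingCat.of k))) ⟶ T),
      cl (lift g t) ∈ E ↔ ∃ p : 𝟙_ (Over (Spec (CommRingCat.of k))) ⟶ P₀, cl (lift (g * (p ≫ j)) t) ∈ C := by
    intro g t
    constructor
    · intro h
      obtain ⟨v, hv, hve⟩ := exists_cl_lift (snd P₀ (G ⊗ T))
        (hC.preimage φ.left.continuous).isLocallyClosed h
      refine ⟨v ≫ fst P₀ (G ⊗ T), ?_⟩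
      have e : v = lift (v ≫ fst P₀ (G ⊗ T)) (lift g t) := by
        rw [← hve, ← comp_lift, lift_fst_snd, Category.comp_id]
      rw [← hφ, ← e, cl_comp]
      exact hv
    · rintro ⟨p, hp⟩
      refine ⟨cl (lift p (lift g t)), ?_, by rw [← cl_comp, lift_snd]⟩
      show φ.left.base _ ∈ C
      rw [← cl_comp, hφ]
      exact hp
  -- finitely many cosets
  haveI : QuasiCompact P.hom := by rw [← Over.w iP]; infer_instance
  haveI : CompactSpace P.left := QuasiCompact.compactSpace_of_compactSpace P.hom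
  haveI : LocallyOfFiniteType P.hom := inferInstance
  let rt : (𝟙_ (Over (Spec (CommRingCat.of k))) ⟶ P) → (P ⟶ P) := fun r => (toUnit P ≫ r) * 𝟙 P
  have hrt : ∀ (r p : 𝟙_ (Over (Spec (CommRingCat.of k))) ⟶ P), p ≫ rt r = r * p := fun r p => by
    simp only [rt, MonObj.comp_mul, Category.comp_id]
    rw [← Category.assoc, toUnit_unique (p ≫ toUnit P) (𝟙 _), Category.id_comp]
  let V : (𝟙_ (Over (Spec (CommRingCat.of k))) ⟶ P) → Set P.left := fun r => (rt r).left.base ⁻¹' Set.range jP.left.base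
  have hV : ∀ r, IsOpen (V r) := fun r => jP.left.isOpenEmbedding.isOpen_range.preimage (rt r).left.continuous
  have hVc : (⋃ r, V r) = Set.univ := by
    rw [← Set.compl_empty_iff, ← Set.subset_empty_iff]
    refine subset_of_cl (isOpen_iUnion hV).isClosed_compl isClosed_empty fun p hp => absurd ?_ hp
    refine Set.mem_iUnion.2 ⟨p⁻¹, ?_⟩
    show (rt p⁻¹).left.base (cl p) ∈ Set.range jP.left.base
    rw [← cl_comp, hrt, inv_mul_cancel]
    refine ⟨cl (1 : 𝟙_ (Over (Spec (CommRingCat.of k))) ⟶ P₀), ?_⟩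
    rw [← cl_comp, MonObj.one_comp jP]
  obtain ⟨s, hs'⟩ := isCompact_univ.elim_finite_subcover V hV hVc.ge
  let τ : (𝟙_ (Over (Spec (CommRingCat.of k))) ⟶ P) → (G ⊗ T ⟶ G ⊗ T) := fun r =>
    lift (fst G T * (toUnit _ ≫ r⁻¹ ≫ iP)) (snd G T)
  have hτ : ∀ r (g : 𝟙_ (Over (Spec (CommRingCat.of k))) ⟶ G) (t : 𝟙_ (Over (Spec (CommRingCat.of k))) ⟶ T),
      lift g t ≫ τ r = lift (g * (r⁻¹ ≫ iP)) t := by
    intro r g t
    simp only [τ, comp_lift, MonObj.comp_mul, lift_fst, lift_snd]
    rw [← Category.assoc, toUnit_unique (lift g t ≫ toUnit _) (𝟙 _), Category.id_comp]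
  let E' : Set (G ⊗ T).left := ⋃ r ∈ s, (τ r).left.base ⁻¹' E
  have hE' : IsClosed E' := s.finite_toSet.isClosed_biUnion fun r _ => hE.preimage (τ r).left.continuous
  have hE'mem : ∀ (g : 𝟙_ (Over (Spec (CommRingCat.of k))) ⟶ G) (t : 𝟙_ (Over (Spec (CommRingCat.of k))) ⟶ T),
      cl (lift g t) ∈ E' ↔ ∃ p : 𝟙_ (Over (Spec (CommRingCat.of k))) ⟶ P, cl (lift (g * (p ≫ iP)) t) ∈ C := by
    intro g t
    simp only [E', Set.mem_iUnion₂, Set.mem_preimage, ← cl_comp, hτ, hEmem]
    constructor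
    · rintro ⟨r, -, p, hp⟩
      refine ⟨r⁻¹ * (p ≫ jP), ?_⟩
      rw [MonObj.mul_comp _ _ iP, ← _root_.mul_assoc, Category.assoc]
      exact hp
    · rintro ⟨p, hp⟩
      obtain ⟨r, hr, hm⟩ := Set.mem_iUnion₂.1 (hs' (Set.mem_univ (cl p)))
      -- `r * p` is in the neutral part
      have h2 : cl (p ≫ rt r) ∈ jP.left.base '' Set.univ := by rw [cl_comp, Set.image_univ]; exact hm
      rw [hrt] at h2
      obtain ⟨c, -, hc⟩ := exists_cl_lift jP isClosed_univ.isLocallyClosed h2
      refine ⟨r, hr, c, ?_⟩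
      have e : p = r⁻¹ * (c ≫ jP) := by rw [hc, inv_mul_cancel_left]
      rw [e, MonObj.mul_comp _ _ iP, ← _root_.mul_assoc, Category.assoc] at hp
      exact hp
  let qT : G ⊗ T ⟶ O' ⊗ T := q ▷ T
  haveI : LocallyOfFiniteType (O' ⊗ T).hom := by
    show LocallyOfFiniteType (pullback.fst O'.hom T.hom ≫ O'.hom)
    infer_instance
  have hW : IsClosed (qT.left.base '' E') := by
    haveI : LocallyOfFinitePresentation π := by
      haveI : LocallyOfFiniteType (π ≫ O'.hom) := by
        show LocallyOfFiniteType (π ≫ z ≫ (PO k n).hom)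
        rw [reassoc_of% hπ, Over.w]; infer_instance
      haveI := locallyOfFiniteType_of_comp π O'.hom
      haveI : IsLocallyNoetherian O := LocallyOfFiniteType.isLocallyNoetherian O'.hom
      infer_instance
    haveI : UniversallyOpen q.left := inferInstanceAs (UniversallyOpen π)
    haveI : Surjective q.left := inferInstanceAs (Surjective π)
    have ho : UniversallyOpen qT.left := GrothLib.GrpSchField.whiskerRight_property @UniversallyOpen q T inferInstance
    have hsj : Surjective qT.left := GrothLib.GrpSchField.whiskerRight_property @Surjective q T inferInstance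
    refine isClosed_image qT qT.left.isOpenMap hsj.surj hE' fun w w' hww hw => ?_
    obtain ⟨g, t, rfl⟩ : ∃ g t, w = lift g t :=
      ⟨w ≫ fst G T, w ≫ snd G T, by rw [← comp_lift, lift_fst_snd, Category.comp_id]⟩
    obtain ⟨g', t', rfl⟩ : ∃ g t, w' = lift g t :=
      ⟨w' ≫ fst G T, w' ≫ snd G T, by rw [← comp_lift, lift_fst_snd, Category.comp_id]⟩
    simp only [qT, lift_whiskerRight] at hww
    have e1 : g ≫ q = g' ≫ q := by simpa using congrArg (· ≫ fst O' T) hww
    have e2 : t = t' := by simpa using congrArg (· ≫ snd O' T) hww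
    subst e2
    have hS : g⁻¹ * g' ∈ S := by
      show _ ≫ _ = x
      rw [hstab, GrothLib.DiagGrp.act_mul, ← hstab g', ← hq g g' e1, hstab g, ← GrothLib.DiagGrp.act_mul,
        inv_mul_cancel, GrothLib.DiagGrp.act_one]
    obtain ⟨c, hc⟩ := hSP _ hS
    obtain ⟨p, hp⟩ := (hE'mem g t).1 hw
    refine (hE'mem g' t).2 ⟨c⁻¹ * p, ?_⟩
    rw [MonObj.mul_comp _ _ iP, GrpObj.inv_comp, hc, _root_.mul_inv_rev, _root_.inv_inv, ← _root_.mul_assoc,
      mul_inv_cancel_left]
    exact hp
  haveI : UniversallyClosed (snd O' T).left := inferInstanceAs (UniversallyClosed (pullback.snd O'.hom T.hom))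
  have hY := (snd O' T).left.isClosedMap _ hW
  have e : (snd O' T).left.base '' (qT.left.base '' E') = (snd G T).left.base '' C := by
    have hcomp : ∀ w, (snd O' T).left.base (qT.left.base w) = (snd G T).left.base w := fun w => by
      show (snd O' T).left (qT.left w) = _
      rw [← Scheme.Hom.comp_apply, ← Over.comp_left, whiskerRight_snd]
    refine Set.Subset.antisymm ?_ ?_
    · rintro _ ⟨_, ⟨w, hw, rfl⟩, rfl⟩
      rw [hcomp]
      obtain ⟨r, -, hwr⟩ := Set.mem_iUnion₂.1 hw
      obtain ⟨d, hd, hde⟩ := hwr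
      refine ⟨φ.left.base d, hd, ?_⟩
      have e1 : φ ≫ snd G T = snd P₀ (G ⊗ T) ≫ snd G T := lift_snd _ _
      have e2 : τ r ≫ snd G T = snd G T := lift_snd _ _
      show (snd G T).left (φ.left d) = _
      rw [← Scheme.Hom.comp_apply, ← Over.comp_left, e1, Over.comp_left, Scheme.Hom.comp_apply, hde]
      show (snd G T).left ((τ r).left w) = _
      rw [← Scheme.Hom.comp_apply, ← Over.comp_left, e2]
    · have hCE : C ⊆ E' := subset_of_cl hC hE' fun w hw => by
        obtain ⟨g, t, rfl⟩ : ∃ g t, w = lift g t :=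
          ⟨w ≫ fst G T, w ≫ snd G T, by rw [← comp_lift, lift_fst_snd, Category.comp_id]⟩
        exact (hE'mem g t).2 ⟨1, by rwa [MonObj.one_comp iP, _root_.mul_one]⟩
      rintro _ ⟨w, hw, rfl⟩
      exact ⟨_, ⟨w, hCE hw, rfl⟩, hcomp w⟩
  rw [e] at hY
  exact hY

/-- Every connected affine group has such a subgroup. -/
theorem exists_good (G : Over (Spec (CommRingCat.of k))) [GrpObj G] [IsAffine G.left] [Smooth G.hom]
    [ConnectedSpace G.left] : Good G := by
  haveI : AlgebraicGeometry.IsNoetherian G.left := by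
    haveI := LocallyOfFiniteType.isLocallyNoetherian G.hom
    exact {}
  suffices h : ∀ (S : Closeds G.left) (H : Over (Spec (CommRingCat.of k))) [GrpObj H] (j : H ⟶ G) [IsMonHom j]
      [IsClosedImmersion j.left] [Smooth H.hom] [ConnectedSpace H.left], Set.range j.left.base = S → Good H by
    haveI : IsClosedImmersion (𝟙 G : G ⟶ G).left := inferInstanceAs (IsClosedImmersion (𝟙 G.left))
    exact h ⊤ G (𝟙 G) (by rw [Over.id_left]; simp)
  intro S
  refine WellFoundedLT.induction (motive := fun S : Closeds G.left => ∀ (H : Over (Spec (CommRingCat.of k))) [GrpObj H]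
    (j : H ⟶ G) [IsMonHom j] [IsClosedImmersion j.left] [Smooth H.hom] [ConnectedSpace H.left],
      Set.range j.left.base = S → Good H) S fun S ihS => ?_
  · intro H _ j _ _ _ _ hj
    haveI : IsAffine H.left := isAffine_of_isAffineHom j.left
    refine good_step fun K _ jK _ _ _ _ hne => ?_
    haveI : IsClosedImmersion (jK ≫ j).left := inferInstanceAs (IsClosedImmersion (jK.left ≫ j.left))
    refine ihS ⟨Set.range (jK ≫ j).left.base, (jK ≫ j).left.isClosedEmbedding.isClosed_range⟩ ?_ K (jK ≫ j) rfl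
    rw [← SetLike.coe_ssubset_coe]
    show Set.range (jK ≫ j).left.base ⊂ (S : Set G.left)
    rw [← hj]
    have e : Set.range (jK ≫ j).left.base = j.left.base '' Set.range jK.left.base := by
      rw [← Set.range_comp]; rfl
    rw [e, ← Set.image_univ (f := j.left.base)]
    exact j.left.isClosedEmbedding.injective.image_strictMono (Set.ssubset_univ_iff.2 hne)

end GrothLib.Flag27
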