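import Groth.Agent.Lib.Flag27.ReductiveCone
import Groth.Agent.Lib.Flag27.RegularPt
import Groth.Agent.Lib.Flag27.Cartan
import Groth.Agent.Lib.Flag27.CentMax
import Groth.Agent.Lib.Flag27.MaxToriConj

/-!
# Fixed lines of a maximal torus in the orbit of a line fixed by a Borel subgroup
-/

set_option autoImplicit false
set_option linter.all false
set_option backward.isDefEq.respectTransparency false

universe u

open CategoryTheory MonoidalCategory CartesianMonoidalCategory MonObj GrpObj AlgebraicGeometry VecGrp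
open scoped TensorProduct

noncomputable section

namespace GrothLib.Flag27

open GrothLib.Repr GrothLib.Induce27 Groth.Agent.S11191

variable {k : Type u} [Field k] [IsAlgClosed k]

omit [IsAlgClosed k] in
theorem toUnit_ptOne_inv_comp {G : Over (Spec (CommRingCat.of k))} (m : pt k k ⟶ G) :
    toUnit (pt k k) ≫ ptOne.inv ≫ m = m := by
  rw [show toUnit (pt k k) = ptOne.hom from toUnit_unique _ _, Iso.hom_inv_id_assoc]

variable {G T B : Over (Spec (CommRingCat.of k))} [GrpObj G] [GrpObj T] [GrpObj B] [IsAffine G.left] [Smooth G.hom]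
  [ConnectedSpace G.left]

/-- A point commuting with a regular torsion point lifts to the centralizer and fixes the line. -/
theorem exists_fix_of_commute {iT : T ⟶ G} (hT : AGF.IsMaxTorus iT) {iB : B ⟶ G} (hB : Red.IsBorelOver k iB)
    (tB : T ⟶ B) (htB : tB ≫ iB = iT) {n : ℕ} (M : Matrix (Fin n) (Fin n) (Fn G)) (v₀ : Fin n → k)
    (hfix : ∀ b : pt k k ⟶ B, ∃ c : k, (evM M (b ≫ iB)).mulVec v₀ = c • v₀) (c : pt k k ⟶ G)
    (hc : ∀ (X' : Over (Spec (CommRingCat.of k))) (x : X' ⟶ 𝟙_ _) (h : X' ⟶ T),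
      (x ≫ ptOne.inv ≫ c) * (h ≫ iT) = (h ≫ iT) * (x ≫ ptOne.inv ≫ c)) :
    ∃ d : k, (evM M c).mulVec v₀ = d • v₀ := by
  haveI := hT.1; haveI := hT.2.1
  obtain ⟨C, _, i, hi, -, -⟩ := GrothLib.MultDef14.exists_centralizer
    (GrothLib.DiagGrp.hasChartsFpqc_of_isTorus hT.2.2.1) (inferInstance : Smooth G.hom) (isAffineHom_of_isAffine _) iT
  obtain ⟨z, hz⟩ := (hi.2.2 _ (ptOne.inv ≫ c)).2 hc
  obtain ⟨f, hf⟩ := exists_factor_centralizer hT hi hB tB htB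
  obtain ⟨d, hd⟩ := hfix (ptOne.hom ≫ z ≫ f)
  refine ⟨d, ?_⟩
  rw [Category.assoc, Category.assoc, hf, hz, Iso.hom_inv_id_assoc] at hd
  exact hd

set_option synthInstance.maxHeartbeats 400000 in
set_option maxHeartbeats 800000 in
/-- The torus-fixed lines of the orbit come from finitely many points normalising the torus. -/
theorem exists_finite_eigen {iT : T ⟶ G} (hT : AGF.IsMaxTorus iT) {iB : B ⟶ G} (hB : Red.IsBorelOver k iB)
    (tB : T ⟶ B) (htB : tB ≫ iB = iT) {n : ℕ} {M : Matrix (Fin n) (Fin n) (Fn G)} (hM : IsRep M)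
    {v₀ : Fin n → k} (hv₀ : v₀ ≠ 0)
    (hfix : ∀ b : pt k k ⟶ B, ∃ c : k, (evM M (b ≫ iB)).mulVec v₀ = c • v₀) :
    ∃ L : Set (pt k k ⟶ G), L.Finite ∧
      (∀ m ∈ L, (∀ t : pt k k ⟶ T, ∃ t', m * (t ≫ iT) * m⁻¹ = t' ≫ iT) ∧
        (∀ t : pt k k ⟶ T, ∃ t', m⁻¹ * (t ≫ iT) * m = t' ≫ iT)) ∧
      ∀ g : pt k k ⟶ G, (∀ t : pt k k ⟶ T, ∃ c : k,
          (evM M (t ≫ iT)).mulVec ((evM M g).mulVec v₀) = c • (evM M g).mulVec v₀) →
        ∃ m ∈ L, ∃ c : k, (evM M g).mulVec v₀ = c • (evM M m).mulVec v₀ := by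
  classical
  obtain ⟨hTm, hTmono, hTt, -⟩ := id hT
  haveI := hTm; haveI := hTmono
  obtain ⟨hTc, hTa, hTs, hTconn⟩ := torus_facts hTt iT
  haveI := hTc; haveI := hTa; haveI := hTs; haveI := hTconn
  haveI : IsReduced T.left := GrothLib.RedSmooth.isReduced_of_smooth T.hom
  obtain ⟨p₀, hp₀⟩ : ∃ p, v₀ p ≠ 0 := Function.ne_iff.1 hv₀
  -- the stabilizer of the line
  let St : Subgroup (𝟙_ (Over (Spec (CommRingCat.of k))) ⟶ G) :=
    { carrier := {g | ∃ d : k, (evM M (ptOne.hom ≫ g)).mulVec v₀ = d • v₀}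
      one_mem' := ⟨1, by rw [MonObj.comp_one, hM.one, Matrix.one_mulVec, one_smul]⟩
      mul_mem' := fun {a b} ⟨d, hd⟩ ⟨e, he⟩ => ⟨e * d, by
        rw [MonObj.comp_mul, hM.mul, ← Matrix.mulVec_mulVec, he, Matrix.mulVec_smul, hd, smul_smul]⟩
      inv_mem' := fun {a} ⟨d, hd⟩ => ⟨d⁻¹, by
        have hd0 : d ≠ 0 := fun h0 => hM.mulVec_ne_zero (ptOne.hom ≫ a) hv₀ (by rw [hd, h0, zero_smul])
        rw [GrpObj.comp_inv]
        have e := congrArg (evM M (ptOne.hom ≫ a)⁻¹).mulVec hd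
        rw [Matrix.mulVec_mulVec, hM.inv_mul, Matrix.one_mulVec, Matrix.mulVec_smul] at e
        conv_rhs => rw [e, smul_smul, inv_mul_cancel₀ hd0, one_smul]⟩ }
  obtain ⟨H, _, iH, hiH, hiHc, hHs, hHr⟩ := Groth.Agent.S15608.result k G St
  haveI := hiH; haveI := hiHc; haveI := hHs
  haveI : Mono iH := Over.mono_of_mono_left iH
  haveI : IsAffine H.left := isAffine_of_isAffineHom iH.left
  let F : Fin n → Fn G := fun a => algebraMap k _ (v₀ p₀) * (∑ j, M a j * algebraMap k _ (v₀ j)) -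
    algebraMap k _ (v₀ a) * (∑ j, M p₀ j * algebraMap k _ (v₀ j))
  have hF : ∀ (g : 𝟙_ (Over (Spec (CommRingCat.of k))) ⟶ G),
      g ∈ St ↔ ∀ a, cl g ∉ G.left.basicOpen (show Γ(G.left, ⊤) from F a) := by
    intro g
    have hv : ∀ a, valAt (ptOne.hom ≫ g) (∑ j, M a j * algebraMap k _ (v₀ j)) =
        (evM M (ptOne.hom ≫ g)).mulVec v₀ a := fun a => by
      rw [map_sum, Matrix.mulVec, dotProduct]
      exact Finset.sum_congr rfl fun j _ => by rw [map_mul, AlgHom.commutes]; rfl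
    have hFa : ∀ a, valAt (ptOne.hom ≫ g) (F a) = v₀ p₀ * (evM M (ptOne.hom ≫ g)).mulVec v₀ a -
        v₀ a * (evM M (ptOne.hom ≫ g)).mulVec v₀ p₀ := fun a => by
      rw [map_sub, map_mul, map_mul, AlgHom.commutes, AlgHom.commutes, hv, hv]; rfl
    constructor
    · rintro ⟨d, hd⟩ a
      rw [cl_mem_basicOpen (F a), not_not, hFa, hd, Pi.smul_apply, Pi.smul_apply, smul_eq_mul, smul_eq_mul]
      ring
    · intro h
      refine ⟨(evM M (ptOne.hom ≫ g)).mulVec v₀ p₀ / v₀ p₀, funext fun a => ?_⟩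
      have e := h a
      rw [cl_mem_basicOpen (F a), not_not, hFa, sub_eq_zero] at e
      rw [Pi.smul_apply, smul_eq_mul, div_mul_eq_mul_div, eq_div_iff hp₀, mul_comm _ (v₀ p₀), e, mul_comm]
  have hHS : ∀ p : 𝟙_ (Over (Spec (CommRingCat.of k))) ⟶ H, p ≫ iH ∈ St := by
    intro p
    refine (hF _).2 fun a => ?_
    have h := closure_minimal (t := (G.left.basicOpen (show Γ(G.left, ⊤) from F a) : Set G.left)ᶜ) ?_
      (G.left.basicOpen _).2.isClosed_compl (hHr.le ⟨cl p, (cl_comp p iH).symm⟩)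
    · exact h
    · rintro _ ⟨s, hs, rfl⟩
      exact (hF s).1 hs a
  have hSH : ∀ g ∈ St, ∃ p : 𝟙_ (Over (Spec (CommRingCat.of k))) ⟶ H, p ≫ iH = g := fun g hg => by
    obtain ⟨y, hy, hyg⟩ := exists_cl_lift iH (E := Set.univ) isClosed_univ.isLocallyClosed (w := g)
      (by rw [Set.image_univ]; exact hHr.ge (subset_closure ⟨g, hg, rfl⟩))
    exact ⟨y, hyg⟩
  obtain ⟨tH, htH⟩ := exists_lift_of_pts iT iH fun v => by
    obtain ⟨d, hd⟩ := hfix (ptOne.hom ≫ v ≫ tB)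
    exact hSH _ ⟨d, by rw [Category.assoc, Category.assoc, htB] at hd; exact hd⟩
  have hmax : ∀ {j : T ⟶ H} [IsMonHom j] [Mono j], AGF.IsMaxTorus (j ≫ iH) → AGF.IsMaxTorus j :=
    fun {j} _ _ hj => ⟨inferInstance, inferInstance, hTt, fun R _ i _ _ f hR hf =>
      hj.2.2.2 R (i ≫ iH) f hR (by rw [reassoc_of% hf])⟩
  haveI : IsMonHom (tH ≫ iH) := by rw [htH]; infer_instance
  haveI : IsMonHom tH := GrothLib.CentMT14.isMonHom_of_comp tH iH
  haveI : Mono (tH ≫ iH) := by rw [htH]; infer_instance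
  haveI : Mono tH := mono_of_mono tH iH
  have hT₁ : AGF.IsMaxTorus tH := hmax (by rw [htH]; exact hT)
  -- a regular torsion point
  obtain ⟨ℓ, hℓ, hℓk⟩ := exists_prime_invertible (k := k)
  obtain ⟨N, s, hsN, hreg⟩ := exists_regular_pt iT hTt hℓ.one_lt hℓk
  let s₁ : pt k k ⟶ T := ptOne.hom ≫ s
  let W : Set (pt k k ⟶ T) := {s' | s' ^ ℓ ^ N = 1 ∧ ∃ m : pt k k ⟶ G,
    (∀ t : pt k k ⟶ T, ∃ t', m * (t ≫ iT) * m⁻¹ = t' ≫ iT) ∧
    (∀ t : pt k k ⟶ T, ∃ t', m⁻¹ * (t ≫ iT) * m = t' ≫ iT) ∧ m * (s₁ ≫ iT) * m⁻¹ = s' ≫ iT}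
  have hW : W.Finite := by
    refine ((finite_torsion_pts iT hTt (n := ℓ ^ N) (Nat.pow_pos hℓ.pos)).image fun t => ptOne.hom ≫ t).subset fun t ht => ?_
    exact ⟨ptOne.inv ≫ t, by
      show (ptOne.inv ≫ t) ^ ℓ ^ N = 1
      rw [← MonObj.comp_pow, ht.1, MonObj.comp_one], Iso.hom_inv_id_assoc _ t⟩
  let rep : W → (pt k k ⟶ G) := fun s' => s'.2.2.choose
  have hrep : ∀ s' : W, (∀ t : pt k k ⟶ T, ∃ t', rep s' * (t ≫ iT) * (rep s')⁻¹ = t' ≫ iT) ∧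
      (∀ t : pt k k ⟶ T, ∃ t', (rep s')⁻¹ * (t ≫ iT) * rep s' = t' ≫ iT) ∧
      rep s' * (s₁ ≫ iT) * (rep s')⁻¹ = s'.1 ≫ iT := fun s' => s'.2.2.choose_spec
  haveI := hW.to_subtype
  refine ⟨Set.range rep, Set.finite_range rep, ?_, fun g hg => ?_⟩
  · rintro _ ⟨s', rfl⟩
    exact ⟨(hrep s').1, (hrep s').2.1⟩
  let g' : 𝟙_ (Over (Spec (CommRingCat.of k))) ⟶ G := ptOne.inv ≫ g
  haveI : IsMonHom (AGF.conjBy g'⁻¹ iT) := isMonHom_conjBy g'⁻¹ iT
  obtain ⟨t', ht'⟩ := exists_lift_of_pts (AGF.conjBy g'⁻¹ iT) iH fun v => hSH _ (by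
    obtain ⟨d, hd⟩ := hg (ptOne.hom ≫ v)
    refine ⟨d, ?_⟩
    rw [← Category.assoc, comp_conjBy]
    rw [GrpObj.comp_inv, toUnit_ptOne_inv_comp g, _root_.inv_inv, hM.mul, hM.mul, ← Matrix.mulVec_mulVec,
      ← Matrix.mulVec_mulVec, hd, Matrix.mulVec_smul, Matrix.mulVec_mulVec, hM.inv_mul, Matrix.one_mulVec])
  have hT₂ : AGF.IsMaxTorus t' := by
    haveI : IsClosedImmersion (AGF.conjBy g'⁻¹ iT).left := isClosedImmersion_conjBy _ _
    haveI : Mono (AGF.conjBy g'⁻¹ iT) := Over.mono_of_mono_left _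
    haveI : IsMonHom (t' ≫ iH) := by rw [ht']; infer_instance
    haveI : IsMonHom t' := GrothLib.CentMT14.isMonHom_of_comp t' iH
    haveI : Mono (t' ≫ iH) := by rw [ht']; infer_instance
    haveI : Mono t' := mono_of_mono t' iH
    refine hmax ⟨inferInstance, inferInstance, hTt, fun R _ i _ _ f hR hf => ?_⟩
    rw [ht'] at hf
    haveI : IsMonHom (AGF.conjBy g' i) := isMonHom_conjBy g' i
    haveI : Mono (AGF.conjBy g' i) := by
      rw [conjBy_eq_comp]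
      haveI : IsIso (AGF.conjBy g' (𝟙 G)) := isIso_conjBy_id g'
      infer_instance
    exact hT.2.2.2 R (AGF.conjBy g' i) f hR
      (by rw [comp_conjBy', hf, conjBy_conjBy, mul_inv_cancel, conjBy_one])
  obtain ⟨h, f, hf⟩ := exists_conj_maxTori hT₁ hT₂
  have hf' : f.hom ≫ iT = AGF.conjBy (g' * (h ≫ iH)) iT := by
    have e1 : AGF.conjBy h tH ≫ iH = AGF.conjBy (h ≫ iH) iT := by
      rw [← htH]; simp only [AGF.conjBy, MonObj.mul_comp, GrpObj.inv_comp, Category.assoc]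
    have e := congrArg (fun q => q ≫ iH) hf
    simp only [Category.assoc, ht', e1] at e
    rw [← conjBy_conjBy, ← e, comp_conjBy', conjBy_conjBy, ← comp_conjBy', mul_inv_cancel, conjBy_one]
  let m : pt k k ⟶ G := g * (ptOne.hom ≫ h ≫ iH)
  have hm : toUnit (pt k k) ≫ (g' * (h ≫ iH)) = m := by
    rw [MonObj.comp_mul, toUnit_ptOne_inv_comp g, show toUnit (pt k k) = ptOne.hom from toUnit_unique _ _]
  have hm1 : ∀ t : pt k k ⟶ T, m * (t ≫ iT) * m⁻¹ = (t ≫ f.hom) ≫ iT := fun t => by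
    rw [Category.assoc, hf', comp_conjBy, hm]
  have hm2 : ∀ t : pt k k ⟶ T, ∃ t', m⁻¹ * (t ≫ iT) * m = t' ≫ iT := fun t => ⟨t ≫ f.inv, by
    have e := hm1 (t ≫ f.inv)
    rw [Category.assoc t f.inv f.hom, f.inv_hom_id, Category.comp_id] at e
    rw [← e]
    group⟩
  obtain ⟨d₁, hd₁⟩ := hHS h
  have hpow : (s₁ ≫ f.hom) ^ ℓ ^ N = 1 := by
    rw [← cancel_mono iT]
    have hcp : ∀ (x : pt k k ⟶ T) (i : ℕ), (x ^ i) ≫ iT = (x ≫ iT) ^ i := fun x i =>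
      map_pow (GrothLib.RankOne.postHom iT (pt k k)) x i
    rw [hcp, MonObj.one_comp, ← hm1, ← MulAut.conj_apply, ← map_pow, ← hcp,
      show s₁ ^ ℓ ^ N = 1 from by rw [← MonObj.comp_pow, hsN, MonObj.comp_one], MonObj.one_comp, map_one]
  let w : W := ⟨s₁ ≫ f.hom, hpow, m, fun t => ⟨_, hm1 t⟩, hm2, hm1 s₁⟩
  refine ⟨rep w, ⟨w, rfl⟩, ?_⟩
  have hcomm : ((rep w)⁻¹ * m) * (s₁ ≫ iT) = (s₁ ≫ iT) * ((rep w)⁻¹ * m) := by
    have e := (hrep w).2.2.trans (hm1 s₁).symm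
    calc _ = (rep w)⁻¹ * (m * (s₁ ≫ iT) * m⁻¹) * m := by group
      _ = _ := by rw [← e]; group
  obtain ⟨d₂, hd₂⟩ := exists_fix_of_commute hT hB tB htB M v₀ hfix ((rep w)⁻¹ * m) fun X' x h' => by
    refine hreg (𝟙_ _) _ ?_ X' x h'
    rw [toUnit_unique (toUnit (𝟙_ (Over (Spec (CommRingCat.of k))))) (𝟙 _), Category.id_comp]
    have e := congrArg (ptOne.inv ≫ ·) hcomm
    simp only [MonObj.comp_mul] at e
    rw [show ptOne.inv ≫ s₁ ≫ iT = s ≫ iT by simp [s₁]] at e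
    simpa only [MonObj.comp_mul] using e
  have hd₁0 : d₁ ≠ 0 := fun h0 => hM.mulVec_ne_zero (ptOne.hom ≫ h ≫ iH) hv₀ (by rw [hd₁, h0, zero_smul])
  refine ⟨d₁⁻¹ * d₂, ?_⟩
  have e1 : (evM M m).mulVec v₀ = d₁ • (evM M g).mulVec v₀ := by
    rw [hM.mul, ← Matrix.mulVec_mulVec, hd₁, Matrix.mulVec_smul]
  have e2 : (evM M m).mulVec v₀ = d₂ • (evM M (rep w)).mulVec v₀ := by
    rw [← Matrix.mulVec_smul, ← hd₂, Matrix.mulVec_mulVec, ← hM.mul, mul_inv_cancel_left]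
  rw [← smul_smul, ← e2, e1, smul_smul, inv_mul_cancel₀ hd₁0, one_smul]

end GrothLib.Flag27
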