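import Groth.Agent.Lib.Flag27.TorusCentRing
import Groth.Agent.Lib.Flag27.TorusConj
import Groth.Agent.Lib.Flag27.MaxTori
import Groth.Agent.Lib.Repr.AffHom
import Groth.Prelude.Def_AGF

/-!
# Centralizers of tori in connected affine groups over an algebraically closed field are connected
-/

set_option autoImplicit false
set_option linter.all false
set_option backward.isDefEq.respectTransparency false

universe u

open CategoryTheory MonoidalCategory CartesianMonoidalCategory MonObj GrpObj AlgebraicGeometry VecGrp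
open LaurentPolynomial WithConv
open scoped TensorProduct

namespace GrothLib.Flag27

open GrothLib.Repr GrothLib.MultHopf14 GrothLib.CentMT14 GrothLib.DynMeth

variable {k : Type u} [Field k]

/-- A nonzero ring without idempotents has connected spectrum. -/
theorem connectedSpace_primeSpectrum {A : Type u} [CommRing A] [Nontrivial A]
    (hconn : ∀ e : A, IsIdempotentElem e → e = 0 ∨ e = 1) : ConnectedSpace (PrimeSpectrum A) := by
  refine connectedSpace_iff_clopen.mpr ⟨inferInstance, fun s hs => ?_⟩
  obtain ⟨e, he, rfl⟩ := PrimeSpectrum.exists_idempotent_basicOpen_eq_of_isClopen hs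
  rcases hconn e he with rfl | rfl
  · left; simp
  · right; simp

/-- A ring with connected spectrum has no idempotents. -/
theorem idempotent_of_connectedSpace {A : Type u} [CommRing A] [ConnectedSpace (PrimeSpectrum A)] {e : A}
    (he : IsIdempotentElem e) : e = 0 ∨ e = 1 := by
  rcases isClopen_iff.1 (PrimeSpectrum.isClopen_iff.2 ⟨e, he, rfl⟩) with h | h
  · exact Or.inl (PrimeSpectrum.basicOpen_injOn_isIdempotentElem he IsIdempotentElem.zero
      (SetLike.coe_injective (by simpa using h)))
  · exact Or.inr (PrimeSpectrum.basicOpen_injOn_isIdempotentElem he IsIdempotentElem.one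
      (SetLike.coe_injective (by simpa using h)))

variable {A K : Type u} [CommRing A] [HopfAlgebra k A] [CommRing K] [HopfAlgebra k K]
  {G T : Over (Spec (CommRingCat.of k))} [GrpObj G] [GrpObj T]
  (eG : Grp.mk (specGrp (R := k) A) ≅ Grp.mk G) (eT : Grp.mk (specGrp (R := k) K) ≅ Grp.mk T)

/-- The point of an affine group given by an algebra map. -/
noncomputable def algPt {R : Type u} [CommRing R] [Algebra k R] (g : WithConv (A →ₐ[k] R)) : pt k R ⟶ G :=
  (Spec.mapMulEquiv g : pt k R ⟶ specGrp (R := k) A) ≫ eG.hom.hom.hom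

theorem algPt_bijective {R : Type u} [CommRing R] [Algebra k R] : Function.Bijective (algPt eG (R := R)) := by
  have h1 : eG.hom.hom.hom ≫ eG.inv.hom.hom = 𝟙 (specGrp (R := k) A) := congrArg (fun w => w.hom.hom) eG.hom_inv_id
  have h2 : eG.inv.hom.hom ≫ eG.hom.hom.hom = 𝟙 G := congrArg (fun w => w.hom.hom) eG.inv_hom_id
  refine ⟨fun f g h => ?_, fun v => ⟨Spec.mapMulEquiv.symm (v ≫ eG.inv.hom.hom), ?_⟩⟩
  · have h' := congrArg (· ≫ eG.inv.hom.hom) h
    simp only [algPt, Category.assoc, h1, Category.comp_id] at h'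
    exact Spec.mapMulEquiv.injective h'
  · rw [algPt, MulEquiv.apply_symm_apply, Category.assoc, h2, Category.comp_id]

theorem algPt_mul {R : Type u} [CommRing R] [Algebra k R] (f g : WithConv (A →ₐ[k] R)) :
    algPt eG (f * g) = algPt eG f * algPt eG g := by
  haveI : IsMonHom eG.hom.hom.hom := eG.hom.hom.isMonHom_hom
  rw [algPt, map_mul, MonObj.mul_comp]
  rfl

theorem ptMap_algPt {R R' : Type u} [CommRing R] [Algebra k R] [CommRing R'] [Algebra k R'] (φ : R →ₐ[k] R')
    (g : WithConv (A →ₐ[k] R)) : ptMap φ ≫ algPt eG g = algPt eG (toConv (φ.comp g.ofConv)) := by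
  rw [algPt, algPt, ← Category.assoc]
  refine congrArg (· ≫ eG.hom.hom.hom) ?_
  show ptMap φ ≫ (Spec.mapMulEquiv g : pt k R ⟶ Aff k A) = _
  rw [mapMulEquiv_eq_ptMap, ← ptMap_comp]
  exact (mapMulEquiv_eq_ptMap _).symm

theorem algPt_comp_hom (θ : A →ₐc[k] K) (i : T ⟶ G) (hθ : specMap θ ≫ eG.hom.hom.hom = eT.hom.hom.hom ≫ i)
    {R : Type u} [CommRing R] [Algebra k R] (t : WithConv (K →ₐ[k] R)) :
    algPt eT t ≫ i = algPt eG (pullPt θ t) := by
  rw [algPt, Category.assoc, ← hθ, ← Category.assoc]
  refine congrArg (· ≫ eG.hom.hom.hom) ?_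
  exact mapMulEquiv_comp_ptMap t (θ : A →ₐ[k] K)

variable [IsAlgClosed k]

set_option maxHeartbeats 800000 in
/-- The centralizer of a subtorus of a connected affine group over an algebraically closed field is connected. -/
theorem connectedSpace_centralizer [IsAffine G.left] [LocallyOfFiniteType G.hom] [ConnectedSpace G.left]
    (iT : T ⟶ G) [IsMonHom iT] [Mono iT] (hT : Red.IsTorus T)
    {C : Over (Spec (CommRingCat.of k))} [GrpObj C] (c : C ⟶ G) (hc : Red.IsCentralizerOf iT c) :
    ConnectedSpace C.left := by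
  obtain ⟨-, hcm, hcc⟩ := hc
  haveI := hcm
  obtain ⟨-, hTa, hTs, hTconn⟩ := torus_facts hT iT
  haveI := hTa; haveI := hTs; haveI := hTconn
  obtain ⟨A, _, _, ⟨eG⟩⟩ := exists_hopf G (isAffineHom_of_isAffine _)
  haveI := finiteType_of_grpIso eG
  obtain ⟨K, _, _, ⟨eT⟩⟩ := exists_hopf T (isAffineHom_of_isAffine _)
  haveI := finiteType_of_grpIso eT
  haveI : IsDomain K := by
    haveI := GrothLib.Rigidity.irreducibleSpace_of_connected T
    haveI : IsReduced T.left := GrothLib.RedSmooth.isReduced_of_smooth T.hom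
    haveI : IsIntegral T.left := isIntegral_of_irreducibleSpace_of_isReduced _
    let i : specGrp (R := k) K ≅ T := (Grp.forget _).mapIso eT
    haveI : IsIso i.inv.left := inferInstanceAs (IsIso ((Over.forget _).map i.inv))
    haveI : IsIntegral (Spec (CommRingCat.of K)) := .of_isIso i.inv.left
    exact (affine_isIntegral_iff (CommRingCat.of K)).1 inferInstance
  have hK : HopfRep.IsDiagonalizable k K := by
    obtain ⟨L, _, _, hL⟩ := exists_split_functions eT hT
    haveI : Coalgebra.IsCocomm k K := NoPrim.isCocomm_of_isDiagonalizable L hL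
    exact NoPrim.isDiagonalizable_of_isAlgClosed (TorusPrim24.noPrimElt_of_isTorus eT hT)
  obtain ⟨θ, hθ⟩ := exists_specMap eG eT iT
  have hconn : ∀ e : A, IsIdempotentElem e → e = 0 ∨ e = 1 := by
    let i : specGrp (R := k) A ≅ G := (Grp.forget _).mapIso eG
    haveI : IsIso i.inv.left := inferInstanceAs (IsIso ((Over.forget _).map i.inv))
    haveI : ConnectedSpace (PrimeSpectrum A) := i.inv.left.surjective.connectedSpace i.inv.left.continuous
    exact fun e he => idempotent_of_connectedSpace he
  obtain ⟨r, ν, hν⟩ := exists_cochars hK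
  let I : Ideal A := ⨆ i, centIdeal ((ν i).comp θ)
  have hidem := idempotent_centFamily r (fun i => (ν i).comp θ) hconn
    (fun i j => comm_cochars θ hK (ν i) (ν j))
  let p : pt k (A ⧸ I) ⟶ G := algPt eG (toConv (Ideal.Quotient.mkₐ k I))
  -- the universal point centralizes
  obtain ⟨z, hz⟩ : ∃ z, z ≫ c = p := by
    refine (hcc _ p).2 fun X' x h => hom_ext_pts fun R _ _ v => ?_
    obtain ⟨φ, hφ⟩ := exists_ptMap (v ≫ x)
    obtain ⟨t, ht⟩ := (algPt_bijective eT).2 (v ≫ h)
    have hcomm := commute_of_centFamily θ ν hν (φ.comp (Ideal.Quotient.mkₐ k I))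
      (fun a ha => by
        show φ (Ideal.Quotient.mk I a) = 0
        rw [Ideal.Quotient.eq_zero_iff_mem.2 ha, map_zero]) t
    have h1 : (v ≫ x) ≫ p = algPt eG (toConv (φ.comp (Ideal.Quotient.mkₐ k I))) := by rw [hφ, ptMap_algPt]
    have h2 : (v ≫ h) ≫ iT = algPt eG (pullPt θ t) := by rw [← ht, algPt_comp_hom eG eT θ iT hθ]
    simp only [MonObj.comp_mul, ← Category.assoc]
    rw [h1, h2, ← algPt_mul, ← algPt_mul, hcomm.eq]
  have hsurj : Function.Surjective z.left.base := by
    intro c₀
    let σ : k →+* C.left.residueField c₀ := (Spec.preimage (C.left.fromSpecResidueField c₀ ≫ C.hom)).hom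
    letI : Algebra k (C.left.residueField c₀) := σ.toAlgebra
    let w : pt k (C.left.residueField c₀) ⟶ C :=
      Over.homMk (C.left.fromSpecResidueField c₀) (Spec.map_preimage _).symm
    obtain ⟨g, hg⟩ := (algPt_bijective eG).2 (w ≫ c)
    have hI : I ≤ RingHom.ker g.ofConv := iSup_le fun i a ha => by
      refine mem_of_commute θ (ν i) g.ofConv (fun t => ?_) a ha
      have h := (hcc _ (w ≫ c)).1 ⟨w, rfl⟩ _
        (ptMap (toL (k := k) (C.left.residueField c₀))) (algPt eT t)
      rw [← hg, ptMap_algPt, algPt_comp_hom eG eT θ iT hθ, ← algPt_mul, ← algPt_mul] at h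
      exact (algPt_bijective eG).1 h
    let φ : A ⧸ I →ₐ[k] C.left.residueField c₀ := Ideal.Quotient.liftₐ I g.ofConv fun a ha => hI ha
    have hw : ptMap φ ≫ z = w := by
      rw [← cancel_mono c, Category.assoc, hz, ← hg]
      exact (ptMap_algPt eG φ _).trans (congrArg (algPt eG) (WithConv.ext (AlgHom.ext fun a => rfl)))
    refine ⟨(ptMap φ).left.base (IsLocalRing.closedPoint _), ?_⟩
    rw [← Scheme.Hom.comp_apply, ← Over.comp_left, hw]
    exact Scheme.fromSpecResidueField_apply _ _
  haveI : Nontrivial (A ⧸ I) := PrimeSpectrum.nonempty_iff_nontrivial.1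
    ⟨(hsurj (η[C].left.base (IsLocalRing.closedPoint k))).choose⟩
  haveI : ConnectedSpace (pt k (A ⧸ I)).left := connectedSpace_primeSpectrum hidem
  exact hsurj.connectedSpace z.left.continuous

end GrothLib.Flag27
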