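import Groth.Agent.Lib.Flag27.NoSubtorus
import Groth.Agent.Lib.Induce27.Obs
import Groth.Agent.Lib.Induce27.Solv
import Groth.Agent.Lib.Induce27.Sub
import Groth.Agent.Lib.Induce27.Restrict

/-!
# Eigenvectors of unipotent groups are fixed
-/

set_option autoImplicit false
set_option linter.all false

universe u

open CategoryTheory MonoidalCategory CartesianMonoidalCategory MonObj GrpObj AlgebraicGeometry VecGrp
open scoped TensorProduct

noncomputable section

namespace GrothLib.Flag27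

open GrothLib.Repr GrothLib.Induce27 Groth.Agent.S11191

variable {k : Type u} [Field k] [IsAlgClosed k] {H : Over (Spec (CommRingCat.of k))} [GrpObj H] [IsAffine H.left]
  [Smooth H.hom] {M : Type u} [AddCommGroup M] [Module k M] (ρ : GMod H M)

omit [IsAlgClosed k] [IsAffine H.left] [Smooth H.hom] in
theorem kAct_injective (x : pt k k ⟶ H) : Function.Injective (kAct ρ x) := fun v w h => by
  have e := congrArg (kAct ρ x⁻¹) h
  rwa [← kAct_mul, ← kAct_mul, inv_mul_cancel, kAct_one, kAct_one] at e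

/-- A common eigenvector of a group without characters is fixed. -/
theorem kAct_eq_of_eigen (hχ : ∀ (χ : H ⟶ Red.Gm (Spec (CommRingCat.of k))), IsMonHom χ → χ = 1)
    {w : M} (hw0 : w ≠ 0) (hw : ∀ x : pt k k ⟶ H, ∃ c : k, kAct ρ x w = c • w) (x : pt k k ⟶ H) :
    kAct ρ x w = w := by
  choose c hc using hw
  obtain ⟨α, hα⟩ : ∃ α : Module.Dual k M, α w = 1 := by
    obtain ⟨β, hβ⟩ : ∃ β : Module.Dual k M, β w ≠ 0 := by
      by_contra hne
      push Not at hne
      exact hw0 ((Module.forall_dual_apply_eq_zero_iff k _).1 hne)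
    exact ⟨(β w)⁻¹ • β, by rw [LinearMap.smul_apply, smul_eq_mul, inv_mul_cancel₀ hβ]⟩
  let u : Fn H := coeff ρ α w
  have hu : ∀ y : pt k k ⟶ H, valAt y u = c y := fun y => by
    show valAt y (coeff ρ α w) = c y
    rw [valAt_coeff, rho_one_tmul, cf_tmul, smul_eq_mul, _root_.mul_one]
    show α (kAct ρ y w) = c y
    rw [hc, map_smul, hα, smul_eq_mul, _root_.mul_one]
  have hc0 : ∀ y, c y ≠ 0 := fun y h0 => hw0 (kAct_injective ρ y (by rw [hc, h0, zero_smul, map_zero]))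
  have hmul : ∀ y z : pt k k ⟶ H, valAt (y * z) u = valAt y u * valAt z u := fun y z => by
    rw [hu, hu, hu]
    refine smul_left_injective k hw0 ?_
    show c (y * z) • w = (c y * c z) • w
    rw [← hc, kAct_mul, hc, map_smul, hc, smul_smul, mul_comm]
  let uu : (Γ(H.left, ⊤))ˣ := (isUnit_of_valAt (fun y => (hu y).symm ▸ hc0 y)).unit
  let χ : H ⟶ Red.Gm (Spec (CommRingCat.of k)) := GmPts.ptOfUnit uu
  have hgm : ∀ {T : Over (Spec (CommRingCat.of k))} (t : T ⟶ H),
      Red.gmFn (t ≫ χ) = fnMap t u := fun t => by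
    rw [GmPts.gmFn_comp, GmPts.gmFn_ptOfUnit]
    rfl
  have hmon : IsMonHom χ := GrothLib.GrpSchField.isMonHom_of_mul _ (GmPts.gmFn_injective (by
    show Red.gmFn (μ[H] ≫ χ) = _
    rw [hgm, fnMap_mul_eq u hmul]
    show _ = Red.gmFn (_ ≫ μ[Red.Gm (Spec (CommRingCat.of k))])
    rw [show ((χ ⊗ₘ χ) ≫ μ[Red.Gm (Spec (CommRingCat.of k))]) = (fst H H ≫ χ) * (snd H H ≫ χ) by
      rw [Hom.mul_def]; congr 1,
      GmPts.gmFn_mul, hgm, hgm]
    rfl))
  have h1 := congrArg (fun t => Red.gmFn t) (hχ χ hmon)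
  simp only [GmPts.gmFn_one] at h1
  rw [← Category.id_comp χ, hgm, fnMap_id, AlgHom.id_apply] at h1
  rw [hc, ← hu, show u = (1 : Fn H) from h1, map_one, one_smul]

variable [ConnectedSpace H.left] [QuasiCompact H.hom] {A : Type u} [CommRing A] [IsDomain A] [Algebra k A]
  (σ : GMod H A)

/-- Invariant fractions of a unipotent action are fractions of invariants. -/
theorem exists_fixed_fraction (hs : Group.IsSolvable (pt k k ⟶ H))
    (hχ : ∀ (χ : H ⟶ Red.Gm (Spec (CommRingCat.of k))), IsMonHom χ → χ = 1) (hσ : σ.IsMult)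
    (a₀ b₀ : A) (hb₀ : b₀ ≠ 0)
    (hinv : ∀ x : pt k k ⟶ H, kAct σ x a₀ * b₀ = a₀ * kAct σ x b₀) :
    ∃ a b : A, a ∈ σ.fixedUnder (𝟙 H) ∧ b ∈ σ.fixedUnder (𝟙 H) ∧ b ≠ 0 ∧ a * b₀ = b * a₀ := by
  haveI := hs
  haveI : LocallyOfFiniteType H.hom := inferInstance
  have hmul : ∀ (x : pt k k ⟶ H) (y z : A), kAct σ x (y * z) = kAct σ x y * kAct σ x z := fun x y z => by
    have e : (1 : k) ⊗ₜ[k] kAct σ x (y * z) = (1 : k) ⊗ₜ[k] (kAct σ x y * kAct σ x z) := by
      rw [← rho_one_tmul, show (1 : k) ⊗ₜ[k] (y * z) = ((1 : k) ⊗ₜ[k] y) * ((1 : k) ⊗ₜ[k] z) by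
        rw [Algebra.TensorProduct.tmul_mul_tmul, _root_.mul_one], (hσ k x).1, rho_one_tmul, rho_one_tmul,
        Algebra.TensorProduct.tmul_mul_tmul, _root_.mul_one]
    simpa using congrArg (TensorProduct.lid k A) e
  have hstab : ∀ (x : pt k k ⟶ H) (b a : A), a * b₀ = b * a₀ → kAct σ x a * b₀ = kAct σ x b * a₀ := by
    intro x b a h
    have h' := congrArg (kAct σ x) h
    rw [hmul, hmul] at h'
    have hne : kAct σ x b₀ ≠ 0 := fun h0 => hb₀ (kAct_injective σ x (by rw [h0, map_zero]))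
    refine mul_left_cancel₀ hne ?_
    calc kAct σ x b₀ * (kAct σ x a * b₀) = (kAct σ x a * kAct σ x b₀) * b₀ := by ring
      _ = kAct σ x b * (kAct σ x a₀ * b₀) := by rw [h']; ring
      _ = kAct σ x b₀ * (kAct σ x b * a₀) := by rw [hinv]; ring
  obtain ⟨N, hN, hst, hmem⟩ := exists_stable σ {b₀}
  haveI := hN
  let I : Submodule k A :=
    { carrier := {b | ∃ a, a * b₀ = b * a₀}
      add_mem' := by
        rintro b b' ⟨a, ha⟩ ⟨a', ha'⟩
        exact ⟨a + a', by rw [add_mul, add_mul, ha, ha']⟩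
      zero_mem' := ⟨0, by rw [zero_mul, zero_mul]⟩
      smul_mem' := by
        rintro c b ⟨a, ha⟩
        exact ⟨c • a, by rw [smul_mul_assoc, smul_mul_assoc, ha]⟩ }
  have hsub : ∀ (x : pt k k ⟶ H) (w : N), ((kAct (subGMod σ N hst) x w : N) : A) = kAct σ x w.1 := fun x w => by
    have e : (1 : k) ⊗ₜ[k] ((kAct (subGMod σ N hst) x w : N) : A) = (1 : k) ⊗ₜ[k] kAct σ x w.1 := by
      rw [← rho_one_tmul, show (1 : k) ⊗ₜ[k] (w : A) = N.subtype.baseChange k ((1 : k) ⊗ₜ[k] w) by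
          rw [LinearMap.baseChange_tmul]; rfl, ← res_spec σ N hst, ← subGMod_apply, rho_one_tmul,
        LinearMap.baseChange_tmul]
      rfl
    simpa using congrArg (TensorProduct.lid k A) e
  obtain ⟨w, hwU, hw0, hw⟩ := exists_eigen_gmod (subGMod σ N hst) (I.comap N.subtype)
    (fun x v hv => by
      obtain ⟨a, ha⟩ := hv
      exact ⟨kAct σ x a, by rw [N.subtype_apply, hsub]; exact hstab x _ a ha⟩)
    (by
      intro hbot
      have hmb : (⟨b₀, hmem b₀ (Finset.mem_singleton_self _)⟩ : N) ∈ I.comap N.subtype := ⟨a₀, mul_comm a₀ b₀⟩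
      rw [hbot, Submodule.mem_bot] at hmb
      exact hb₀ (congrArg Subtype.val hmb))
  obtain ⟨a, ha⟩ := hwU
  rw [N.subtype_apply] at ha
  have hwA : (w : A) ≠ 0 := fun h => hw0 (Subtype.ext h)
  have hfix : ∀ x, kAct σ x (w : A) = w := fun x =>
    kAct_eq_of_eigen σ hχ hwA (fun y => by
      obtain ⟨c, hc⟩ := hw y
      exact ⟨c, by rw [← hsub, hc]; rfl⟩) x
  refine ⟨a, w, fixedUnder_of_valAt σ a fun t => ?_, fixedUnder_of_valAt σ _ fun t => ?_, hwA, ha⟩
  · rw [Category.comp_id, rho_one_tmul]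
    congr 1
    refine mul_right_cancel₀ hb₀ ?_
    rw [hstab t _ a ha, hfix]
    exact ha.symm
  · rw [Category.comp_id, rho_one_tmul, hfix]

end GrothLib.Flag27
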