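import Groth.Agent.Lib.Flag27.UnipBasic
import Groth.Agent.Lib.Induce27.Obs

/-!
# Multiplicative functions on unipotent groups
-/

set_option autoImplicit false

universe u

open CategoryTheory MonoidalCategory CartesianMonoidalCategory MonObj GrpObj AlgebraicGeometry VecGrp
open scoped TensorProduct

noncomputable section

namespace GrothLib.Flag27

open GrothLib.Repr GrothLib.Induce27 Groth.Agent.S11191

variable {k : Type u} [Field k] [IsAlgClosed k]

/-- Multiplicative nowhere vanishing functions on unipotent groups are trivial. -/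
theorem IsUnip.valAt_eq_one {U : Over (Spec (CommRingCat.of k))} [GrpObj U] [IsAffine U.left] [Smooth U.hom]
    (hU : IsUnip k U) (w : Fn U) (hw0 : ∀ v : pt k k ⟶ U, valAt v w ≠ (0 : k))
    (hw : ∀ v v' : pt k k ⟶ U, valAt (v * v') w = valAt v w * valAt v' w) (v : pt k k ⟶ U) : valAt v w = 1 := by
  let uu : (Γ(U.left, ⊤))ˣ := (isUnit_of_valAt hw0).unit
  let χ : U ⟶ Red.Gm (Spec (CommRingCat.of k)) := GmPts.ptOfUnit uu
  have hgm : ∀ {T : Over (Spec (CommRingCat.of k))} (t : T ⟶ U),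
      Red.gmFn (t ≫ χ) = fnMap t w := fun t => by
    rw [GmPts.gmFn_comp, GmPts.gmFn_ptOfUnit]
    rfl
  have hmon : IsMonHom χ := GrothLib.GrpSchField.isMonHom_of_mul _ (GmPts.gmFn_injective (by
    show Red.gmFn (μ[U] ≫ χ) = _
    rw [hgm, fnMap_mul_eq w hw]
    show _ = Red.gmFn (_ ≫ μ[Red.Gm (Spec (CommRingCat.of k))])
    rw [show ((χ ⊗ₘ χ) ≫ μ[Red.Gm (Spec (CommRingCat.of k))]) = (fst U U ≫ χ) * (snd U U ≫ χ) by
      rw [Hom.mul_def]; congr 1,
      GmPts.gmFn_mul, hgm, hgm]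
    rfl))
  haveI := hmon
  have h1 := congrArg (fun t => Red.gmFn t) (hU.char_eq_one χ)
  simp only [GmPts.gmFn_one] at h1
  rw [← Category.id_comp χ, hgm, fnMap_id, AlgHom.id_apply] at h1
  rw [show w = (1 : Fn U) from h1, map_one]

end GrothLib.Flag27
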