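import Groth.Agent.Lib.Flag27.NormalizerChar
import Groth.Agent.Lib.Flag27.UnipChar
import Groth.Agent.Lib.AntiAffine.Image
import Groth.Agent.Lib.UnipFix19.Solvable
import Groth.Agent.Lib.Dim.QuasiFinite
import Groth.Agent.S15608

/-!
# Borel subgroups are their own normalizers
-/

set_option autoImplicit false
set_option linter.all false
set_option backward.isDefEq.respectTransparency false

universe u

open CategoryTheory CategoryTheory.Limits MonoidalCategory CartesianMonoidalCategory MonObj GrpObj AlgebraicGeometry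
open VecGrp

noncomputable section

namespace GrothLib.Flag27

open GrothLib.Repr GrothLib.Induce27 Groth.Agent.S11191

variable {k : Type u} [Field k] [IsAlgClosed k]

omit [IsAlgClosed k] in
/-- Products of homomorphisms into a commutative group. -/
theorem isMonHom_mul_of_comm {A T : Over (Spec (CommRingCat.of k))} [GrpObj A] [GrpObj T]
    (hc : ∀ {X : Over (Spec (CommRingCat.of k))} (a b : X ⟶ T), a * b = b * a) (f g : A ⟶ T) [IsMonHom f] [IsMonHom g] :
    IsMonHom (f * g) := by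
  refine GrothLib.GrpSchField.isMonHom_of_mul _ ?_
  have hf : ∀ {X : Over (Spec (CommRingCat.of k))} (p q : X ⟶ A), lift p q ≫ μ[A] ≫ f = (p ≫ f) * (q ≫ f) :=
    fun p q => by rw [← Category.assoc, ← Hom.mul_def, MonObj.mul_comp]
  have e : μ[A] ≫ (f * g) = (fst A A ≫ (f * g)) * (snd A A ≫ (f * g)) := by
    have e1 := hf (fst A A) (snd A A)
    have e2 : lift (fst A A) (snd A A) ≫ μ[A] ≫ g = (fst A A ≫ g) * (snd A A ≫ g) := by
      rw [← Category.assoc, ← Hom.mul_def, MonObj.mul_comp]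
    rw [lift_fst_snd, Category.id_comp] at e1 e2
    simp only [MonObj.comp_mul, e1, e2]
    rw [_root_.mul_assoc, _root_.mul_assoc, ← _root_.mul_assoc (snd A A ≫ f), hc (snd A A ≫ f) (fst A A ≫ g),
      _root_.mul_assoc]
  rw [e, show ((f * g) ⊗ₘ (f * g)) ≫ μ[T] = (fst A A ≫ (f * g)) * (snd A A ≫ (f * g)) by
    rw [Hom.mul_def (fst A A ≫ (f * g))]; congr 1]

/-- The iterates of an endomorphism. -/
def homPow {T : Over (Spec (CommRingCat.of k))} (τ : T ⟶ T) : ℕ → (T ⟶ T)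
  | 0 => 𝟙 T
  | i + 1 => homPow τ i ≫ τ

/-- The norm of an endomorphism. -/
def homNorm {T : Over (Spec (CommRingCat.of k))} [GrpObj T] (τ : T ⟶ T) : ℕ → (T ⟶ T)
  | 0 => 1
  | i + 1 => homNorm τ i * homPow τ i

omit [IsAlgClosed k] in
theorem isMonHom_homPow {T : Over (Spec (CommRingCat.of k))} [GrpObj T] (τ : T ⟶ T) [IsMonHom τ] :
    ∀ i, IsMonHom (homPow τ i)
  | 0 => by show IsMonHom (𝟙 T); infer_instance
  | i + 1 => by haveI := isMonHom_homPow τ i; show IsMonHom (homPow τ i ≫ τ); infer_instance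

omit [IsAlgClosed k] in
theorem isMonHom_homNorm {T : Over (Spec (CommRingCat.of k))} [GrpObj T]
    (hc : ∀ {X : Over (Spec (CommRingCat.of k))} (a b : X ⟶ T), a * b = b * a) (τ : T ⟶ T) [IsMonHom τ] :
    ∀ i, IsMonHom (homNorm τ i)
  | 0 => GrothLib.GrpSchField.isMonHom_of_mul _ (by
      show μ[T] ≫ (1 : T ⟶ T) = ((1 : T ⟶ T) ⊗ₘ (1 : T ⟶ T)) ≫ μ[T]
      rw [MonObj.comp_one, show ((1 : T ⟶ T) ⊗ₘ (1 : T ⟶ T)) ≫ μ[T] = (fst T T ≫ (1 : T ⟶ T)) * (snd T T ≫ (1 : T ⟶ T)) by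
        rw [Hom.mul_def (fst T T ≫ (1 : T ⟶ T))]; congr 1, MonObj.comp_one, MonObj.comp_one, _root_.mul_one])
  | i + 1 => by
    haveI := isMonHom_homNorm hc τ i
    haveI := isMonHom_homPow τ i
    show IsMonHom (homNorm τ i * homPow τ i)
    exact isMonHom_mul_of_comm hc _ _

set_option maxHeartbeats 1600000 in
/-- The central case: a point normalizing a Borel subgroup and a maximal torus in it, whose norms are central. -/
theorem mem_borel_of_central_norms {G : Over (Spec (CommRingCat.of k))} [GrpObj G] [IsAffine G.left] [Smooth G.hom]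
    [ConnectedSpace G.left] {B D U : Over (Spec (CommRingCat.of k))} [GrpObj B] [GrpObj D] [GrpObj U]
    {iB : B ⟶ G} (hB : Red.IsBorelOver k iB) (p : B ⟶ D) (s : D ⟶ B) (u : U ⟶ B) (r : B ⟶ U)
    [IsMonHom p] [IsMonHom s] [IsMonHom u] [IsAffine U.left] [Smooth U.hom]
    (hru : r ≫ u = 𝟙 B * (p ≫ s)⁻¹) (hU : IsUnip k U)
    (y : 𝟙_ (Over (Spec (CommRingCat.of k))) ⟶ G) (σ : B ⟶ B) (hσ : σ ≫ iB = AGF.conjBy y iB)
    (σ' : B ⟶ B) (hσ' : σ' ≫ iB = AGF.conjBy y⁻¹ iB)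
    (τ : D ⟶ D) (hτ : τ ≫ s ≫ iB = AGF.conjBy y (s ≫ iB)) {m : ℕ} (hm : 0 < m)
    (hcent : ∀ (t : 𝟙_ (Over (Spec (CommRingCat.of k))) ⟶ D) (g : 𝟙_ (Over (Spec (CommRingCat.of k))) ⟶ G),
      g * ((t ≫ homNorm τ m) ≫ s ≫ iB) = ((t ≫ homNorm τ m) ≫ s ≫ iB) * g) :
    ∃ b : 𝟙_ (Over (Spec (CommRingCat.of k))) ⟶ B, b ≫ iB = y := by
  obtain ⟨hBm, hBc, hBsm, hBconn, -⟩ := id hB
  haveI := hBm; haveI := hBc; haveI := hBsm; haveI := hBconn
  haveI : Mono iB := Over.mono_of_mono_left iB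
  haveI : IsAffine B.left := isAffine_of_isAffineHom iB.left
  have hid : toUnit (𝟙_ (Over (Spec (CommRingCat.of k)))) = 𝟙 _ := toUnit_unique _ _
  let Γ := 𝟙_ (Over (Spec (CommRingCat.of k))) ⟶ G
  let R : Subgroup Γ := (ptsHom iB).range
  obtain ⟨P, _, iP, hPm, hPc, hPsm, hr⟩ := Groth.Agent.S15608.result k G (Subgroup.normalizer (R : Set Γ))
  haveI := hPm; haveI := hPc; haveI := hPsm
  haveI : IsAffine P.left := isAffine_of_isAffineHom iP.left
  haveI : Mono iP := Over.mono_of_mono_left iP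
  have hP : ∀ (q : 𝟙_ (Over (Spec (CommRingCat.of k))) ⟶ P) (h : Γ), h ∈ R → (q ≫ iP) * h * (q ≫ iP)⁻¹ ∈ R := by
    intro q h hh
    let φ : G ⟶ G := 𝟙 G * (toUnit G ≫ h) * (𝟙 G)⁻¹
    have hφ : ∀ x : Γ, x ≫ φ = x * h * x⁻¹ := fun x => by
      simp only [φ, MonObj.comp_mul, GrpObj.comp_inv, Category.comp_id, ← Category.assoc,
        toUnit_unique (x ≫ toUnit G) (𝟙 _), Category.id_comp]
    have hmem : cl (q ≫ iP) ∈ φ.left.base ⁻¹' Set.range iB.left.base := by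
      refine closure_minimal ?_ (iB.left.isClosedEmbedding.isClosed_range.preimage φ.left.continuous)
        (hr.le ⟨cl q, (cl_comp q iP).symm⟩)
      rintro _ ⟨x, hx, rfl⟩
      obtain ⟨b, hb⟩ := (Subgroup.mem_normalizer_iff.1 hx h).1 hh
      rw [ptsHom_apply] at hb
      refine ⟨cl b, ?_⟩
      show _ = φ.left.base (cl x)
      rw [← cl_comp, ← cl_comp, hφ, hb]
    obtain ⟨b, -, hb⟩ := exists_cl_lift iB (E := Set.univ) isClosed_univ.isLocallyClosed
      (w := (q ≫ iP) ≫ φ) (by rw [Set.image_univ, cl_comp]; exact hmem)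
    exact ⟨b, by rw [ptsHom_apply, hb, hφ]⟩
  have hlift : ∀ z : Γ, z ∈ Subgroup.normalizer (R : Set Γ) → ∃ h, h ≫ iP = z := fun z hz => by
    obtain ⟨w, -, hw⟩ := exists_cl_lift iP (E := Set.univ) isClosed_univ.isLocallyClosed
      (w := z) (by rw [Set.image_univ]; exact hr.ge (subset_closure ⟨z, hz, rfl⟩))
    exact ⟨w, hw⟩
  haveI : IsReduced B.left := GrothLib.RedSmooth.isReduced_of_smooth B.hom
  obtain ⟨j, hj⟩ := exists_lift_of_pts iB iP fun v => hlift _ (Subgroup.le_normalizer (H := R) ⟨v, rfl⟩)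
  haveI : IsMonHom (j ≫ iP) := by rw [hj]; infer_instance
  haveI : IsMonHom j := GrothLib.CentMT14.isMonHom_of_comp j iP
  obtain ⟨yP, hyP⟩ := hlift y (Subgroup.mem_normalizer_iff.2 fun h => ⟨fun ⟨b, hb⟩ => ⟨b ≫ σ, by
    rw [ptsHom_apply] at hb ⊢
    rw [Category.assoc, hσ, comp_conjBy', conjBy_pt, hb]⟩, fun ⟨b, hb⟩ => ⟨b ≫ σ', by
    rw [ptsHom_apply] at hb ⊢
    rw [Category.assoc, hσ', comp_conjBy', conjBy_pt, hb]; group⟩⟩)
  have key : ∀ g : pt k k ⟶ G, ∃ h : pt k k ⟶ P, h ≫ iP = g := by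
    refine forall_mem_of_central hB iP j hj hm fun b => ?_
    let t : pt k k ⟶ D := b ≫ p
    refine ⟨(t ≫ homNorm τ m) ≫ s ≫ j, fun g => ?_, fun w hw0 hw => ?_⟩
    · have h1 := hcent (ptOne.inv ≫ t) (ptOne.inv ≫ g)
      have h2 := congrArg (ptOne.hom ≫ ·) h1
      simp only [MonObj.comp_mul, Category.assoc, Iso.hom_inv_id_assoc] at h2
      simpa only [Category.assoc, hj] using h2
    · -- the unipotent part
      have hb : b = ((b ≫ r) ≫ u) * (t ≫ s) := by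
        rw [Category.assoc, hru, MonObj.comp_mul, Category.comp_id, GrpObj.comp_inv]
        simp only [t, Category.assoc, inv_mul_cancel_right]
      haveI : IsMonHom (u ≫ j) := inferInstance
      have hu1 : valAt ((b ≫ r) ≫ u ≫ j) w = 1 := by
        rw [valAt_comp]
        refine hU.valAt_eq_one _ (fun v => ?_) (fun v v' => ?_) _
        · rw [← valAt_comp]; exact hw0 _
        · rw [← valAt_comp, ← valAt_comp, ← valAt_comp, MonObj.mul_comp]; exact hw _ _
      have hw1 : valAt (1 : pt k k ⟶ P) w = 1 := by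
        have e := hw 1 1
        rw [_root_.one_mul] at e
        exact (mul_eq_left₀ (hw0 1)).1 e.symm
      -- conjugation by `y`
      have hwτ : ∀ t' : pt k k ⟶ D, valAt ((t' ≫ τ) ≫ s ≫ j) w = valAt (t' ≫ s ≫ j) w := fun t' => by
        let Y : pt k k ⟶ P := ptOne.hom ≫ yP
        have e : (t' ≫ τ) ≫ s ≫ j = Y * (t' ≫ s ≫ j) * Y⁻¹ := by
          rw [← cancel_mono iP]
          simp only [Y, MonObj.mul_comp, GrpObj.inv_comp, Category.assoc, hyP, hj]
          rw [hτ, comp_conjBy, toUnit_unique (toUnit (pt k k)) ptOne.hom]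
        rw [e, hw, hw, mul_comm (valAt Y w), _root_.mul_assoc, ← hw, mul_inv_cancel, hw1, _root_.mul_one]
      have hpow : ∀ i, valAt ((t ≫ homPow τ i) ≫ s ≫ j) w = valAt (t ≫ s ≫ j) w := by
        intro i
        induction i with
        | zero => simp [homPow]
        | succ i ih =>
          show valAt ((t ≫ homPow τ i ≫ τ) ≫ s ≫ j) w = _
          rw [← Category.assoc t, hwτ, ih]
      have hnorm : ∀ i, valAt ((t ≫ homNorm τ i) ≫ s ≫ j) w = valAt (t ≫ s ≫ j) w ^ i := by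
        intro i
        induction i with
        | zero =>
          show valAt ((t ≫ (1 : D ⟶ D)) ≫ s ≫ j) w = _
          rw [MonObj.comp_one, MonObj.one_comp, hw1, pow_zero]
        | succ i ih =>
          show valAt ((t ≫ (homNorm τ i * homPow τ i)) ≫ s ≫ j) w = _
          rw [MonObj.comp_mul, MonObj.mul_comp, hw, ih, hpow, pow_succ]
      rw [hnorm, hb, MonObj.mul_comp, hw, Category.assoc (b ≫ r) u j, hu1, _root_.one_mul, Category.assoc t s j]
  -- so the Borel subgroup is normal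
  obtain ⟨x, b, hxb⟩ := exists_conj_mem_borel hB y
  obtain ⟨xP, hxP⟩ := key (ptOne.hom ≫ x)
  have hx : (ptOne.inv ≫ xP) ≫ iP = x := by rw [Category.assoc, hxP, Iso.inv_hom_id_assoc]
  obtain ⟨b', hb'⟩ := hP (ptOne.inv ≫ xP) (b ≫ iB) ⟨b, rfl⟩
  rw [ptsHom_apply, hx, hxb] at hb'
  exact ⟨b', hb'⟩

set_option maxHeartbeats 3200000 in
theorem mem_borel_of_normalize_aux : ∀ (n : ℕ) (G : Over (Spec (CommRingCat.of k))) [GrpObj G] [IsAffine G.left]
    [Smooth G.hom] [ConnectedSpace G.left], topologicalKrullDim G.left ≤ (n : WithBot ℕ∞) →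
    ∀ {B : Over (Spec (CommRingCat.of k))} [GrpObj B] (iB : B ⟶ G), Red.IsBorelOver k iB →
    ∀ (x : 𝟙_ (Over (Spec (CommRingCat.of k))) ⟶ G) (σ σ' : B ⟶ B), σ ≫ iB = AGF.conjBy x iB →
      σ' ≫ iB = AGF.conjBy x⁻¹ iB → ∃ b : 𝟙_ (Over (Spec (CommRingCat.of k))) ⟶ B, b ≫ iB = x := by
  intro n
  induction n using Nat.strong_induction_on with
  | _ n IH =>
  intro G _ _ _ _ hdim B _ iB hB x σ₀ σ₀' hσ₀ hσ₀'
  obtain ⟨hBm, hBc, hBsm, hBconn, hBsolv, -⟩ := id hB
  haveI := hBm; haveI := hBc; haveI := hBsm; haveI := hBconn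
  haveI : Mono iB := Over.mono_of_mono_left iB
  haveI : IsAffine B.left := isAffine_of_isAffineHom iB.left
  have hid : toUnit (𝟙_ (Over (Spec (CommRingCat.of k)))) = 𝟙 _ := toUnit_unique _ _
  obtain ⟨D, _, U, _, p, s, u, r, hp, hs, hu, hsp, hDt, hDa, hDs, hDconn, huc, hup, -, hru, hUu, hUs, -⟩ :=
    hasSplit_of_solvable (isSolvable_points hBsolv)
  haveI := hp; haveI := hs; haveI := hu; haveI := huc; haveI := hUs; haveI := hDa; haveI := hDs; haveI := hDconn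
  haveI : IsAffine U.left := isAffine_of_isAffineHom u.left
  haveI : Mono u := Over.mono_of_mono_left u
  have hmax := isMaxTorus_section hB p s u r hsp hup hru hUu hDt
  obtain ⟨hTm, hTmono, -, -⟩ := id hmax
  haveI := hTm; haveI := hTmono
  -- normalize the maximal torus
  haveI : IsMonHom ((s ≫ σ₀) ≫ iB) := by
    rw [Category.assoc, hσ₀, comp_conjBy']; exact isMonHom_conjBy x (s ≫ iB)
  haveI : IsMonHom (s ≫ σ₀) := GrothLib.CentMT14.isMonHom_of_comp (s ≫ σ₀) iB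
  obtain ⟨h, hh⟩ := exists_conj_section hUu p s u r hsp hup hru hDt (s ≫ σ₀)
  let y := (h ≫ iB) * x
  let τ : D ⟶ D := (s ≫ σ₀) ≫ p
  have e₀ : ∀ (a : 𝟙_ (Over (Spec (CommRingCat.of k))) ⟶ B) {Z : Over (Spec (CommRingCat.of k))} (i : Z ⟶ B),
      AGF.conjBy a i ≫ iB = AGF.conjBy (a ≫ iB) (i ≫ iB) := fun a Z i => by
    simp only [AGF.conjBy, MonObj.mul_comp, GrpObj.inv_comp, Category.assoc]
  have hτ : τ ≫ s ≫ iB = AGF.conjBy y (s ≫ iB) := by
    have h1 := congrArg (· ≫ iB) hh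
    simp only [e₀, Category.assoc, hσ₀, comp_conjBy', conjBy_conjBy] at h1
    simp only [τ, Category.assoc]
    exact h1.symm
  let σ : B ⟶ B := σ₀ ≫ AGF.conjBy h (𝟙 B)
  let σ' : B ⟶ B := AGF.conjBy h⁻¹ (𝟙 B) ≫ σ₀'
  have hσ : σ ≫ iB = AGF.conjBy y iB := by
    show (σ₀ ≫ AGF.conjBy h (𝟙 B)) ≫ iB = _
    rw [Category.assoc, e₀, Category.id_comp, comp_conjBy', hσ₀, conjBy_conjBy]
  have hσ' : σ' ≫ iB = AGF.conjBy y⁻¹ iB := by
    show (AGF.conjBy h⁻¹ (𝟙 B) ≫ σ₀') ≫ iB = _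
    rw [Category.assoc, hσ₀', comp_conjBy', e₀, Category.id_comp, conjBy_conjBy, GrpObj.inv_comp,
      ← _root_.mul_inv_rev]
  suffices hy : ∃ b, b ≫ iB = y by
    obtain ⟨b, hb⟩ := hy
    exact ⟨h⁻¹ * b, by rw [MonObj.mul_comp, GrpObj.inv_comp, hb, inv_mul_cancel_left]⟩
  haveI : IsMonHom (τ ≫ s ≫ iB) := by rw [hτ]; exact isMonHom_conjBy y (s ≫ iB)
  haveI : IsMonHom τ := GrothLib.CentMT14.isMonHom_of_comp τ (s ≫ iB)
  have hc : ∀ {X : Over (Spec (CommRingCat.of k))} (a b : X ⟶ D), a * b = b * a :=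
    fun a b => GrothLib.RankCell14.comm_torus hDt a b
  have hτpt : ∀ t : 𝟙_ (Over (Spec (CommRingCat.of k))) ⟶ D, (t ≫ τ) ≫ s ≫ iB = y * (t ≫ s ≫ iB) * y⁻¹ := fun t => by
    rw [Category.assoc, hτ, comp_conjBy', conjBy_pt]
  -- a power of `y` centralizes the torus
  obtain ⟨ℓ, hℓ, hℓk⟩ := exists_prime_invertible (k := k)
  obtain ⟨N, s₀, hs₀N, hs₀⟩ := exists_regular_pt (s ≫ iB) hDt hℓ.one_lt hℓk
  let pw : ℕ → (𝟙_ (Over (Spec (CommRingCat.of k))) ⟶ D) := fun i => s₀ ≫ homPow τ i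
  have hpwmem : ∀ i, pw i ∈ {t : 𝟙_ (Over (Spec (CommRingCat.of k))) ⟶ D | t ^ ℓ ^ N = 1} := fun i => by
    haveI := isMonHom_homPow τ i
    show (s₀ ≫ homPow τ i) ^ ℓ ^ N = 1
    rw [← MonObj.pow_comp, hs₀N, MonObj.one_comp]
  have hpwy : ∀ (t : 𝟙_ (Over (Spec (CommRingCat.of k))) ⟶ D) (i : ℕ),
      (t ≫ homPow τ i) ≫ s ≫ iB = y ^ i * (t ≫ s ≫ iB) * (y ^ i)⁻¹ := by
    intro t i
    induction i with
    | zero => simp [homPow]
    | succ i ih =>
      show (t ≫ homPow τ i ≫ τ) ≫ s ≫ iB = _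
      rw [← Category.assoc t, hτpt, ih, pow_succ']
      group
  haveI : Finite {t : 𝟙_ (Over (Spec (CommRingCat.of k))) ⟶ D | t ^ ℓ ^ N = 1} :=
    (finite_torsion_pts (s ≫ iB) hDt (Nat.pow_pos hℓ.pos)).to_subtype
  obtain ⟨i₁, i₂, hne, heq⟩ := Finite.exists_ne_map_eq_of_infinite
    (fun i => (⟨pw i, hpwmem i⟩ : {t : 𝟙_ (Over (Spec (CommRingCat.of k))) ⟶ D | t ^ ℓ ^ N = 1}))
  have heq' : pw i₁ = pw i₂ := congrArg Subtype.val heq
  wlog hlt : i₁ < i₂ generalizing i₁ i₂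
  · exact this i₂ i₁ hne.symm heq.symm heq'.symm (by omega)
  obtain ⟨m, hm, rfl⟩ : ∃ m, 0 < m ∧ i₂ = i₁ + m := ⟨i₂ - i₁, by omega, by omega⟩
  have hym : y ^ m * (s₀ ≫ s ≫ iB) = (s₀ ≫ s ≫ iB) * y ^ m := by
    have h1 : (s₀ ≫ homPow τ i₁) ≫ s ≫ iB = (s₀ ≫ homPow τ (i₁ + m)) ≫ s ≫ iB := congrArg (· ≫ s ≫ iB) heq'
    rw [hpwy, hpwy, pow_add] at h1
    generalize hA : y ^ i₁ = A at h1
    generalize hM : y ^ m = M at h1 ⊢
    generalize s₀ ≫ s ≫ iB = a at h1 ⊢
    have h2 : a = M * a * M⁻¹ := by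
      calc a = A⁻¹ * (A * a * A⁻¹) * A := by group
        _ = A⁻¹ * (A * M * a * (A * M)⁻¹) * A := by rw [h1]
        _ = M * a * M⁻¹ := by group
    exact (eq_mul_inv_iff_mul_eq.1 h2).symm
  have hymT : ∀ t : 𝟙_ (Over (Spec (CommRingCat.of k))) ⟶ D, t ≫ homPow τ m = t := fun t => by
    rw [← cancel_mono (s ≫ iB), hpwy]
    have h1 := hs₀ _ (y ^ m) (by rw [hid, Category.id_comp]; exact hym) _ (𝟙 _) t
    rw [Category.id_comp] at h1
    rw [h1, mul_inv_cancel_right]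
  haveI := isMonHom_homNorm hc τ m
  have hfix : ∀ t : 𝟙_ (Over (Spec (CommRingCat.of k))) ⟶ D, (t ≫ homNorm τ m) ≫ τ = t ≫ homNorm τ m := by
    intro t
    have h1 : ∀ i, t * ((t ≫ homNorm τ i) ≫ τ) = t ≫ homNorm τ (i + 1) := by
      intro i
      induction i with
      | zero => simp [homNorm, homPow]
      | succ i ih =>
        show t * ((t ≫ (homNorm τ i * homPow τ i)) ≫ τ) = t ≫ (homNorm τ (i + 1) * homPow τ (i + 1))
        rw [MonObj.comp_mul, MonObj.mul_comp, ← _root_.mul_assoc, ih, MonObj.comp_mul, Category.assoc]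
        rfl
    have h2 := h1 m
    rw [show homNorm τ (m + 1) = homNorm τ m * homPow τ m from rfl, MonObj.comp_mul, hymT, hc (t ≫ homNorm τ m) t] at h2
    exact mul_left_cancel h2
  -- the image of the norm
  obtain ⟨M, _, jM, hjMm, hjMc, g, hgj, hgd, hgq⟩ := GrothLib.AntiAffine.exists_image_subgroup (homNorm τ m)
  haveI := hjMm; haveI := hjMc; haveI := hgd; haveI := hgq
  haveI : Mono jM := Over.mono_of_mono_left jM
  haveI : IsAffine M.left := isAffine_of_isAffineHom jM.left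
  haveI : IsReduced D.left := GrothLib.RedSmooth.isReduced_of_smooth D.hom
  haveI : IsReduced M.left := IsSchemeTheoreticallyDominant.isReduced g.left
  haveI : IsDominant g.left := inferInstance
  haveI : LocallyOfFiniteType M.hom := by rw [← Over.w jM]; infer_instance
  haveI : Smooth M.hom := smooth_of_reduced_grp M
  haveI : ConnectedSpace M.left := by
    haveI := g.left.denseRange.preconnectedSpace g.left.continuous
    exact { toNonempty := ⟨g.left.base (Classical.arbitrary _)⟩ }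
  haveI : IsMonHom (g ≫ jM) := by rw [hgj]; infer_instance
  haveI : IsMonHom g := GrothLib.CentMT14.isMonHom_of_comp g jM
  have hMc : ∀ {X : Over (Spec (CommRingCat.of k))} (a b : X ⟶ M), a * b = b * a := fun a b => by
    rw [← cancel_mono jM, MonObj.mul_comp, MonObj.mul_comp, hc]
  obtain ⟨S, _, U', _, p', s', u', r', hp', hs', hu', hsp', hSt, hSa, hSs, hSconn, hu'c, hup', -, hru', hU'u, hU's, -⟩ :=
    hasSplit_of_solvable (B := M) (isSolvable_of_comm fun a b => hMc a b)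
  haveI := hp'; haveI := hs'; haveI := hu'; haveI := hu'c
  haveI : Mono u' := Over.mono_of_mono_left u'
  have hg : g = g ≫ p' ≫ s' := by
    have e : (g ≫ r') ≫ u' = g * (g ≫ p' ≫ s')⁻¹ := by
      rw [Category.assoc, hru', MonObj.comp_mul, Category.comp_id, GrpObj.comp_inv]
    haveI : IsMonHom ((g ≫ p' ≫ s')⁻¹) := by
      refine GrothLib.GrpSchField.isMonHom_of_mul _ ?_
      rw [show (((g ≫ p' ≫ s')⁻¹) ⊗ₘ ((g ≫ p' ≫ s')⁻¹)) ≫ μ[M] = (fst D D ≫ (g ≫ p' ≫ s')⁻¹) * (snd D D ≫ (g ≫ p' ≫ s')⁻¹) by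
        rw [Hom.mul_def (fst D D ≫ (g ≫ p' ≫ s')⁻¹)]; congr 1,
        GrpObj.comp_inv, GrpObj.comp_inv, GrpObj.comp_inv, ← _root_.mul_inv_rev, hMc (snd D D ≫ g ≫ p' ≫ s'),
        ← MonObj.mul_comp (fst D D) (snd D D), Hom.mul_def, lift_fst_snd, Category.id_comp]
    haveI : IsMonHom ((g ≫ r') ≫ u') := by rw [e]; exact isMonHom_mul_of_comm hMc _ _
    haveI : IsMonHom (g ≫ r') := GrothLib.CentMT14.isMonHom_of_comp (g ≫ r') u'
    rw [hU'u.torus_hom_eq_one hDt (g ≫ r'), MonObj.one_comp, eq_comm, mul_inv_eq_one] at e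
    exact e
  haveI : IsSplitMono s' := IsSplitMono.mk' ⟨p', hsp'⟩
  let iS : S ⟶ G := s' ≫ jM ≫ s ≫ iB
  haveI : IsMonHom iS := inferInstanceAs (IsMonHom (s' ≫ jM ≫ s ≫ iB))
  haveI : Mono iS := inferInstanceAs (Mono (s' ≫ jM ≫ s ≫ iB))
  have hNS : ∀ t : 𝟙_ (Over (Spec (CommRingCat.of k))) ⟶ D,
      (t ≫ homNorm τ m) ≫ s ≫ iB = (t ≫ g ≫ p') ≫ iS := fun t => by
    rw [← hgj]
    conv_lhs => rw [hg]
    simp only [iS, Category.assoc]
  by_cases hcent : ∀ (a : 𝟙_ (Over (Spec (CommRingCat.of k))) ⟶ G) (X : Over (Spec (CommRingCat.of k))) (t : X ⟶ S),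
      (toUnit X ≫ a) * (t ≫ iS) = (t ≫ iS) * (toUnit X ≫ a)
  · refine mem_borel_of_central_norms hB p s u r hru hUu y σ hσ σ' hσ' τ hτ hm fun t a => ?_
    rw [hNS]
    have := hcent a _ (t ≫ g ≫ p')
    rwa [hid, Category.id_comp] at this
  -- reduce to the centralizer
  obtain ⟨C, _, c, hC, -⟩ := GrothLib.MultDef14.exists_centralizer
    (GrothLib.DiagGrp.hasChartsFpqc_of_isTorus hSt) (inferInstance : Smooth G.hom) (isAffineHom_of_isAffine _) iS
  obtain ⟨hcc, hCa, hCs, hCconn⟩ := centralizer_facts iS hSt hC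
  haveI := hcc; haveI := hCa; haveI := hCs; haveI := hCconn
  obtain ⟨hcm, hcmono, hciff⟩ := id hC
  haveI := hcm; haveI := hcmono
  haveI : IrreducibleSpace G.left := GrothLib.Rigidity.irreducibleSpace_of_connected G
  haveI : IrreducibleSpace C.left := GrothLib.Rigidity.irreducibleSpace_of_connected C
  have hne : Set.range c.left.base ≠ Set.univ := fun hu => hcent fun a X t => by
    obtain ⟨v, -, hv⟩ := exists_cl_lift c (E := Set.univ) isClosed_univ.isLocallyClosed (w := a)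
      (by rw [Set.image_univ, hu]; trivial)
    have := (hciff _ a).1 ⟨v, hv⟩ X (toUnit X) t
    exact this
  obtain ⟨a₁, ha₁⟩ := Kleiman27.exists_nat C.hom isClosed_univ (IrreducibleSpace.isIrreducible_univ C.left)
  rw [(Homeomorph.Set.univ C.left).isHomeomorph.topologicalKrullDim_eq] at ha₁
  have ha₂ : topologicalKrullDim ↥(Set.range c.left.base) = (a₁ : WithBot ℕ∞) := by
    rw [← ha₁]
    exact (c.left.isEmbedding.toHomeomorph.isHomeomorph.topologicalKrullDim_eq).symm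
  have hlt : a₁ < n := by
    by_contra hle
    refine hne (Dim.eq_univ_of_dim_le c.left.isClosedEmbedding.isClosed_range ?_ ha₂)
    rw [ha₂]
    exact hdim.trans (by exact_mod_cast Nat.le_of_not_lt hle)
  -- the point lies in the centralizer
  have hyj : AGF.conjBy y (jM ≫ s ≫ iB) = jM ≫ s ≫ iB := by
    refine Over.OverMorphism.ext (ext_of_isDominant g.left ?_)
    rw [← Over.comp_left, ← Over.comp_left]
    refine congrArg Over.Hom.left (GrothLib.Rigidity.ext_of_points _ _ fun t => ?_)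
    rw [comp_conjBy', comp_conjBy', conjBy_pt, reassoc_of% hgj, ← Category.assoc t, ← hτpt, hfix]
  have hyS : AGF.conjBy y iS = iS := by
    show AGF.conjBy y (s' ≫ jM ≫ s ≫ iB) = _
    rw [← comp_conjBy', hyj]
  obtain ⟨yC, hyC⟩ := exists_lift_centralizer hC y hyS
  obtain ⟨_, hEm⟩ : ∃ _ : GrpObj (pullback c iB), IsMonHom (pullback.fst c iB) :=
    GrothLib.EssFree.exists_grpObj_of_mono (pullback.fst c iB)
      (fun X => ⟨pullback.lift 1 1 (by rw [MonObj.one_comp, MonObj.one_comp]), pullback.lift_fst _ _ _⟩)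
      (fun X a b => ⟨pullback.lift ((a ≫ pullback.fst c iB) * (b ≫ pullback.fst c iB))
        ((a ≫ pullback.snd c iB) * (b ≫ pullback.snd c iB))
        (by simp only [MonObj.mul_comp, Category.assoc, pullback.condition]), pullback.lift_fst _ _ _⟩)
      (fun X a => ⟨pullback.lift (a ≫ pullback.fst c iB)⁻¹ (a ≫ pullback.snd c iB)⁻¹
        (by simp only [GrpObj.inv_comp, Category.assoc, pullback.condition]), pullback.lift_fst _ _ _⟩)
  haveI := hEm
  have hE := isBorelOver_inter iS hSt hC hB (s' ≫ jM ≫ s) (by simp only [iS, Category.assoc])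
    (pullback.fst c iB) (pullback.snd c iB) (IsPullback.of_hasPullback c iB)
  have ec : ∀ (a : 𝟙_ (Over (Spec (CommRingCat.of k))) ⟶ C),
      AGF.conjBy a (𝟙 C) ≫ c = c ≫ AGF.conjBy (a ≫ c) (𝟙 G) := fun a => by
    rw [comp_conjBy', Category.comp_id]
    simp only [AGF.conjBy, MonObj.mul_comp, GrpObj.inv_comp, Category.assoc, Category.id_comp]
  have hlift : ∀ (a : 𝟙_ (Over (Spec (CommRingCat.of k))) ⟶ C) (φ : B ⟶ B), φ ≫ iB = AGF.conjBy (a ≫ c) iB →
      ∃ ψ : pullback c iB ⟶ pullback c iB, ψ ≫ pullback.fst c iB = AGF.conjBy a (pullback.fst c iB) :=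
    fun a φ hφ => ⟨pullback.lift (AGF.conjBy a (pullback.fst c iB)) (pullback.snd c iB ≫ φ) (by
      rw [conjBy_eq_comp, Category.assoc, ec, Category.assoc, hφ, ← Category.assoc, pullback.condition,
        Category.assoc, conjBy_eq_comp (a ≫ c) iB]), pullback.lift_fst _ _ _⟩
  obtain ⟨ψ, hψ⟩ := hlift yC σ (by rw [hyC, hσ])
  obtain ⟨ψ', hψ'⟩ := hlift yC⁻¹ σ' (by rw [GrpObj.inv_comp, hyC, hσ'])
  obtain ⟨b, hb⟩ := IH a₁ hlt C ha₁.le (pullback.fst c iB) hE yC ψ ψ' hψ hψ'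
  exact ⟨b ≫ pullback.snd c iB, by rw [Category.assoc, ← pullback.condition, reassoc_of% hb, hyC]⟩

/-- A point normalizing a Borel subgroup lies in it. -/
theorem mem_borel_of_normalize {G : Over (Spec (CommRingCat.of k))} [GrpObj G] [IsAffine G.left] [Smooth G.hom]
    [ConnectedSpace G.left] {B : Over (Spec (CommRingCat.of k))} [GrpObj B] {iB : B ⟶ G} (hB : Red.IsBorelOver k iB)
    (x : 𝟙_ (Over (Spec (CommRingCat.of k))) ⟶ G) (σ σ' : B ⟶ B) (hσ : σ ≫ iB = AGF.conjBy x iB)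
    (hσ' : σ' ≫ iB = AGF.conjBy x⁻¹ iB) : ∃ b : 𝟙_ (Over (Spec (CommRingCat.of k))) ⟶ B, b ≫ iB = x := by
  haveI : IrreducibleSpace G.left := GrothLib.Rigidity.irreducibleSpace_of_connected G
  obtain ⟨n, hn⟩ := Kleiman27.exists_nat G.hom isClosed_univ (IrreducibleSpace.isIrreducible_univ G.left)
  rw [(Homeomorph.Set.univ G.left).isHomeomorph.topologicalKrullDim_eq] at hn
  exact mem_borel_of_normalize_aux n G hn.le iB hB x σ σ' hσ hσ'

end GrothLib.Flag27
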