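import Groth.Agent.Lib.Flag27.BorelUnion
import Groth.Agent.Lib.Induce27.Obs
import Groth.Agent.Lib.Induce27.QuotAffine
import Groth.Agent.Lib.Rigidity.Field

/-!
# Subgroups containing a Borel subgroup on which the characters are central
-/

set_option autoImplicit false
set_option linter.all false
set_option backward.isDefEq.respectTransparency false

universe u

open CategoryTheory MonoidalCategory CartesianMonoidalCategory MonObj GrpObj AlgebraicGeometry VecGrp
open scoped TensorProduct

noncomputable section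

namespace GrothLib.Flag27

open GrothLib.Repr GrothLib.Induce27 Groth.Agent.S11191

variable {k : Type u} [Field k] [IsAlgClosed k]
  {G : Over (Spec (CommRingCat.of k))} [GrpObj G] [IsAffine G.left] [Smooth G.hom] [ConnectedSpace G.left]

set_option maxHeartbeats 800000 in
/-- Functions invariant under a Borel subgroup are constant. -/
theorem valAt_const_of_invariant {B : Over (Spec (CommRingCat.of k))} [GrpObj B] {iB : B ⟶ G}
    (hB : Red.IsBorelOver k iB) (F : Fn G)
    (hF : ∀ (x : pt k k ⟶ G) (b : pt k k ⟶ B), valAt (x * (b ≫ iB)) F = valAt x F) (x y : pt k k ⟶ G) :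
    valAt x F = valAt y F := by
  obtain ⟨hi, hic, hBsm, hBconn, -⟩ := id hB
  haveI := hi; haveI := hic; haveI := hBsm; haveI := hBconn
  haveI : IsAffine B.left := isAffine_of_isAffineHom iB.left
  obtain ⟨X, a, o, hX, hXp⟩ := isProper_quotient_good (uc_of_borel hB)
  haveI := hXp
  obtain ⟨hXl, hXf, hXs, hpb⟩ := id hX
  haveI := hXl; haveI := hXf; haveI := hXs
  let φ := a.orbitMap o
  haveI := lfp_orbit φ
  haveI : Smooth (G ⊗ B).hom := inferInstance
  haveI := isAffine_tensor (G := G) (T := B)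
  let R := MvPolynomial PUnit.{u+1} k
  let θ : R →ₐ[k] Fn G := MvPolynomial.aeval fun _ => F
  let l : G ⟶ pt k R := (affIso G).hom ≫ ptMap θ
  haveI : IsAffine (pt k R).left := inferInstanceAs (IsAffine (Spec (CommRingCat.of R)))
  have hval : ∀ (z : pt k k ⟶ G) (r : R), valAt (z ≫ l) (fnPt k R r) = valAt z (θ r) := by
    intro z r
    conv_lhs => rw [eq_of_affine z]
    simp only [l, Category.assoc, Iso.inv_hom_id_assoc]
    rw [valAt_comp, fnMap_ptMap, valAt_ptMap]
  have hlinv : ((G ◁ iB) ≫ μ[G]) ≫ l = fst G B ≫ l := by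
    refine Over.OverMorphism.ext (ext_of_isAffine ?_)
    ext f
    obtain ⟨r, rfl⟩ := (fnPtEquiv k R).surjective (f : Fn (pt k R))
    show fnMap (((G ◁ iB) ≫ μ[G]) ≫ l) (fnPt k R r) = fnMap (fst G B ≫ l) (fnPt k R r)
    refine ext_valAt fun p => ?_
    rw [← valAt_comp, ← valAt_comp]
    obtain ⟨z, t, rfl⟩ : ∃ z t, p = lift z t :=
      ⟨p ≫ fst G B, p ≫ snd G B, by apply CartesianMonoidalCategory.hom_ext <;> simp⟩
    simp only [← Category.assoc]
    rw [lift_fst, lift_whiskerLeft, ← Hom.mul_def, hval, hval]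
    have e : (valAt (z * (t ≫ iB))).comp θ = (valAt z).comp θ := MvPolynomial.algHom_ext fun j => by
      simp only [θ, AlgHom.comp_apply, MvPolynomial.aeval_X]
      exact hF z t
    exact DFunLike.congr_fun e r
  obtain ⟨q, hq⟩ := GrothLib.DiagGrp.exists_desc φ l fun T y y' hyy => by
    obtain ⟨m, hm1, hm2⟩ : ∃ m : T ⟶ G ⊗ B, m ≫ fst G B = y ∧ m ≫ (G ◁ iB) ≫ μ[G] = y' :=
      ⟨hpb.lift y y' hyy, hpb.lift_fst _ _ _, hpb.lift_snd _ _ _⟩
    rw [← hm1, ← hm2, Category.assoc, Category.assoc, hlinv]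
  haveI : IsReduced G.left := GrothLib.RedSmooth.isReduced_of_smooth G.hom
  haveI : IsReduced X.left := GrothLib.FlatFactor.isReduced_of_flat_surjective φ.left
  haveI : IrreducibleSpace G.left := GrothLib.Rigidity.irreducibleSpace_of_connected G
  haveI : IrreducibleSpace X.left := by
    haveI : Nonempty X.left := ⟨φ.left.base (Classical.arbitrary _)⟩
    have h := (IrreducibleSpace.isIrreducible_univ G.left).image φ.left.base φ.left.continuous.continuousOn
    rw [Set.image_univ, φ.left.surjective.range_eq] at h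
    exact { toPreirreducibleSpace := ⟨h.2⟩, toNonempty := inferInstance }
  haveI : IsIntegral X.left := isIntegral_of_irreducibleSpace_of_isReduced _
  have hconst := GrothLib.Rigidity.eq_comp_section_of_isAffine X.hom o.left (Over.w o) q.left
  have hz : ∀ z : pt k k ⟶ G, z ≫ l = ptOne.hom ≫ o ≫ q := fun z => by
    rw [← hq, ← Category.assoc]
    refine Over.OverMorphism.ext ?_
    rw [Over.comp_left, hconst, ← Category.assoc, Over.w (z ≫ φ), Over.comp_left, Over.comp_left,
      show (pt k k).hom = ptOne.hom.left from (Over.w ptOne.hom).symm.trans (Category.comp_id _)]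
  have h1 := hval x (MvPolynomial.X PUnit.unit)
  have h2 := hval y (MvPolynomial.X PUnit.unit)
  have eX : θ (MvPolynomial.X PUnit.unit) = F := MvPolynomial.aeval_X _ _
  rw [eX] at h1 h2
  rw [← h1, ← h2, hz, hz]

set_option maxHeartbeats 1600000 in
/-- A subgroup containing a Borel subgroup all of whose characters are central there up to torsion is everything. -/
theorem forall_mem_of_central {B : Over (Spec (CommRingCat.of k))} [GrpObj B] {iB : B ⟶ G}
    (hB : Red.IsBorelOver k iB) {H : Over (Spec (CommRingCat.of k))} [GrpObj H] (iH : H ⟶ G) [IsMonHom iH]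
    [IsClosedImmersion iH.left] [Smooth H.hom] (j : B ⟶ H) (hj : j ≫ iH = iB) {m : ℕ} (hm : 0 < m)
    (hkey : ∀ b : pt k k ⟶ B, ∃ z : pt k k ⟶ H, (∀ g : pt k k ⟶ G, g * (z ≫ iH) = (z ≫ iH) * g) ∧
      ∀ w : Fn H, (∀ h : pt k k ⟶ H, valAt h w ≠ (0 : k)) →
        (∀ h h' : pt k k ⟶ H, valAt (h * h') w = valAt h w * valAt h' w) →
        valAt (b ≫ j) w ^ m = valAt z w)
    (g : pt k k ⟶ G) : ∃ h : pt k k ⟶ H, h ≫ iH = g := by
  classical
  haveI : IsAffine H.left := isAffine_of_isAffineHom iH.left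
  haveI : IsAffineHom G.hom := inferInstance
  obtain ⟨u, hu0, humul, -, hdet⟩ := exists_key (k := k) iH
  refine hdet g fun D hD hD1 => ?_
  rw [mem_semi_iff] at hD
  obtain ⟨N, hNfin, -, hNG, -, hmem⟩ := exists_stable_fn (i := iH) ({D} : Finset (Fn G))
  haveI := hNfin
  let W : Submodule k (Fn G) := Submodule.span k (Set.range fun x : pt k k ⟶ G => rt x D)
  have hWN : W ≤ N := Submodule.span_le.2 (by
    rintro _ ⟨x, rfl⟩; exact hNG x D (hmem D (Finset.mem_singleton_self D)))
  haveI : Module.Finite k W := Module.Finite.of_injective (Submodule.inclusion hWN) (Submodule.inclusion_injective _)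
  let b₀ := Module.finBasis k W
  let c : Fin (Module.finrank k W) → Fn G := fun a => (b₀ a : Fn G)
  have hc : LinearIndependent k c := b₀.linearIndependent.map' _ (Submodule.ker_subtype _)
  let d := Module.finrank k W
  by_cases hd : d = 0
  · haveI : Subsingleton W := Module.finrank_zero_iff.1 hd
    have h0 : (⟨rt 1 D, Submodule.subset_span ⟨1, rfl⟩⟩ : W) = 0 := Subsingleton.elim _ _
    have h1 : valAt g (rt 1 D) = 0 := by
      rw [show rt 1 D = 0 from congrArg Subtype.val h0, map_zero]
    rwa [valAt_rt, _root_.mul_one] at h1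
  obtain ⟨p, hp⟩ := exists_minor_ne_zero hc (1 : pt k k ⟶ G)
  let Δ := minor c p
  -- right translation on `W`
  have hWrt : ∀ (x : pt k k ⟶ G), ∀ f ∈ W, rt x f ∈ W := fun x f hf => by
    induction hf using Submodule.span_induction with
    | mem f hf =>
      obtain ⟨y, rfl⟩ := hf
      refine Submodule.subset_span ⟨x * y, ext_valAt fun z => ?_⟩
      show valAt z (rt (x * y) D) = valAt z (rt x (rt y D))
      simp only [valAt_rt, _root_.mul_assoc]
    | zero => rw [map_zero]; exact zero_mem _
    | add a a' _ _ ha ha' => rw [map_add]; exact add_mem ha ha'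
    | smul r a _ ha => rw [map_smul]; exact Submodule.smul_mem _ r ha
  let R : (pt k k ⟶ G) → W →ₗ[k] W := fun x => (rt x).toLinearMap.restrict (hWrt x)
  have hR : ∀ x y : pt k k ⟶ G, R (x * y) = R x * R y := fun x y => LinearMap.ext fun f => Subtype.ext (ext_valAt fun z => by
    simp only [R, LinearMap.restrict_coe_apply, Module.End.mul_apply, AlgHom.toLinearMap_apply, valAt_rt,
      _root_.mul_assoc])
  let lam : (pt k k ⟶ G) → k := fun x => LinearMap.det (R x)
  have hlam : ∀ x y, valAt (y * x) Δ = lam x * valAt y Δ := by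
    intro x y
    simp only [Δ, valAt_minor]
    let C := LinearMap.toMatrix b₀ b₀ (R x)
    have e : (Matrix.of fun a a' => valAt (p a * (y * x)) (c a')) =
        (Matrix.of fun a a' => valAt (p a * y) (c a')) * C := by
      ext a a'
      have h1 : rt x (c a') = ∑ l, C l a' • c l := by
        have h2 := congrArg W.subtype (b₀.sum_repr (R x (b₀ a')))
        rw [map_sum] at h2
        refine Eq.trans h2.symm ?_
        refine Finset.sum_congr rfl fun l _ => ?_
        simp [C, c, LinearMap.toMatrix_apply]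
      rw [Matrix.of_apply, ← _root_.mul_assoc, ← valAt_rt, h1, map_sum, Matrix.mul_apply]
      refine Finset.sum_congr rfl fun l _ => ?_
      rw [map_smul, smul_eq_mul, Matrix.of_apply, mul_comm]
    rw [e, Matrix.det_mul, mul_comm, LinearMap.det_toMatrix]
  have hR1 : R 1 = 1 := LinearMap.ext fun f => Subtype.ext (ext_valAt fun z => by
    simp only [R, LinearMap.restrict_coe_apply, Module.End.one_apply, AlgHom.toLinearMap_apply, valAt_rt,
      _root_.mul_one])
  have hlam1 : lam 1 = 1 := by simp only [lam, hR1, map_one]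
  have hlammul : ∀ x y, lam (x * y) = lam x * lam y := fun x y => by simp only [lam, hR, map_mul]
  have hlam0 : ∀ x, lam x ≠ 0 := fun x h0 => one_ne_zero (α := k) (by
    rw [← hlam1, ← inv_mul_cancel x, hlammul, h0, mul_zero])
  have hΔ : ∀ x, valAt x Δ = lam x * valAt (1 : pt k k ⟶ G) Δ := fun x => by
    conv_lhs => rw [← _root_.one_mul x]
    exact hlam x 1
  have hΔ0 : ∀ x : pt k k ⟶ G, valAt x Δ ≠ 0 := fun x => by rw [hΔ]; exact mul_ne_zero (hlam0 x) hp
  let uΔ := (isUnit_of_valAt hΔ0).unit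
  have hinv : ∀ x : pt k k ⟶ G, valAt x (↑uΔ⁻¹ : Fn G) = (valAt x Δ)⁻¹ := fun x => by
    refine eq_inv_of_mul_eq_one_left ?_
    rw [← map_mul, IsUnit.val_inv_mul, map_one]
  let F : Fn G := (D ^ d * (↑uΔ⁻¹ : Fn G)) ^ m
  have hFval : ∀ x : pt k k ⟶ G, valAt x F = (valAt x D ^ d * (valAt x Δ)⁻¹) ^ m := fun x => by
    simp only [F, map_pow, map_mul, hinv]
  have hFinv : ∀ (x : pt k k ⟶ G) (b : pt k k ⟶ B), valAt (x * (b ≫ iB)) F = valAt x F := by
    intro x b
    obtain ⟨z, hzc, hzw⟩ := hkey b
    have hub : valAt (b ≫ j) u ^ m = valAt z u := hzw u hu0 humul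
    let w : Fn H := (valAt (1 : pt k k ⟶ G) Δ)⁻¹ • fnMap iH Δ
    have hwv : ∀ h : pt k k ⟶ H, valAt h w = lam (h ≫ iH) := fun h => by
      show valAt h (_ • fnMap iH Δ) = _
      rw [map_smul, ← valAt_comp, hΔ (h ≫ iH), smul_eq_mul, mul_comm, mul_inv_cancel_right₀ hp]
    have hwb : valAt (b ≫ j) w ^ m = valAt z w := hzw w (fun h => by rw [hwv]; exact hlam0 _)
      (fun h h' => by rw [hwv, hwv, hwv, MonObj.mul_comp, hlammul])
    rw [hwv, hwv, Category.assoc, hj] at hwb
    -- the central point acts by a scalar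
    have hRz : R (z ≫ iH) = valAt z u • (1 : W →ₗ[k] W) := by
      refine LinearMap.ext fun f => ?_
      obtain ⟨f, hf⟩ := f
      refine Subtype.ext ?_
      show rt (z ≫ iH) f = valAt z u • f
      induction hf using Submodule.span_induction with
      | mem f hf =>
        obtain ⟨y, rfl⟩ := hf
        refine ext_valAt fun s => ?_
        rw [valAt_rt, valAt_rt, map_smul, valAt_rt, _root_.mul_assoc, ← hzc y, ← _root_.mul_assoc, hD, smul_eq_mul]
      | zero => rw [map_zero, smul_zero]
      | add a a' _ _ ha ha' => rw [map_add, ha, ha', smul_add]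
      | smul r a _ ha => rw [map_smul, ha, smul_comm]
    have hlz : lam (z ≫ iH) = valAt z u ^ d := by
      simp only [lam, hRz, LinearMap.det_smul, map_one, _root_.mul_one, d]
    have hDb : valAt (x * (b ≫ iB)) D = valAt (b ≫ j) u * valAt x D := by
      rw [← hj, ← Category.assoc]; exact hD x (b ≫ j)
    have hone : (valAt (b ≫ j) u ^ d * (lam (b ≫ iB))⁻¹) ^ m = 1 := by
      rw [mul_pow, ← pow_mul, mul_comm d m, pow_mul, inv_pow, hub, hwb, hlz, mul_inv_cancel₀ (pow_ne_zero _ (hu0 z))]
    have hsplit : (valAt (b ≫ j) u * valAt x D) ^ d * (lam (b ≫ iB) * valAt x Δ)⁻¹ =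
        (valAt (b ≫ j) u ^ d * (lam (b ≫ iB))⁻¹) * (valAt x D ^ d * (valAt x Δ)⁻¹) := by
      rw [mul_pow, _root_.mul_inv]; ring
    rw [hFval, hFval, hDb, hlam, hsplit, mul_pow, hone, _root_.one_mul]
  have hFg := valAt_const_of_invariant hB F hFinv g 1
  rw [hFval, hFval, hD1, zero_pow hd, zero_mul, zero_pow hm.ne', pow_eq_zero_iff hm.ne', mul_eq_zero,
    inv_eq_zero, pow_eq_zero_iff hd] at hFg
  exact hFg.resolve_right (hΔ0 g)

end GrothLib.Flag27
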