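import Groth.Agent.Lib.Flag27.Normalizer
import Groth.Agent.Lib.MultDef14.Sub
import Groth.Agent.Lib.SecLocus.NormCent

/-!
# The normalizer of a Borel subgroup is reduced
-/

set_option autoImplicit false
set_option linter.all false
set_option backward.isDefEq.respectTransparency false

universe u

open CategoryTheory CategoryTheory.Limits MonoidalCategory CartesianMonoidalCategory MonObj GrpObj AlgebraicGeometry
open scoped TensorProduct

noncomputable section

namespace GrothLib.Flag27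

open GrothLib.MultDef14

variable {k : Type u} [Field k] [IsAlgClosed k] {G : Over (Spec (CommRingCat.of k))} [GrpObj G] [IsAffine G.left]
  [Smooth G.hom] [ConnectedSpace G.left] {B : Over (Spec (CommRingCat.of k))} [GrpObj B]

/-- A point carrying a subgroup into itself. -/
def Carries {Z : Over (Spec (CommRingCat.of k))} (iB : B ⟶ G) (g : Z ⟶ G) : Prop :=
  ∀ (Y : Over (Spec (CommRingCat.of k))) (p : Y ⟶ Z) (b : Y ⟶ B),
    ∃ b' : Y ⟶ B, b' ≫ iB = (p ≫ g) * (b ≫ iB) * (p ≫ g)⁻¹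

theorem Carries.comp {Z W : Over (Spec (CommRingCat.of k))} {iB : B ⟶ G} {g : Z ⟶ G} (h : Carries iB g) (w : W ⟶ Z) :
    Carries iB (w ≫ g) := fun Y p b => by
  obtain ⟨b', hb'⟩ := h Y (p ≫ w) b
  exact ⟨b', by rw [hb', Category.assoc]⟩

set_option maxHeartbeats 1600000 in
/-- The square-zero step. -/
theorem mem_borel_step {iB : B ⟶ G} (hB : Red.IsBorelOver k iB) {R : Type u} [CommRing R]
    (q : Spec (CommRingCat.of R) ⟶ Spec (CommRingCat.of k)) (J : Ideal R) (hJ : J ^ 2 = ⊥) (g : aff q R ⟶ G)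
    (hg : Carries iB g) (h0 : ∃ b₀ : aff q (R ⧸ J) ⟶ B, b₀ ≫ iB = affMap q (Ideal.Quotient.mkₐ R J) ≫ g) :
    ∃ b : aff q R ⟶ B, b ≫ iB = g := by
  obtain ⟨hBm, hBc, hBsm, hBconn, hBsolv, -⟩ := id hB
  haveI := hBm; haveI := hBc; haveI := hBsm; haveI := hBconn
  haveI : Mono iB := Over.mono_of_mono_left iB
  haveI : IsAffine B.left := isAffine_of_isAffineHom iB.left
  obtain ⟨D, _, U, _, p, s, u, r, hp, hs, hu, hsp, hDt, hDa, hDs, -, huc, hup, -, hru, hUu, hUs, -⟩ :=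
    hasSplit_of_solvable (isSolvable_points hBsolv)
  haveI := hp; haveI := hs; haveI := hu; haveI := huc; haveI := hUs; haveI := hDa; haveI := hDs
  haveI : IsSplitMono s := IsSplitMono.mk' ⟨p, hsp⟩
  have hmax := isMaxTorus_section hB p s u r hsp hup hru hUu hDt
  have hH := GrothLib.DiagGrp.hasChartsFpqc_of_isTorus hDt
  obtain ⟨b₀, hb₀⟩ := h0
  obtain ⟨β, hβ⟩ := exists_lift_point ((Groth.Agent.S1488.result B.hom).mp hBsm).2 q J hJ b₀
  -- reduce to a point which is trivial modulo the ideal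
  let g' : aff q R ⟶ G := (β ≫ iB)⁻¹ * g
  have hg'0 : affMap q (Ideal.Quotient.mkₐ R J) ≫ g' = 1 := by
    simp only [g', MonObj.comp_mul, GrpObj.comp_inv]
    rw [← Category.assoc, hβ, hb₀, inv_mul_cancel]
  obtain ⟨A, _, _, h, huniv⟩ := exists_isUniv q D (EssFree.isAffineHom_of_charts hH)
  let P := affMap q (Algebra.ofId R A)
  obtain ⟨a₁, ha₁⟩ := hg _ P (h ≫ s)
  let a : aff q A ⟶ B := (P ≫ β)⁻¹ * a₁ * (P ≫ β)
  have ha : a ≫ iB = (P ≫ g') * ((h ≫ s) ≫ iB) * (P ≫ g')⁻¹ := by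
    simp only [a, g', MonObj.mul_comp, GrpObj.inv_comp, ha₁, MonObj.comp_mul, GrpObj.comp_inv, Category.assoc]
    group
  haveI : IsMonHom (s ≫ iB) := inferInstance
  have hahom : IsHomPt h a := by
    have h1 := isHomPt_conj (s ≫ iB) h (AlgHom.id R A) g'
    rw [affMap_id, Category.id_comp, ← Category.assoc h s iB, ← ha] at h1
    intro B' _ _ f g k e
    have h2 := h1 B' f g k e
    rw [← cancel_mono iB, MonObj.mul_comp, Category.assoc, Category.assoc, Category.assoc]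
    exact h2
  have h00 : affMap q (Ideal.Quotient.mkₐ R (J.map (algebraMap R A))) ≫ a =
      affMap q (Ideal.Quotient.mkₐ R (J.map (algebraMap R A))) ≫ h ≫ s := by
    have e : (quotA (A := A) J).comp (Ideal.Quotient.mkₐ R J) =
        (Ideal.Quotient.mkₐ R (J.map (algebraMap R A))).comp (Algebra.ofId R A) := AlgHom.ext fun _ => rfl
    rw [← cancel_mono iB, Category.assoc, ha]
    simp only [P, MonObj.comp_mul, GrpObj.comp_inv, affMap_comp_assoc, ← e]
    rw [← affMap_comp_assoc, hg'0, MonObj.comp_one, _root_.one_mul, inv_one, _root_.mul_one]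
    simp only [Category.assoc]
  obtain ⟨x, -, hx⟩ := exists_conjPt_step hH huniv J hJ (h ≫ s) a (IsHomPt.of_hom h s) hahom h00
  -- the quotient centralizes the torus
  let z : aff q R ⟶ G := (x ≫ iB)⁻¹ * g'
  obtain ⟨C, _, c, hC, -⟩ := GrothLib.MultDef14.exists_centralizer hH (inferInstance : Smooth G.hom)
    (isAffineHom_of_isAffine _) (s ≫ iB)
  obtain ⟨hTm, hTmono, -, -⟩ := id hmax
  haveI := hTm; haveI := hTmono
  obtain ⟨fC, hfC⟩ := exists_factor_centralizer hmax hC hB s rfl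
  have hzc : (P ≫ z) * (h ≫ s ≫ iB) * (P ≫ z)⁻¹ = h ≫ s ≫ iB := by
    have h1 := congrArg (· ≫ iB) hx
    simp only [ha, MonObj.mul_comp, GrpObj.inv_comp, Category.assoc] at h1
    simp only [z, MonObj.comp_mul, GrpObj.comp_inv, _root_.mul_inv_rev, _root_.inv_inv]
    calc (P ≫ x ≫ iB)⁻¹ * (P ≫ g') * (h ≫ s ≫ iB) * ((P ≫ g')⁻¹ * (P ≫ x ≫ iB))
        = (P ≫ x ≫ iB)⁻¹ * ((P ≫ g') * (h ≫ s ≫ iB) * (P ≫ g')⁻¹) * (P ≫ x ≫ iB) := by group
      _ = h ≫ s ≫ iB := by rw [h1]; simp only [P]; group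
  obtain ⟨zC, hzC⟩ := (hC.2.2 _ z).2 fun Y p y => by
    obtain ⟨t, htp, hty⟩ := huniv.factor Y p y
    have h2 := congrArg (t ≫ ·) hzc
    simp only [MonObj.comp_mul, GrpObj.comp_inv] at h2
    rw [← Category.assoc t P, show t ≫ P = p from htp, ← Category.assoc t h, hty, mul_inv_eq_iff_eq_mul] at h2
    exact h2
  refine ⟨β * (x * (zC ≫ fC)), ?_⟩
  rw [MonObj.mul_comp, MonObj.mul_comp, Category.assoc, hfC, hzC]
  simp only [z, g', mul_inv_cancel_left]

set_option maxHeartbeats 800000 in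
/-- The step along nilpotent ideals. -/
theorem mem_borel_nilpotent {iB : B ⟶ G} (hB : Red.IsBorelOver k iB) : ∀ (n : ℕ) {R : Type u} [CommRing R]
    (q : Spec (CommRingCat.of R) ⟶ Spec (CommRingCat.of k)) (J : Ideal R), J ^ n = ⊥ → ∀ (g : aff q R ⟶ G),
    Carries iB g → (∃ b₀ : aff q (R ⧸ J) ⟶ B, b₀ ≫ iB = affMap q (Ideal.Quotient.mkₐ R J) ≫ g) →
    ∃ b : aff q R ⟶ B, b ≫ iB = g := by
  intro n
  induction n with
  | zero =>
    intro R _ q J hJ g hg h0
    exact mem_borel_step hB q J (le_bot_iff.mp (hJ ▸ Ideal.pow_le_pow_right (Nat.zero_le 2))) g hg h0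
  | succ n IH =>
    intro R _ q J hJ g hg h0
    by_cases hn : n ≤ 1
    · exact mem_borel_step hB q J (le_bot_iff.mp (hJ ▸ Ideal.pow_le_pow_right (by omega))) g hg h0
    let I := J ^ n
    have hIJ : I ≤ J := Ideal.pow_le_self (by omega)
    have hI2 : I ^ 2 = ⊥ := le_bot_iff.mp (hJ ▸ by rw [← pow_mul]; exact Ideal.pow_le_pow_right (by omega))
    let q' : Spec (CommRingCat.of (R ⧸ I)) ⟶ Spec (CommRingCat.of k) :=
      Spec.map (CommRingCat.ofHom (Ideal.Quotient.mk I)) ≫ q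
    let J' : Ideal (R ⧸ I) := J.map (Ideal.Quotient.mk I)
    have hJ' : J' ^ n = ⊥ := by rw [← Ideal.map_pow]; exact Ideal.map_quotient_self I
    let e := DoubleQuot.quotQuotEquivQuotOfLE hIJ
    let k₀ : aff q' (R ⧸ I) ⟶ aff q R := Over.homMk (Spec.map (CommRingCat.ofHom (Ideal.Quotient.mk I))) (by
      change Spec.map _ ≫ Spec.map _ ≫ q = Spec.map _ ≫ Spec.map _ ≫ q
      rw [← Spec.map_comp_assoc, ← Spec.map_comp_assoc, ← CommRingCat.ofHom_comp, ← CommRingCat.ofHom_comp]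
      rfl)
    let k₁ : aff q' ((R ⧸ I) ⧸ J') ⟶ aff q (R ⧸ J) := Over.homMk (Spec.map (CommRingCat.ofHom e.symm.toRingHom)) (by
      change Spec.map _ ≫ Spec.map _ ≫ q = Spec.map _ ≫ Spec.map _ ≫ q
      rw [← Spec.map_comp_assoc, ← Spec.map_comp_assoc, ← CommRingCat.ofHom_comp, ← CommRingCat.ofHom_comp]
      rfl)
    have hk : affMap q' (Ideal.Quotient.mkₐ (R ⧸ I) J') ≫ k₀ = k₁ ≫ affMap q (Ideal.Quotient.mkₐ R J) :=
      Over.OverMorphism.ext (by
        change Spec.map _ ≫ Spec.map _ = Spec.map _ ≫ Spec.map _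
        rw [← Spec.map_comp, ← Spec.map_comp, ← CommRingCat.ofHom_comp, ← CommRingCat.ofHom_comp]
        rfl)
    obtain ⟨b₀, hb₀⟩ := h0
    obtain ⟨b', hb'⟩ := IH q' J' hJ' (k₀ ≫ g) (hg.comp k₀)
      ⟨k₁ ≫ b₀, by rw [Category.assoc, hb₀, ← Category.assoc, ← hk, Category.assoc]⟩
    let k₂ : aff q (R ⧸ I) ⟶ aff q' (R ⧸ I) := Over.homMk (𝟙 _) (by
      change 𝟙 _ ≫ Spec.map _ ≫ Spec.map _ ≫ q = Spec.map _ ≫ q
      rw [Category.id_comp, ← Spec.map_comp_assoc, ← CommRingCat.ofHom_comp]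
      rfl)
    refine mem_borel_step hB q I hI2 g hg ⟨k₂ ≫ b', ?_⟩
    rw [Category.assoc, hb', ← Category.assoc]
    congr 1

set_option maxHeartbeats 800000 in
/-- The normalizer of a Borel subgroup is the Borel subgroup. -/
theorem exists_factor_normalizer {iB : B ⟶ G} (hB : Red.IsBorelOver k iB) {N : Over (Spec (CommRingCat.of k))}
    [GrpObj N] (j : N ⟶ G) [IsClosedImmersion j.left] (hN : Red.IsNormalizerOf iB j) : ∃ f : N ⟶ B, f ≫ iB = j := by
  obtain ⟨hBm, hBc, -⟩ := id hB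
  haveI := hBm; haveI := hBc
  haveI : Mono iB := Over.mono_of_mono_left iB
  obtain ⟨hjm, hjmono, hjiff⟩ := id hN
  haveI := hjm; haveI := hjmono
  have hcar : Carries iB j := fun Y p b => by
    obtain ⟨⟨b', hb'⟩, -⟩ := (hjiff Y (p ≫ j)).1 ⟨p, rfl⟩ Y (𝟙 Y) b
    rw [Category.id_comp] at hb'
    exact ⟨b', hb'.symm⟩
  haveI : IsAffine N.left := isAffine_of_isAffineHom j.left
  haveI : LocallyOfFiniteType N.hom := by rw [← Over.w j]; infer_instance
  let A : Type u := Γ(N.left, ⊤)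
  let q : Spec (CommRingCat.of A) ⟶ Spec (CommRingCat.of k) := N.left.isoSpec.inv ≫ N.hom
  let θ : aff q A ⟶ N := Over.homMk N.left.isoSpec.inv (by
    change _ = Spec.map _ ≫ q
    rw [Algebra.algebraMap_self, CommRingCat.ofHom_id]
    exact ((congrArg (· ≫ q) (Spec.map_id _)).trans (Category.id_comp q)).symm)
  let θ' : N ⟶ aff q A := Over.homMk N.left.isoSpec.hom (by
    change _ ≫ Spec.map _ ≫ q = _
    rw [Algebra.algebraMap_self, CommRingCat.ofHom_id]
    exact ((congrArg (fun m => N.left.isoSpec.hom ≫ m ≫ q) (Spec.map_id _)).trans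
      ((congrArg (N.left.isoSpec.hom ≫ ·) (Category.id_comp q)).trans (N.left.isoSpec.hom_inv_id_assoc _))))
  have hθ : θ' ≫ θ = 𝟙 N := Over.OverMorphism.ext N.left.isoSpec.hom_inv_id
  haveI : CompactSpace N.left := inferInstance
  haveI : IsLocallyNoetherian N.left := LocallyOfFiniteType.isLocallyNoetherian N.hom
  haveI : IsNoetherianRing A := IsLocallyNoetherian.component_noetherian ⟨⊤, isAffineOpen_top N.left⟩
  let J : Ideal A := nilradical A
  obtain ⟨n, hn⟩ : IsNilpotent J := IsNoetherianRing.isNilpotent_nilradical A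
  -- the reduced point
  have h0 : ∃ b₀ : aff q (A ⧸ J) ⟶ B, b₀ ≫ iB = affMap q (Ideal.Quotient.mkₐ A J) ≫ θ ≫ j := by
    haveI : _root_.IsReduced (A ⧸ J) := Ideal.isRadical_iff_quotient_reduced _ |>.1 (Ideal.radical_isRadical _)
    haveI : IsReduced (aff q (A ⧸ J)).left := inferInstanceAs (IsReduced (Spec (CommRingCat.of (A ⧸ J))))
    haveI : IsClosedImmersion (affMap q (Ideal.Quotient.mkₐ A J)).left :=
      IsClosedImmersion.spec_of_surjective _ Ideal.Quotient.mk_surjective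
    haveI : IsIso θ.left := inferInstanceAs (IsIso N.left.isoSpec.inv)
    haveI : LocallyOfFiniteType (aff q (A ⧸ J)).hom := by
      rw [← Over.w (affMap q (Ideal.Quotient.mkₐ A J) ≫ θ), Over.comp_left]; infer_instance
    refine exists_lift_of_pts (affMap q (Ideal.Quotient.mkₐ A J) ≫ θ ≫ j) iB fun v => ?_
    let w := v ≫ affMap q (Ideal.Quotient.mkₐ A J) ≫ θ
    have hw : ∀ (w : 𝟙_ (Over (Spec (CommRingCat.of k))) ⟶ N), ∃ σ : B ⟶ B, σ ≫ iB = AGF.conjBy (w ≫ j) iB := fun w => by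
      obtain ⟨b', hb'⟩ := hcar B (toUnit B ≫ w) (𝟙 B)
      exact ⟨b', by rw [hb', Category.id_comp, Category.assoc]⟩
    obtain ⟨σ, hσ⟩ := hw w
    obtain ⟨σ', hσ'⟩ := hw w⁻¹
    rw [GrpObj.inv_comp] at hσ'
    obtain ⟨b, hb⟩ := mem_borel_of_normalize hB (w ≫ j) σ σ' hσ hσ'
    exact ⟨b, by rw [hb]; simp only [w, Category.assoc]⟩
  obtain ⟨b, hb⟩ := mem_borel_nilpotent hB n q J hn (θ ≫ j) (hcar.comp θ) h0
  exact ⟨θ' ≫ b, by rw [Category.assoc, hb, reassoc_of% hθ]⟩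

end GrothLib.Flag27
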