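import Groth.Agent.Lib.Flag27.NormalizerInf
import Groth.Agent.Lib.Induce27.Neutral

/-!
# Parabolic subgroups are connected and their own normalizers
-/

set_option autoImplicit false
set_option linter.all false
set_option backward.isDefEq.respectTransparency false

universe u

open CategoryTheory CategoryTheory.Limits MonoidalCategory CartesianMonoidalCategory MonObj GrpObj AlgebraicGeometry
open scoped TensorProduct

noncomputable section

namespace GrothLib.Flag27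

open GrothLib.MultDef14

variable {k : Type u} [Field k] [IsAlgClosed k] {G : Over (Spec (CommRingCat.of k))} [GrpObj G] [IsAffine G.left]
  [Smooth G.hom] [ConnectedSpace G.left] {B P : Over (Spec (CommRingCat.of k))} [GrpObj B] [GrpObj P]

omit [IsAffine G.left] [Smooth G.hom] [ConnectedSpace G.left] in
/-- Borel subgroups of a subgroup. -/
theorem isBorelOver_of_comp {H : Over (Spec (CommRingCat.of k))} [GrpObj H] (i : H ⟶ G) [IsMonHom i]
    [IsClosedImmersion i.left] (e : B ⟶ H) (hB : Red.IsBorelOver k (e ≫ i)) : Red.IsBorelOver k e := by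
  obtain ⟨hm, hc, hsm, hconn, hsolv, hmax⟩ := hB
  haveI := hm; haveI := hc
  haveI : Mono i := Over.mono_of_mono_left i
  haveI : IsMonHom e := GrothLib.CentMT14.isMonHom_of_comp e i
  haveI : IsClosedImmersion (e.left ≫ i.left) := by rw [← Over.comp_left]; exact hc
  refine ⟨inferInstance, IsClosedImmersion.of_comp e.left i.left, hsm, hconn, hsolv, ?_⟩
  intro B' _ i' _ f hic hs1 hs2 hs3 hf
  haveI := hic
  haveI : IsClosedImmersion (i' ≫ i).left := inferInstanceAs (IsClosedImmersion (i'.left ≫ i.left))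
  exact hmax B' (i' ≫ i) f inferInstance hs1 hs2 hs3 (by rw [reassoc_of% hf])

set_option maxHeartbeats 1600000 in
/-- Rational points normalizing a parabolic subgroup lie in its neutral component. -/
theorem exists_neutral_normalize {iP : P ⟶ G} [IsMonHom iP] [IsClosedImmersion iP.left] [Smooth P.hom] (e : B ⟶ P)
    (hB : Red.IsBorelOver k (e ≫ iP)) :
    ∃ (P₀ : Over (Spec (CommRingCat.of k))) (_ : GrpObj P₀) (j : P₀ ⟶ P), ConnectedSpace P₀.left ∧
      ∀ (x : 𝟙_ (Over (Spec (CommRingCat.of k))) ⟶ G) (σ : P ⟶ P), σ ≫ iP = AGF.conjBy x iP →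
        ∃ v : 𝟙_ (Over (Spec (CommRingCat.of k))) ⟶ P₀, v ≫ j ≫ iP = x := by
  obtain ⟨hm, hc, hsm, hconn, hsolv, -⟩ := id hB
  haveI := hm; haveI := hc; haveI := hsm; haveI := hconn
  haveI : Mono iP := Over.mono_of_mono_left iP
  haveI : IsMonHom e := GrothLib.CentMT14.isMonHom_of_comp e iP
  obtain ⟨P₀, _, j, hjm, hjo, hjc, huniv⟩ := GrothLib.Induce27.exists_neutral P
  haveI := hjm; haveI := hjo; haveI := hjc
  haveI : IsClosedImmersion j.left := GrothLib.Induce27.isClosedImmersion_of_open j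
  haveI : Mono j := Over.mono_of_mono_left j
  haveI : Smooth P₀.hom := by rw [← Over.w j]; infer_instance
  haveI : IsClosedImmersion (j ≫ iP).left := inferInstanceAs (IsClosedImmersion (j.left ≫ iP.left))
  haveI : IsAffine P₀.left := isAffine_of_isAffineHom (j ≫ iP).left
  obtain ⟨e₀, he₀m, he₀⟩ := huniv B e
  haveI := he₀m
  refine ⟨P₀, inferInstance, j, hjc, fun x σ hσ => ?_⟩
  haveI : IsMonHom (σ ≫ iP) := by rw [hσ]; exact isMonHom_conjBy x iP
  haveI : IsMonHom σ := GrothLib.CentMT14.isMonHom_of_comp σ iP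
  obtain ⟨σ₀, hσ₀m, hσ₀⟩ := huniv P₀ (j ≫ σ)
  haveI := hσ₀m
  have hbig : e₀ ≫ j ≫ iP = e ≫ iP := by rw [reassoc_of% he₀]
  have hB₀ : Red.IsBorelOver k e₀ := isBorelOver_of_comp (j ≫ iP) e₀ (by rwa [hbig])
  have hx₀ : (e₀ ≫ σ₀) ≫ j ≫ iP = AGF.conjBy x (e ≫ iP) := by
    rw [Category.assoc, reassoc_of% hσ₀, hσ, reassoc_of% he₀, comp_conjBy']
  haveI : IsMonHom (AGF.conjBy x (e ≫ iP)) := isMonHom_conjBy x (e ≫ iP)
  haveI : IsClosedImmersion (AGF.conjBy x (e ≫ iP)).left := isClosedImmersion_conjBy x (e ≫ iP)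
  have hBx : Red.IsBorelOver k (AGF.conjBy x (e ≫ iP)) := isBorelOver_conjBy hB hsolv (Iso.refl B) x (Category.id_comp _)
  obtain ⟨g, f, hf⟩ := borel_conj (isBorelOver_of_comp (j ≫ iP) (e₀ ≫ σ₀) (by rwa [hx₀])) hB₀
  have hy : f.hom ≫ e ≫ iP = AGF.conjBy ((g ≫ j ≫ iP) * x) (e ≫ iP) := by
    rw [← hbig, reassoc_of% hf, conjBy_map (j ≫ iP), hx₀, conjBy_conjBy, hbig]
  have hy' : f.inv ≫ e ≫ iP = AGF.conjBy ((g ≫ j ≫ iP) * x)⁻¹ (e ≫ iP) := by
    rw [← cancel_epi f.hom, Iso.hom_inv_id_assoc, comp_conjBy', hy, conjBy_conjBy, inv_mul_cancel, conjBy_one]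
  obtain ⟨b, hb⟩ := mem_borel_of_normalize hB _ f.hom f.inv hy hy'
  exact ⟨g⁻¹ * (b ≫ e₀), by rw [MonObj.mul_comp, GrpObj.inv_comp, Category.assoc, hbig, hb, inv_mul_cancel_left]⟩

/-- Rational points normalizing a parabolic subgroup lie in it. -/
theorem mem_parabolic_of_normalize {iP : P ⟶ G} [IsMonHom iP] [IsClosedImmersion iP.left] [Smooth P.hom] (e : B ⟶ P)
    (hB : Red.IsBorelOver k (e ≫ iP)) (x : 𝟙_ (Over (Spec (CommRingCat.of k))) ⟶ G) (σ σ' : P ⟶ P)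
    (hσ : σ ≫ iP = AGF.conjBy x iP) (hσ' : σ' ≫ iP = AGF.conjBy x⁻¹ iP) :
    ∃ v : 𝟙_ (Over (Spec (CommRingCat.of k))) ⟶ P, v ≫ iP = x := by
  obtain ⟨P₀, _, j, -, hj⟩ := exists_neutral_normalize e hB
  obtain ⟨v, hv⟩ := hj x σ hσ
  exact ⟨v ≫ j, by rw [Category.assoc, hv]⟩

/-- Parabolic subgroups are connected. -/
theorem connectedSpace_parabolic {iP : P ⟶ G} [IsMonHom iP] [IsClosedImmersion iP.left] [Smooth P.hom] (e : B ⟶ P)
    (hB : Red.IsBorelOver k (e ≫ iP)) : ConnectedSpace P.left := by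
  haveI : Mono iP := Over.mono_of_mono_left iP
  haveI : IsAffine P.left := isAffine_of_isAffineHom iP.left
  obtain ⟨P₀, _, j, hjc, hj⟩ := exists_neutral_normalize e hB
  haveI := hjc
  haveI : JacobsonSpace P.left := LocallyOfFiniteType.jacobsonSpace P.hom
  have hd : DenseRange j.left.base := ?_
  · haveI := hd.preconnectedSpace j.left.continuous
    exact { toNonempty := ⟨j.left.base (Classical.arbitrary _)⟩ }
  refine Dense.mono (fun y hy => ?_) (dense_iff_closure_eq.2 (closure_closedPoints (X := P.left)))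
  obtain ⟨v, rfl⟩ := exists_cl hy
  obtain ⟨w, hw⟩ := hj (v ≫ iP) ((toUnit P ≫ v) * 𝟙 P * (toUnit P ≫ v)⁻¹) (by
    simp only [AGF.conjBy, MonObj.mul_comp, GrpObj.inv_comp, Category.id_comp, Category.assoc])
  exact ⟨cl w, by rw [← cl_comp]; exact congrArg cl ((cancel_mono iP).1 (by rw [Category.assoc, hw]))⟩

set_option maxHeartbeats 1600000 in
/-- The square-zero step. -/
theorem mem_parabolic_step {iP : P ⟶ G} [IsMonHom iP] [IsClosedImmersion iP.left] [Smooth P.hom] (e : B ⟶ P) (hB : Red.IsBorelOver k (e ≫ iP)) {R : Type u} [CommRing R]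
    (q : Spec (CommRingCat.of R) ⟶ Spec (CommRingCat.of k)) (J : Ideal R) (hJ : J ^ 2 = ⊥) (g : aff q R ⟶ G)
    (hg : Carries iP g) (h0 : ∃ b₀ : aff q (R ⧸ J) ⟶ P, b₀ ≫ iP = affMap q (Ideal.Quotient.mkₐ R J) ≫ g) :
    ∃ b : aff q R ⟶ P, b ≫ iP = g := by
  obtain ⟨hBm, hBc, hBsm, hBconn, hBsolv, -⟩ := id hB
  haveI := hBm; haveI := hBc; haveI := hBsm; haveI := hBconn
  haveI : Mono iP := Over.mono_of_mono_left iP
  haveI : IsMonHom e := GrothLib.CentMT14.isMonHom_of_comp e iP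
  haveI : Mono (e ≫ iP) := Over.mono_of_mono_left _
  haveI : IsAffine P.left := isAffine_of_isAffineHom iP.left
  haveI : IsAffine B.left := isAffine_of_isAffineHom (e ≫ iP).left
  obtain ⟨D, _, U, _, p, s, u, r, hp, hs, hu, hsp, hDt, hDa, hDs, -, huc, hup, -, hru, hUu, hUs, -⟩ :=
    hasSplit_of_solvable (isSolvable_points hBsolv)
  haveI := hp; haveI := hs; haveI := hu; haveI := huc; haveI := hUs; haveI := hDa; haveI := hDs
  haveI : IsSplitMono s := IsSplitMono.mk' ⟨p, hsp⟩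
  have hmax := isMaxTorus_section hB p s u r hsp hup hru hUu hDt
  have hH := GrothLib.DiagGrp.hasChartsFpqc_of_isTorus hDt
  obtain ⟨b₀, hb₀⟩ := h0
  obtain ⟨β, hβ⟩ := exists_lift_point ((Groth.Agent.S1488.result P.hom).mp ‹Smooth P.hom›).2 q J hJ b₀
  -- reduce to a point which is trivial modulo the ideal
  let g' : aff q R ⟶ G := (β ≫ iP)⁻¹ * g
  have hg'0 : affMap q (Ideal.Quotient.mkₐ R J) ≫ g' = 1 := by
    simp only [g', MonObj.comp_mul, GrpObj.comp_inv]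
    rw [← Category.assoc, hβ, hb₀, inv_mul_cancel]
  obtain ⟨A, _, _, h, huniv⟩ := exists_isUniv q D (EssFree.isAffineHom_of_charts hH)
  let Pm := affMap q (Algebra.ofId R A)
  obtain ⟨a₁, ha₁⟩ := hg _ Pm (h ≫ s ≫ e)
  let a : aff q A ⟶ P := (Pm ≫ β)⁻¹ * a₁ * (Pm ≫ β)
  have ha : a ≫ iP = (Pm ≫ g') * ((h ≫ s ≫ e) ≫ iP) * (Pm ≫ g')⁻¹ := by
    simp only [a, g', MonObj.mul_comp, GrpObj.inv_comp, ha₁, MonObj.comp_mul, GrpObj.comp_inv, Category.assoc]
    group
  haveI : IsMonHom (s ≫ e ≫ iP) := inferInstance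
  have hahom : IsHomPt h a := by
    have h1 := isHomPt_conj (s ≫ e ≫ iP) h (AlgHom.id R A) g'
    rw [affMap_id, Category.id_comp, show (h ≫ s ≫ e ≫ iP : aff q A ⟶ G) = (h ≫ s ≫ e) ≫ iP by simp only [Category.assoc], ← ha] at h1
    intro B' _ _ f g k e
    have h2 := h1 B' f g k e
    rw [← cancel_mono iP, MonObj.mul_comp, Category.assoc, Category.assoc, Category.assoc]
    exact h2
  have h00 : affMap q (Ideal.Quotient.mkₐ R (J.map (algebraMap R A))) ≫ a =
      affMap q (Ideal.Quotient.mkₐ R (J.map (algebraMap R A))) ≫ h ≫ s ≫ e := by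
    have e : (quotA (A := A) J).comp (Ideal.Quotient.mkₐ R J) =
        (Ideal.Quotient.mkₐ R (J.map (algebraMap R A))).comp (Algebra.ofId R A) := AlgHom.ext fun _ => rfl
    rw [← cancel_mono iP, Category.assoc, ha]
    simp only [Pm, MonObj.comp_mul, GrpObj.comp_inv, affMap_comp_assoc, ← e]
    rw [← affMap_comp_assoc, hg'0, MonObj.comp_one, _root_.one_mul, inv_one, _root_.mul_one]
    simp only [Category.assoc]
  obtain ⟨x, -, hx⟩ := exists_conjPt_step hH huniv J hJ (h ≫ s ≫ e) a (IsHomPt.of_hom h (s ≫ e)) hahom h00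
  -- the quotient centralizes the torus
  let z : aff q R ⟶ G := (x ≫ iP)⁻¹ * g'
  obtain ⟨C, _, c, hC, -⟩ := GrothLib.MultDef14.exists_centralizer hH (inferInstance : Smooth G.hom)
    (isAffineHom_of_isAffine _) (s ≫ e ≫ iP)
  obtain ⟨hTm, hTmono, -, -⟩ := id hmax
  haveI := hTm; haveI := hTmono
  obtain ⟨fC, hfC⟩ := exists_factor_centralizer hmax hC hB s rfl
  have hzc : (Pm ≫ z) * (h ≫ s ≫ e ≫ iP) * (Pm ≫ z)⁻¹ = h ≫ s ≫ e ≫ iP := by
    have h1 := congrArg (· ≫ iP) hx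
    simp only [ha, MonObj.mul_comp, GrpObj.inv_comp, Category.assoc] at h1
    simp only [z, MonObj.comp_mul, GrpObj.comp_inv, _root_.mul_inv_rev, _root_.inv_inv]
    calc (Pm ≫ x ≫ iP)⁻¹ * (Pm ≫ g') * (h ≫ s ≫ e ≫ iP) * ((Pm ≫ g')⁻¹ * (Pm ≫ x ≫ iP))
        = (Pm ≫ x ≫ iP)⁻¹ * ((Pm ≫ g') * (h ≫ s ≫ e ≫ iP) * (Pm ≫ g')⁻¹) * (Pm ≫ x ≫ iP) := by group
      _ = h ≫ s ≫ e ≫ iP := by rw [h1]; simp only [Pm]; group
  obtain ⟨zC, hzC⟩ := (hC.2.2 _ z).2 fun Y p y => by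
    obtain ⟨t, htp, hty⟩ := huniv.factor Y p y
    have h2 := congrArg (t ≫ ·) hzc
    simp only [MonObj.comp_mul, GrpObj.comp_inv] at h2
    rw [← Category.assoc t Pm, show t ≫ Pm = p from htp, ← Category.assoc t h, hty, mul_inv_eq_iff_eq_mul] at h2
    exact h2
  refine ⟨β * (x * (zC ≫ fC ≫ e)), ?_⟩
  rw [MonObj.mul_comp, MonObj.mul_comp, Category.assoc, Category.assoc, hfC, hzC]
  simp only [z, g', mul_inv_cancel_left]

set_option maxHeartbeats 800000 in
/-- The step along nilpotent ideals. -/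
theorem mem_parabolic_nilpotent {iP : P ⟶ G} [IsMonHom iP] [IsClosedImmersion iP.left] [Smooth P.hom] (e : B ⟶ P) (hB : Red.IsBorelOver k (e ≫ iP)) : ∀ (n : ℕ) {R : Type u} [CommRing R]
    (q : Spec (CommRingCat.of R) ⟶ Spec (CommRingCat.of k)) (J : Ideal R), J ^ n = ⊥ → ∀ (g : aff q R ⟶ G),
    Carries iP g → (∃ b₀ : aff q (R ⧸ J) ⟶ P, b₀ ≫ iP = affMap q (Ideal.Quotient.mkₐ R J) ≫ g) →
    ∃ b : aff q R ⟶ P, b ≫ iP = g := by
  intro n
  induction n with
  | zero =>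
    intro R _ q J hJ g hg h0
    exact mem_parabolic_step e hB q J (le_bot_iff.mp (hJ ▸ Ideal.pow_le_pow_right (Nat.zero_le 2))) g hg h0
  | succ n IH =>
    intro R _ q J hJ g hg h0
    by_cases hn : n ≤ 1
    · exact mem_parabolic_step e hB q J (le_bot_iff.mp (hJ ▸ Ideal.pow_le_pow_right (by omega))) g hg h0
    let I := J ^ n
    have hIJ : I ≤ J := Ideal.pow_le_self (by omega)
    have hI2 : I ^ 2 = ⊥ := le_bot_iff.mp (hJ ▸ by rw [← pow_mul]; exact Ideal.pow_le_pow_right (by omega))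
    let q' : Spec (CommRingCat.of (R ⧸ I)) ⟶ Spec (CommRingCat.of k) :=
      Spec.map (CommRingCat.ofHom (Ideal.Quotient.mk I)) ≫ q
    let J' : Ideal (R ⧸ I) := J.map (Ideal.Quotient.mk I)
    have hJ' : J' ^ n = ⊥ := by rw [← Ideal.map_pow]; exact Ideal.map_quotient_self I
    let e' := DoubleQuot.quotQuotEquivQuotOfLE hIJ
    let k₀ : aff q' (R ⧸ I) ⟶ aff q R := Over.homMk (Spec.map (CommRingCat.ofHom (Ideal.Quotient.mk I))) (by
      change Spec.map _ ≫ Spec.map _ ≫ q = Spec.map _ ≫ Spec.map _ ≫ q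
      rw [← Spec.map_comp_assoc, ← Spec.map_comp_assoc, ← CommRingCat.ofHom_comp, ← CommRingCat.ofHom_comp]
      rfl)
    let k₁ : aff q' ((R ⧸ I) ⧸ J') ⟶ aff q (R ⧸ J) := Over.homMk (Spec.map (CommRingCat.ofHom e'.symm.toRingHom)) (by
      change Spec.map _ ≫ Spec.map _ ≫ q = Spec.map _ ≫ Spec.map _ ≫ q
      rw [← Spec.map_comp_assoc, ← Spec.map_comp_assoc, ← CommRingCat.ofHom_comp, ← CommRingCat.ofHom_comp]
      rfl)
    have hk : affMap q' (Ideal.Quotient.mkₐ (R ⧸ I) J') ≫ k₀ = k₁ ≫ affMap q (Ideal.Quotient.mkₐ R J) :=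
      Over.OverMorphism.ext (by
        change Spec.map _ ≫ Spec.map _ = Spec.map _ ≫ Spec.map _
        rw [← Spec.map_comp, ← Spec.map_comp, ← CommRingCat.ofHom_comp, ← CommRingCat.ofHom_comp]
        rfl)
    obtain ⟨b₀, hb₀⟩ := h0
    obtain ⟨b', hb'⟩ := IH q' J' hJ' (k₀ ≫ g) (hg.comp k₀)
      ⟨k₁ ≫ b₀, by rw [Category.assoc, hb₀, ← Category.assoc, ← hk, Category.assoc]⟩
    let k₂ : aff q (R ⧸ I) ⟶ aff q' (R ⧸ I) := Over.homMk (𝟙 _) (by
      change 𝟙 _ ≫ Spec.map _ ≫ Spec.map _ ≫ q = Spec.map _ ≫ q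
      rw [Category.id_comp, ← Spec.map_comp_assoc, ← CommRingCat.ofHom_comp]
      rfl)
    refine mem_parabolic_step e hB q I hI2 g hg ⟨k₂ ≫ b', ?_⟩
    rw [Category.assoc, hb', ← Category.assoc]
    congr 1

set_option maxHeartbeats 800000 in
/-- The normalizer of a Borel subgroup is the Borel subgroup. -/
theorem exists_factor_normalizer_parabolic {iP : P ⟶ G} [IsMonHom iP] [IsClosedImmersion iP.left] [Smooth P.hom] (e : B ⟶ P) (hB : Red.IsBorelOver k (e ≫ iP)) {N : Over (Spec (CommRingCat.of k))}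
    [GrpObj N] (j : N ⟶ G) [IsClosedImmersion j.left] (hN : Red.IsNormalizerOf iP j) : ∃ f : N ⟶ P, f ≫ iP = j := by
  haveI : Mono iP := Over.mono_of_mono_left iP
  obtain ⟨hjm, hjmono, hjiff⟩ := id hN
  haveI := hjm; haveI := hjmono
  have hcar : Carries iP j := fun Y p b => by
    obtain ⟨⟨b', hb'⟩, -⟩ := (hjiff Y (p ≫ j)).1 ⟨p, rfl⟩ Y (𝟙 Y) b
    rw [Category.id_comp] at hb'
    exact ⟨b', hb'.symm⟩
  haveI : IsAffine N.left := isAffine_of_isAffineHom j.left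
  haveI : LocallyOfFiniteType N.hom := by rw [← Over.w j]; infer_instance
  let A : Type u := Γ(N.left, ⊤)
  let q : Spec (CommRingCat.of A) ⟶ Spec (CommRingCat.of k) := N.left.isoSpec.inv ≫ N.hom
  let θ : aff q A ⟶ N := Over.homMk N.left.isoSpec.inv (by
    change _ = Spec.map _ ≫ q
    rw [Algebra.algebraMap_self, CommRingCat.ofHom_id]
    exact ((congrArg (· ≫ q) (Spec.map_id _)).trans (Category.id_comp q)).symm)
  let θ' : N ⟶ aff q A := Over.homMk N.left.isoSpec.hom (by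
    change _ ≫ Spec.map _ ≫ q = _
    rw [Algebra.algebraMap_self, CommRingCat.ofHom_id]
    exact ((congrArg (fun m => N.left.isoSpec.hom ≫ m ≫ q) (Spec.map_id _)).trans
      ((congrArg (N.left.isoSpec.hom ≫ ·) (Category.id_comp q)).trans (N.left.isoSpec.hom_inv_id_assoc _))))
  have hθ : θ' ≫ θ = 𝟙 N := Over.OverMorphism.ext N.left.isoSpec.hom_inv_id
  haveI : CompactSpace N.left := inferInstance
  haveI : IsLocallyNoetherian N.left := LocallyOfFiniteType.isLocallyNoetherian N.hom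
  haveI : IsNoetherianRing A := IsLocallyNoetherian.component_noetherian ⟨⊤, isAffineOpen_top N.left⟩
  let J : Ideal A := nilradical A
  obtain ⟨n, hn⟩ : IsNilpotent J := IsNoetherianRing.isNilpotent_nilradical A
  -- the reduced point
  have h0 : ∃ b₀ : aff q (A ⧸ J) ⟶ P, b₀ ≫ iP = affMap q (Ideal.Quotient.mkₐ A J) ≫ θ ≫ j := by
    haveI : _root_.IsReduced (A ⧸ J) := Ideal.isRadical_iff_quotient_reduced _ |>.1 (Ideal.radical_isRadical _)
    haveI : IsReduced (aff q (A ⧸ J)).left := inferInstanceAs (IsReduced (Spec (CommRingCat.of (A ⧸ J))))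
    haveI : IsClosedImmersion (affMap q (Ideal.Quotient.mkₐ A J)).left :=
      IsClosedImmersion.spec_of_surjective _ Ideal.Quotient.mk_surjective
    haveI : IsIso θ.left := inferInstanceAs (IsIso N.left.isoSpec.inv)
    haveI : LocallyOfFiniteType (aff q (A ⧸ J)).hom := by
      rw [← Over.w (affMap q (Ideal.Quotient.mkₐ A J) ≫ θ), Over.comp_left]; infer_instance
    refine exists_lift_of_pts (affMap q (Ideal.Quotient.mkₐ A J) ≫ θ ≫ j) iP fun v => ?_
    let w := v ≫ affMap q (Ideal.Quotient.mkₐ A J) ≫ θ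
    have hw : ∀ (w : 𝟙_ (Over (Spec (CommRingCat.of k))) ⟶ N), ∃ σ : P ⟶ P, σ ≫ iP = AGF.conjBy (w ≫ j) iP := fun w => by
      obtain ⟨b', hb'⟩ := hcar P (toUnit P ≫ w) (𝟙 P)
      exact ⟨b', by rw [hb', Category.id_comp, Category.assoc]⟩
    obtain ⟨σ, hσ⟩ := hw w
    obtain ⟨σ', hσ'⟩ := hw w⁻¹
    rw [GrpObj.inv_comp] at hσ'
    obtain ⟨b, hb⟩ := mem_parabolic_of_normalize e hB (w ≫ j) σ σ' hσ hσ'
    exact ⟨b, by rw [hb]; simp only [w, Category.assoc]⟩
  obtain ⟨b, hb⟩ := mem_parabolic_nilpotent e hB n q J hn (θ ≫ j) (hcar.comp θ) h0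
  exact ⟨θ' ≫ b, by rw [Category.assoc, hb, reassoc_of% hθ]⟩

end GrothLib.Flag27
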