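import Groth.Agent.Lib.Flag27.NormalizerBC
import Groth.Agent.Lib.Flag27.ParabolicNorm

/-!
# Parabolic subgroups over any field are connected and their own normalizers
-/

set_option autoImplicit false
set_option linter.all false
set_option backward.isDefEq.respectTransparency false

universe u

open CategoryTheory CategoryTheory.Limits MonoidalCategory CartesianMonoidalCategory MonObj GrpObj AlgebraicGeometry

namespace GrothLib.Flag27

open GrothLib.DiagGrp

variable {k : Type u} [Field k] {G B : Over (Spec (CommRingCat.of k))} [GrpObj G] [GrpObj B] [IsAffine G.left]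
  [Smooth G.hom] [ConnectedSpace G.left]

set_option maxHeartbeats 800000 in
/-- A parabolic subgroup is connected and its own normalizer. -/
theorem connected_normalizer_parabolic {iB : B ⟶ G} (hB : Red.IsParabolic iB) :
    ConnectedSpace B.left ∧ Red.IsNormalizerOf iB iB := by
  obtain ⟨hBm, hBc, hBsm, hBgeo⟩ := hB
  haveI := hBm; haveI := hBc; haveI := hBsm
  haveI : Mono iB := Over.mono_of_mono_left iB
  haveI : IsAffine B.left := isAffine_of_isAffineHom iB.left
  have hgc : ∀ s' : ↥(Spec (CommRingCat.of k)), ConnectedSpace (Red.bc (Red.geomPt s') B).left := fun s' => by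
    obtain ⟨hm', hc', hs', B', _, e, hb⟩ := hBgeo s'
    haveI := hm'; haveI := hc'; haveI := hs'
    haveI : IsAffine (Red.bc (Red.geomPt s') G).left := isAffine_bc _ G
    haveI : Smooth (Red.bc (Red.geomPt s') G).hom := smooth_bc _ G
    haveI := connectedSpace_bc (Red.geomPt s') G
    exact connectedSpace_parabolic e hb
  let s : ↥(Spec (CommRingCat.of k)) := IsLocalRing.closedPoint k
  haveI : Subsingleton ↥(Spec (CommRingCat.of k)) := inferInstanceAs (Subsingleton (PrimeSpectrum k))
  haveI : GeometricallyConnected B.hom := DescentHom.geometricallyConnected_of_geomPt B.hom hgc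
  haveI : GeometricallyIrreducible B.hom := SecLocus.geometricallyIrreducible_of_smooth B.hom
  haveI : IsSeparated G.hom := inferInstance
  haveI : LocallyOfFiniteType G.hom := inferInstance
  obtain ⟨N, _, j, hN, hjc, -⟩ := GrothLib.SecLocus.exists_normalizer iB
  haveI := hjc
  obtain ⟨hjm, hjmono, hjiff⟩ := id hN
  haveI := hjm; haveI := hjmono
  haveI : IsAffine (Red.bc (Red.geomPt s) G).left := isAffine_bc _ G
  haveI : Smooth (Red.bc (Red.geomPt s) G).hom := smooth_bc _ G
  haveI := connectedSpace_bc (Red.geomPt s) G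
  haveI : (Over.pullback (Red.geomPt s)).IsRightAdjoint := (Over.mapPullbackAdj _).isRightAdjoint
  haveI : IsClosedImmersion ((Over.pullback (Red.geomPt s)).map j).left :=
    MorphismProperty.of_isPullback (P := @IsClosedImmersion) (isPullback_overMap j (Red.geomPt s)).flip hjc
  obtain ⟨hPm, hPc, hPs, B', _, e, hPb⟩ := hBgeo s
  haveI := hPm; haveI := hPc; haveI := hPs
  obtain ⟨φ, hφ⟩ := exists_factor_normalizer_parabolic e hPb ((Over.pullback (Red.geomPt s)).map j) (isNormalizerOf_bc _ hN)
  -- descend
  let P := pullback j iB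
  let v : P ⟶ N := pullback.fst j iB
  haveI : IsClosedImmersion v.left :=
    MorphismProperty.of_isPullback (P := @IsClosedImmersion) ((IsPullback.of_hasPullback j iB).map (Over.forget _)).flip hBc
  haveI : Mono v := Over.mono_of_mono_left v
  have hPb : IsPullback ((Over.pullback (Red.geomPt s)).map v) ((Over.pullback (Red.geomPt s)).map (pullback.snd j iB))
      ((Over.pullback (Red.geomPt s)).map j) ((Over.pullback (Red.geomPt s)).map iB) :=
    (IsPullback.of_hasPullback j iB).map _
  haveI : IsIso ((Over.pullback (Red.geomPt s)).map v) := by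
    refine ⟨hPb.lift (𝟙 _) φ (by rw [Category.id_comp]; exact hφ.symm), ?_, hPb.lift_fst _ _ _⟩
    haveI : Mono ((Over.pullback (Red.geomPt s)).map v) := inferInstance
    rw [← cancel_mono ((Over.pullback (Red.geomPt s)).map v), Category.assoc, hPb.lift_fst, Category.comp_id,
      Category.id_comp]
  haveI : Surjective (Red.geomPt s) := surjective_to_field _
  haveI : Flat (Red.geomPt s) := flat_to_field _
  haveI : IsIso v.left := MonoMT14.isIso_of_bc (Red.geomPt s) v
    (inferInstanceAs (IsIso ((Over.forget _).map ((Over.pullback (Red.geomPt s)).map v))))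
  haveI : IsIso ((Over.forget _).map v) := ‹IsIso v.left›
  haveI : IsIso v := isIso_of_reflects_iso v (Over.forget _)
  haveI := hgc s
  haveI : Surjective (pullback.fst B.hom (Red.geomPt s)) := MorphismProperty.pullback_fst _ _ ‹Surjective (Red.geomPt s)›
  refine ⟨(pullback.fst B.hom (Red.geomPt s)).surjective.connectedSpace (pullback.fst B.hom (Red.geomPt s)).continuous, hBm, inferInstance, fun X g => ⟨?_, fun hg => ?_⟩⟩
  · rintro ⟨z, rfl⟩ X' x h
    exact ⟨⟨(x ≫ z) * h * (x ≫ z)⁻¹, by simp only [MonObj.mul_comp, GrpObj.inv_comp, Category.assoc]⟩,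
      ⟨(x ≫ z)⁻¹ * h * (x ≫ z), by simp only [MonObj.mul_comp, GrpObj.inv_comp, Category.assoc]⟩⟩
  · obtain ⟨z, hz⟩ := (hjiff X g).2 hg
    refine ⟨z ≫ inv v ≫ pullback.snd j iB, ?_⟩
    rw [Category.assoc, Category.assoc, ← pullback.condition, IsIso.inv_hom_id_assoc, hz]

end GrothLib.Flag27
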