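import Groth.Agent.Lib.Flag27.ProjPoints
import Groth.Agent.Lib.Rigidity.PointsExt
import Groth.Agent.Lib.RedSmooth.Basic
import Groth.Agent.Lib.CurveMult.ProjSmooth
import Groth.Agent.Lib.Induce27.QuotAffine
import Mathlib.AlgebraicGeometry.Morphisms.Proper
import Mathlib.AlgebraicGeometry.ProjectiveSpectrum.Proper

/-!
# The action on projective space attached to a matrix representation
-/

set_option autoImplicit false
set_option backward.isDefEq.respectTransparency false

universe u

open CategoryTheory CategoryTheory.Limits MonoidalCategory CartesianMonoidalCategory MonObj GrpObj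
open AlgebraicGeometry VecGrp
open GrothLib.Repr

noncomputable section

namespace GrothLib.Flag27

open GrothLib.Induce27 Groth.Agent.S11191

variable {k : Type u} [Field k] [IsAlgClosed k]

/-- The base as a test scheme. -/
def ptOne : pt k k ≅ 𝟙_ (Over (Spec (CommRingCat.of k))) :=
  Over.isoMk (Iso.refl _) (by rw [GrothLib.Induce27.pt_hom_id]; rfl)

theorem hom_ext_pt {X Y : Over (Spec (CommRingCat.of k))} [LocallyOfFiniteType X.hom] [IsReduced X.left]
    [IsSeparated Y.hom] {f g : X ⟶ Y} (h : ∀ p : pt k k ⟶ X, p ≫ f = p ≫ g) : f = g :=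
  GrothLib.Rigidity.ext_of_points f g fun p =>
    (cancel_epi ptOne.hom).1 (by rw [← Category.assoc, ← Category.assoc]; exact h _)

variable {G : Over (Spec (CommRingCat.of k))} [GrpObj G] [IsAffine G.left] [Smooth G.hom]

section Rep

variable {σι : Type} [Fintype σι] [DecidableEq σι]

/-- The matrix of a point. -/
def evM (M : Matrix σι σι (Fn G)) (g : pt k k ⟶ G) : Matrix σι σι k := M.map (valAt g)

/-- Matrices of functions giving representations. -/
structure IsRep (M : Matrix σι σι (Fn G)) : Prop where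
  one : evM M 1 = 1
  mul : ∀ g h : pt k k ⟶ G, evM M (g * h) = evM M g * evM M h

theorem IsRep.mul_inv {M : Matrix σι σι (Fn G)} (hM : IsRep M) (g : pt k k ⟶ G) :
    evM M g * evM M g⁻¹ = 1 := by rw [← hM.mul, mul_inv_cancel, hM.one]

theorem IsRep.inv_mul {M : Matrix σι σι (Fn G)} (hM : IsRep M) (g : pt k k ⟶ G) :
    evM M g⁻¹ * evM M g = 1 := by rw [← hM.mul, inv_mul_cancel, hM.one]

theorem IsRep.mulVec_ne_zero {M : Matrix σι σι (Fn G)} (hM : IsRep M) (g : pt k k ⟶ G) {w : σι → k}
    (hw : w ≠ 0) : (evM M g).mulVec w ≠ 0 := fun h => hw (by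
  have := congrArg (evM M g⁻¹).mulVec h
  rwa [Matrix.mulVec_mulVec, hM.inv_mul, Matrix.one_mulVec, Matrix.mulVec_zero] at this)

theorem IsRep.isUnit {M : Matrix σι σι (Fn G)} (hM : IsRep M) :
    ∃ N : Matrix σι σι (Fn G), N * M = 1 := by
  refine ⟨M.map (fnMap (GrpObj.inv : G ⟶ G)), ?_⟩
  refine Matrix.ext fun i j => ext_valAt fun x => ?_
  have e := congrFun (congrFun (hM.inv_mul x) i) j
  rw [Matrix.mul_apply] at e
  rw [Matrix.mul_apply, map_sum]
  refine (Finset.sum_congr rfl fun l _ => ?_).trans (e.trans ?_)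
  · rw [map_mul, Matrix.map_apply, ← valAt_comp, GrpObj.inv_eq_inv, GrpObj.comp_inv, Category.comp_id]
    rfl
  · rw [Matrix.one_apply, Matrix.one_apply, apply_ite (valAt x), map_one, map_zero]

end Rep

variable {n : ℕ} {M : Matrix (Fin (n + 1)) (Fin (n + 1)) (Fn G)} (hM : IsRep M)

attribute [local instance] chartAlg


/-- Coordinates of the moved point on a chart. -/
def movedCoord (M : Matrix (Fin (n + 1)) (Fin (n + 1)) (Fn G)) (i : Fin (n + 1)) :
    Fin (n + 1) → Fn (G ⊗ pt k (ChartRing k n i)) :=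
  (M.map (fnMap (fst G _))).mulVec fun l => fnMap (snd G _) (fnPt k _ (chartCoord k n i l))

include hM in
theorem span_movedCoord (i : Fin (n + 1)) : Ideal.span (Set.range (movedCoord M i)) = ⊤ := by
  obtain ⟨N, hN⟩ := hM.isUnit
  let r : Fin (n + 1) → Fn (G ⊗ pt k (ChartRing k n i)) :=
    fun l => fnMap (snd G _) (fnPt k _ (chartCoord k n i l))
  have hr : r i = 1 := by simp [r, ratio_self]
  have h1 : (N.map (fnMap (fst G (pt k (ChartRing k n i))))).mulVec (movedCoord M i) = r := by
    rw [movedCoord, Matrix.mulVec_mulVec, ← Matrix.map_mul, hN, Matrix.map_one _ (map_zero _) (map_one _),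
      Matrix.one_mulVec]
  refine (Ideal.eq_top_iff_one _).2 ?_
  rw [← hr, ← h1]
  simp only [Matrix.mulVec, dotProduct]
  exact Ideal.sum_mem (Ideal.span (Set.range (movedCoord M i))) fun l _ => Ideal.mul_mem_left _ _ (Ideal.subset_span (Set.mem_range_self (f := movedCoord M i) l))

instance isAffine_chartProd (i : Fin (n + 1)) : IsAffine (G ⊗ pt k (ChartRing k n i)).left := by
  haveI : IsAffine (pt k (ChartRing k n i)).left := inferInstanceAs (IsAffine (Spec (CommRingCat.of (ChartRing k n i))))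
  haveI : IsAffineHom G.hom := inferInstance
  show IsAffine (Limits.pullback G.hom (pt k (ChartRing k n i)).hom)
  infer_instance

/-- The action on a chart. -/
def piece (i : Fin (n + 1)) : G ⊗ pt k (ChartRing k n i) ⟶ PO k n :=
  (affIso _).hom ≫ coordHom (movedCoord M i) (span_movedCoord hM i)

theorem piece_apply (i : Fin (n + 1)) (g : pt k k ⟶ G) (y : pt k k ⟶ pt k (ChartRing k n i))
    (w : Fin (n + 1) → k) (hw : w ≠ 0) (h : y ≫ chart k n i = line w hw) :
    lift g y ≫ piece hM i = line ((evM M g).mulVec w) (hM.mulVec_ne_zero g hw) := by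
  obtain ⟨φ, rfl⟩ := GrothLib.Repr.exists_ptMap y
  rw [chart, ptMap_coordHom] at h
  obtain ⟨r, hr⟩ := (line_eq_iff _ hw).1 h
  rw [piece, eq_of_affine (lift g (ptMap φ)), Category.assoc, Iso.inv_hom_id_assoc, ptMap_coordHom,
    line_eq_iff]
  refine ⟨r, ?_⟩
  have e : (fun j => valAt (lift g (ptMap φ)) (movedCoord M i j)) =
      (evM M g).mulVec fun l => φ (chartCoord k n i l) := by
    funext j
    rw [movedCoord]
    simp only [Matrix.mulVec, dotProduct, map_sum, map_mul, Matrix.map_apply, evM]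
    refine Finset.sum_congr rfl fun l _ => ?_
    rw [← valAt_comp, ← valAt_comp, lift_fst, lift_snd, valAt_ptMap]
  rw [e, hr, Matrix.mulVec_smul]

instance isOpenImmersion_whisker (i : Fin (n + 1)) : IsOpenImmersion (G ◁ chart k n i).left := by
  refine MorphismProperty.of_isPullback
    (P := @IsOpenImmersion) (GrothLib.GrpSchField.whiskerLeft_snd_isPullback G (chart k n i)).flip ?_
  infer_instance

/-- The preimages of the charts. -/
def U (i : Fin (n + 1)) : (G ⊗ PO k n).left.Opens :=
  (G ◁ chart k n i).left.opensRange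

theorem iSup_U : iSup (U (G := G) (k := k) (n := n)) = ⊤ := by
  refine top_le_iff.1 fun z _ => ?_
  obtain ⟨i, p, hp⟩ := exists_chart k n ((snd G (PO k n)).left z)
  obtain ⟨r, hr, -⟩ := Scheme.exists_preimage_of_isPullback
    (GrothLib.GrpSchField.whiskerLeft_snd_isPullback G (chart k n i)) z p hp.symm
  exact TopologicalSpace.Opens.mem_iSup.2 ⟨i, (show z ∈ Set.range (G ◁ chart k n i).left.base from ⟨r, hr⟩)⟩

/-- The lift of an open piece to its chart. -/
def toChart (i : Fin (n + 1)) :
    Over.mk ((U (G := G) (k := k) (n := n) i).ι ≫ (G ⊗ PO k n).hom) ⟶ G ⊗ pt k (ChartRing k n i) :=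
  Over.homMk (IsOpenImmersion.lift (G ◁ chart k n i).left (U i).ι (by
      exact (Scheme.Opens.range_ι _).le)) (by
    show _ = (U i).ι ≫ (G ⊗ PO k n).hom
    rw [← Over.w (G ◁ chart k n i), IsOpenImmersion.lift_fac_assoc])

/-- The inclusion of an open piece. -/
def incl (i : Fin (n + 1)) :
    Over.mk ((U (G := G) (k := k) (n := n) i).ι ≫ (G ⊗ PO k n).hom) ⟶ G ⊗ PO k n :=
  Over.homMk (U i).ι rfl

theorem toChart_incl (i : Fin (n + 1)) :
    toChart (G := G) (k := k) i ≫ (G ◁ chart k n i) = incl (n := n) i :=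
  Over.OverMorphism.ext (IsOpenImmersion.lift_fac _ _ _)

instance isSeparated_PO : IsSeparated (PO k n).hom := by
  show IsSeparated (CohB1.ProjSpace.toSpec n k)
  unfold CohB1.ProjSpace.toSpec
  infer_instance

instance smooth_PO : Smooth (PO k n).hom := GrothLib.CurveMult.smooth_toSpec n k

/-- The action map. -/
theorem exists_act : ∃ f : G ⊗ PO k n ⟶ PO k n,
    ∀ (g : pt k k ⟶ G) (w : Fin (n + 1) → k) (hw : w ≠ 0),
      lift g (line w hw) ≫ f = line ((evM M g).mulVec w) (hM.mulVec_ne_zero g hw) := by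
  let ch := Scheme.openCoverOfIsOpenCover (G ⊗ PO k n).left (U (G := G)) (TopologicalSpace.IsOpenCover.mk iSup_U)
  haveI : Smooth (G ⊗ PO k n).hom := by
    show Smooth (pullback.fst G.hom (PO k n).hom ≫ G.hom)
    infer_instance
  haveI : IsReduced (G ⊗ PO k n).left := GrothLib.RedSmooth.isReduced_of_smooth (G ⊗ PO k n).hom
  have key : ∀ (i : Fin (n + 1)) {W : Over (Spec (CommRingCat.of k))}
      (a : W ⟶ Over.mk ((U (G := G) (k := k) (n := n) i).ι ≫ (G ⊗ PO k n).hom)) (z : pt k k ⟶ W)
      (g : pt k k ⟶ G) (w : Fin (n + 1) → k) (hw : w ≠ 0), z ≫ a ≫ incl i = lift g (line w hw) →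
      z ≫ a ≫ toChart i ≫ piece hM i = line ((evM M g).mulVec w) (hM.mulVec_ne_zero g hw) := by
    intro i W a z g w hw h
    rw [← toChart_incl] at h
    let v := z ≫ a ≫ toChart i
    have hv : v = lift g (v ≫ snd G _) := by
      refine CartesianMonoidalCategory.hom_ext _ _ ?_ (by rw [lift_snd])
      rw [lift_fst]
      have := congrArg (· ≫ fst G _) h
      simpa [v] using this
    have hv2 : (v ≫ snd G _) ≫ chart k n i = line w hw := by
      have := congrArg (· ≫ snd G _) h
      simpa [v] using this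
    have e := piece_apply hM i g _ w hw hv2
    rw [← hv] at e
    simpa [v] using e
  have agree : ∀ i j, pullback.fst (ch.f i) (ch.f j) ≫ (toChart (G := G) i ≫ piece hM i).left =
      pullback.snd (ch.f i) (ch.f j) ≫ (toChart (G := G) j ≫ piece hM j).left := by
    intro i j
    let W : Over (Spec (CommRingCat.of k)) :=
      Over.mk (pullback.fst (ch.f i) (ch.f j) ≫ ch.f i ≫ (G ⊗ PO k n).hom)
    let a : W ⟶ Over.mk ((U (G := G) (k := k) (n := n) i).ι ≫ (G ⊗ PO k n).hom) :=
      Over.homMk (pullback.fst (ch.f i) (ch.f j)) rfl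
    let b : W ⟶ Over.mk ((U (G := G) (k := k) (n := n) j).ι ≫ (G ⊗ PO k n).hom) :=
      Over.homMk (pullback.snd (ch.f i) (ch.f j)) (by
        show pullback.snd (ch.f i) (ch.f j) ≫ ch.f j ≫ _ = _
        rw [← pullback.condition_assoc]; rfl)
    have hab : a ≫ incl i = b ≫ incl j := Over.OverMorphism.ext pullback.condition
    haveI : IsOpenImmersion (U (G := G) (k := k) (n := n) i).ι := inferInstance
    haveI : IsOpenImmersion (pullback.fst (ch.f i) (ch.f j) ≫ ch.f i) := inferInstance
    haveI : LocallyOfFiniteType W.hom := by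
      show LocallyOfFiniteType (pullback.fst (ch.f i) (ch.f j) ≫ ch.f i ≫ (G ⊗ PO k n).hom)
      infer_instance
    haveI : IsReduced W.left :=
      isReduced_of_isOpenImmersion (pullback.fst (ch.f i) (ch.f j) ≫ ch.f i)
    have e : a ≫ toChart i ≫ piece hM i = b ≫ toChart j ≫ piece hM j := by
      refine hom_ext_pt fun z => ?_
      let q := z ≫ a ≫ incl i
      obtain ⟨w, hw, hq⟩ := exists_line (q ≫ snd G _)
      have hq' : q = lift (q ≫ fst G _) (line w hw) := by
        rw [← hq]; exact CartesianMonoidalCategory.hom_ext _ _ (by simp) (by simp)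
      rw [key i a z _ w hw hq', key j b z (q ≫ fst G _) w hw (by rw [← hab]; exact hq')]
    exact congrArg Over.Hom.left e
  let f₀ := ch.glueMorphisms (fun i => (toChart (G := G) i ≫ piece hM i).left) agree
  have hf₀ : ∀ i, ch.f i ≫ f₀ = (toChart (G := G) i ≫ piece hM i).left := ch.ι_glueMorphisms _ _
  let f : G ⊗ PO k n ⟶ PO k n := Over.homMk f₀ (ch.hom_ext _ _ fun i => by
    rw [reassoc_of% hf₀]
    exact Over.w (toChart i ≫ piece hM i))
  refine ⟨f, fun g w hw => ?_⟩
  let q : pt k k ⟶ G ⊗ PO k n := lift g (line w hw)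
  have hq : q.left.base (IsLocalRing.closedPoint k) ∈ (⊤ : (G ⊗ PO k n).left.Opens) := trivial
  rw [← iSup_U, TopologicalSpace.Opens.mem_iSup] at hq
  obtain ⟨i, hi⟩ := hq
  have hr : Set.range q.left.base ⊆ Set.range (U (G := G) (k := k) (n := n) i).ι.base := by
    rw [Scheme.Opens.range_ι]
    rintro _ ⟨y, rfl⟩
    rwa [Subsingleton.elim (α := ↥(Spec (CommRingCat.of k))) y (IsLocalRing.closedPoint k)]
  let v : pt k k ⟶ Over.mk ((U (G := G) (k := k) (n := n) i).ι ≫ (G ⊗ PO k n).hom) :=
    Over.homMk (IsOpenImmersion.lift (U i).ι q.left hr) (by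
      show _ ≫ (U i).ι ≫ _ = _
      rw [IsOpenImmersion.lift_fac_assoc, Over.w q])
  have hv : v ≫ incl i = q := Over.OverMorphism.ext (IsOpenImmersion.lift_fac _ _ _)
  have hf : incl i ≫ f = toChart i ≫ piece hM i := Over.OverMorphism.ext (hf₀ i)
  show q ≫ f = _
  rw [← hv, Category.assoc, hf]
  simpa using key i v (𝟙 _) g w hw (by simpa using hv)

/-- The action of a matrix representation on projective space. -/
theorem exists_action : ∃ a : AlgGrp.Action G (PO k n),
    ∀ (g : pt k k ⟶ G) (w : Fin (n + 1) → k) (hw : w ≠ 0),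
      lift g (line w hw) ≫ a.act = line ((evM M g).mulVec w) (hM.mulVec_ne_zero g hw) := by
  obtain ⟨f, hf⟩ := exists_act hM
  haveI : IsReduced (PO k n).left := GrothLib.RedSmooth.isReduced_of_smooth (PO k n).hom
  haveI : Smooth (G ⊗ G ⊗ PO k n).hom := by
    show Smooth (pullback.fst G.hom (pullback.fst G.hom (PO k n).hom ≫ G.hom) ≫ G.hom)
    infer_instance
  haveI : IsReduced (G ⊗ G ⊗ PO k n).left := GrothLib.RedSmooth.isReduced_of_smooth (G ⊗ G ⊗ PO k n).hom
  refine ⟨{ act := f, one_act := ?_, mul_act := ?_ }, hf⟩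
  · rw [← cancel_epi (λ_ (PO k n)).inv, Iso.inv_hom_id]
    refine hom_ext_pt fun p => ?_
    obtain ⟨w, hw, rfl⟩ := exists_line p
    have e : line w hw ≫ (λ_ (PO k n)).inv ≫ (η[G] ▷ PO k n) = lift (1 : pt k k ⟶ G) (line w hw) := by
      refine CartesianMonoidalCategory.hom_ext _ _ ?_ (by simp)
      simp only [Category.assoc, whiskerRight_fst, lift_fst, leftUnitor_inv_fst_assoc]
      rw [← Category.assoc, toUnit_unique (line w hw ≫ toUnit _) (toUnit _), ← Hom.one_def]
    rw [reassoc_of% e, hf, Category.comp_id]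
    exact line_congr (by rw [hM.one, Matrix.one_mulVec]) _ _
  · rw [← cancel_epi (α_ G G (PO k n)).inv, Iso.inv_hom_id_assoc]
    refine hom_ext_pt fun p => ?_
    obtain ⟨w, hw, hp⟩ := exists_line (p ≫ snd G _ ≫ snd G _)
    let g₁ := p ≫ fst G _
    let g₂ := p ≫ snd G _ ≫ fst G _
    have hp' : p = lift g₁ (lift g₂ (line w hw)) := by
      refine CartesianMonoidalCategory.hom_ext _ _ (by simp [g₁]) ?_
      refine CartesianMonoidalCategory.hom_ext _ _ (by simp [g₂]) ?_
      rw [← hp]; simp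
    rw [hp', lift_lift_associator_inv_assoc, lift_whiskerLeft_assoc, hf,
      hf g₁ _ (hM.mulVec_ne_zero g₂ hw), lift_whiskerRight_assoc, ← Hom.mul_def, hf]
    exact line_congr (by rw [hM.mul, ← Matrix.mulVec_mulVec]) _ _

end GrothLib.Flag27
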