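import Groth.Agent.Lib.Chevalley.OrbitCoord
import Groth.Agent.Lib.Induce27.Points

/-!
# Rational points of projective space as lines
-/

set_option autoImplicit false
set_option backward.isDefEq.respectTransparency false

universe u

open CategoryTheory MonoidalCategory CartesianMonoidalCategory AlgebraicGeometry VecGrp MvPolynomial
open HomogeneousLocalization
open GrothLib.Repr GrothLib.Ample GrothLib.Ample.ProjMap

noncomputable section

namespace GrothLib.Flag27

open GrothLib.Induce27

variable (k : Type u) [Field k] (n : ℕ)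

/-- Projective space. -/
def PO : Over (Spec (CommRingCat.of k)) := Over.mk (CohB1.ProjSpace.toSpec n k)

variable {k n} {B : Type u} [CommRing B] [Algebra k B]

/-- The point with given homogeneous coordinates. -/
def coordHom (c : Fin (n + 1) → B) (hc : Ideal.span (Set.range c) = ⊤) : pt k B ⟶ PO k n :=
  Over.homMk (Chevalley.coordMap (k := k) c hc) (Chevalley.coordMap_toSpec c hc)

theorem span_eq_top {w : Fin (n + 1) → k} (hw : w ≠ 0) : Ideal.span (Set.range w) = ⊤ := by
  obtain ⟨i, hi⟩ : ∃ i, w i ≠ 0 := by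
    by_contra h
    push Not at h
    exact hw (funext h)
  exact Ideal.eq_top_of_isUnit_mem _ (Ideal.subset_span ⟨i, rfl⟩) (isUnit_iff_ne_zero.2 hi)

/-- The point of a nonzero vector. -/
def line (w : Fin (n + 1) → k) (hw : w ≠ 0) : pt k k ⟶ PO k n := coordHom w (span_eq_top hw)

theorem evalPt_id (c : Fin (n + 1) → B) (φ : B →ₐ[k] k) :
    Chevalley.evalPt c φ = Chevalley.evalPt (fun j => φ (c j)) (AlgHom.id k k) := by
  refine MvPolynomial.ringHom_ext (fun r => ?_) fun j => ?_
  · simp [Chevalley.evalPt]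
  · rw [Chevalley.evalPt_X, Chevalley.evalPt_X]; rfl

theorem ne_zero_of_span {c : Fin (n + 1) → B} (hc : Ideal.span (Set.range c) = ⊤) (φ : B →ₐ[k] k) :
    (fun j => φ (c j)) ≠ 0 := fun h => by
  have h1 := Ideal.span_le.2 (show Set.range c ⊆ ↑(RingHom.ker φ) from by
    rintro _ ⟨j, rfl⟩; exact congrFun h j)
  rw [hc] at h1
  exact (RingHom.ker_ne_top φ) (top_le_iff.1 h1)

theorem ptMap_coordHom (c : Fin (n + 1) → B) (hc : Ideal.span (Set.range c) = ⊤) (φ : B →ₐ[k] k) :
    ptMap φ ≫ coordHom c hc = line (fun j => φ (c j)) (ne_zero_of_span hc φ) := by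
  obtain ⟨i, hi⟩ : ∃ i, φ (c i) ≠ 0 := by
    by_contra h
    push Not at h
    exact ne_zero_of_span hc φ (funext h)
  refine Over.OverMorphism.ext ?_
  show Chevalley.ptHom φ ≫ Chevalley.coordMap c hc = Chevalley.coordMap _ _
  have e := Chevalley.comp_coordMap_eq_pt (k := k) (fun j => φ (c j)) (span_eq_top (ne_zero_of_span hc φ))
    (AlgHom.id k k) i (isUnit_iff_ne_zero.2 hi)
  have e' : Chevalley.ptHom (AlgHom.id k k) = 𝟙 (Spec (CommRingCat.of k)) := Spec.map_id _
  rw [e', Category.id_comp] at e
  rw [e, Chevalley.comp_coordMap_eq_pt c hc φ i (isUnit_iff_ne_zero.2 hi)]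
  congr 1

theorem line_eq_iff {w w' : Fin (n + 1) → k} (hw : w ≠ 0) (hw' : w' ≠ 0) :
    line w hw = line w' hw' ↔ ∃ r : k, w' = r • w := by
  constructor
  · intro h
    have h' := congrArg Over.Hom.left h
    obtain ⟨i, hi⟩ : ∃ i, w i ≠ 0 := by
      by_contra h
      push Not at h
      exact hw (funext h)
    -- compare on the ring of both vectors
    let A := k × k
    let c : Fin (n + 1) → A := fun j => (w j, w' j)
    have hc : Ideal.span (Set.range c) = ⊤ := by
      by_contra hne
      obtain ⟨M, hM, hle⟩ := Ideal.exists_le_maximal _ hne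
      have hcm : ∀ j, c j ∈ M := fun j => hle (Ideal.subset_span ⟨j, rfl⟩)
      obtain ⟨j, hj⟩ : ∃ j, w' j ≠ 0 := by
        by_contra h
        push Not at h
        exact hw' (funext h)
      refine hM.ne_top ((Ideal.eq_top_iff_one _).2 ?_)
      have h1 : ((w i)⁻¹, (0 : k)) * c i + ((0 : k), (w' j)⁻¹) * c j = 1 := by
        refine Prod.ext ?_ ?_
        · show (w i)⁻¹ * w i + 0 * w j = 1
          simp [hi]
        · show 0 * w' i + (w' j)⁻¹ * w' j = 1
          simp [hj]
      rw [← h1]
      exact M.add_mem (M.mul_mem_left _ (hcm i)) (M.mul_mem_left _ (hcm j))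
    have e := Chevalley.comp_coordMap_eq_iff (k := k) c hc (AlgHom.fst k k k) (AlgHom.snd k k k)
    have e1 := congrArg Over.Hom.left (ptMap_coordHom c hc (AlgHom.fst k k k))
    have e2 := congrArg Over.Hom.left (ptMap_coordHom c hc (AlgHom.snd k k k))
    obtain ⟨r, hr⟩ := e.1 ((e1.trans h').trans e2.symm)
    exact ⟨r, funext fun j => hr j⟩
  · rintro ⟨r, rfl⟩
    have hr : r ≠ 0 := fun h => hw' (by rw [h, zero_smul])
    obtain ⟨i, hi⟩ : ∃ i, w i ≠ 0 := by
      by_contra h
      push Not at h
      exact hw (funext h)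
    refine Over.OverMorphism.ext ?_
    have e := Chevalley.comp_coordMap_eq_pt (k := k) w (span_eq_top hw) (AlgHom.id k k) i (isUnit_iff_ne_zero.2 hi)
    have e' := Chevalley.comp_coordMap_eq_pt (k := k) (r • w) (span_eq_top hw') (AlgHom.id k k) i
      (isUnit_iff_ne_zero.2 (mul_ne_zero hr hi))
    have e0 : Chevalley.ptHom (AlgHom.id k k) = 𝟙 (Spec (CommRingCat.of k)) := Spec.map_id _
    rw [e0, Category.id_comp] at e e'
    show Chevalley.coordMap _ _ = Chevalley.coordMap _ _
    rw [e, e']
    congr 1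
    refine (ProjPt.evalAway_eq_of_twist _ (Chevalley.evalPt w (AlgHom.id k k))
      (Chevalley.evalPt (r • w) (AlgHom.id k k)) (X_mem i) _ _ (Chevalley.gsec k r) ?_).symm
    exact map_eq_pow_mul _ _ (Chevalley.gsec k r) (fun a => by simp [Chevalley.evalPt])
      fun j => by rw [Chevalley.evalPt_X, Chevalley.evalPt_X, ← map_mul]; rfl

theorem line_congr {w w' : Fin (n + 1) → k} (h : w = w') (hw : w ≠ 0) (hw' : w' ≠ 0) : line w hw = line w' hw' := by
  subst h; rfl

variable (k n)

/-- The coordinate ring of a standard chart. -/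
abbrev ChartRing (i : Fin (n + 1)) : Type u := Away (CohB1.polyGrading n k) (X i : MvPolynomial (Fin (n + 1)) k)

/-- The constants of a chart. -/
@[reducible] def chartAlg (i : Fin (n + 1)) : Algebra k (ChartRing k n i) := (cst (X i)).toAlgebra

attribute [local instance] chartAlg

/-- The coordinates on a chart. -/
def chartCoord (i : Fin (n + 1)) : Fin (n + 1) → ChartRing k n i := ratio i

theorem ratio_self (i : Fin (n + 1)) : chartCoord k n i i = 1 := by
  refine HomogeneousLocalization.val_injective _ ?_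
  have h := ratio_val (R := k) i i
  have hu : IsUnit (algebraMap (MvPolynomial (Fin (n + 1)) k)
      (Localization.Away (X i : MvPolynomial (Fin (n + 1)) k)) (X i)) :=
    IsLocalization.Away.algebraMap_isUnit _
  rw [HomogeneousLocalization.val_one]
  exact hu.mul_left_injective (h.trans (_root_.one_mul _).symm)

theorem span_chartCoord (i : Fin (n + 1)) : Ideal.span (Set.range (chartCoord k n i)) = ⊤ :=
  (Ideal.eq_top_iff_one _).2 (Ideal.subset_span ⟨i, ratio_self k n i⟩)

/-- A standard chart. -/
def chart (i : Fin (n + 1)) : pt k (ChartRing k n i) ⟶ PO k n :=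
  coordHom (chartCoord k n i) (span_chartCoord k n i)

theorem chart_left (i : Fin (n + 1)) :
    (chart k n i).left = Proj.awayι (CohB1.polyGrading n k) (X i) (X_mem i) one_pos := by
  have e := Chevalley.comp_coordMap_eq_pt (k := k) (chartCoord k n i) (span_chartCoord k n i)
    (AlgHom.id k (ChartRing k n i)) i (by rw [AlgHom.id_apply, ratio_self]; exact isUnit_one)
  have e0 : Chevalley.ptHom (AlgHom.id k (ChartRing k n i)) = 𝟙 (Spec (CommRingCat.of (ChartRing k n i))) :=
    Spec.map_id _
  rw [e0, Category.id_comp] at e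
  show Chevalley.coordMap _ _ = _
  rw [e]
  have hg : ProjPt.evalAway (CohB1.polyGrading n k) (Chevalley.evalPt (chartCoord k n i) (AlgHom.id k _)) (X i)
      (Chevalley.isUnit_evalPt _ _ (by rw [AlgHom.id_apply, ratio_self]; exact isUnit_one)) =
      Chevalley.gsec (ChartRing k n i) := by
    refine awayHom_ext (RingHom.ext fun r => ?_) fun j => ?_
    · rw [RingHom.comp_apply, RingHom.comp_apply, evalAway_cst]
      simp [Chevalley.evalPt]
      rfl
    · have h := evalAway_ratio (Chevalley.evalPt (chartCoord k n i) (AlgHom.id k _)) i j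
        (Chevalley.isUnit_evalPt _ _ (by rw [AlgHom.id_apply, ratio_self]; exact isUnit_one))
      simp only [Chevalley.evalPt_X, AlgHom.id_apply, ratio_self, map_one, _root_.mul_one] at h
      exact h
  rw [ProjPt.pt, hg, ← Category.assoc]
  have : (Spec (CommRingCat.of (ChartRing k n i))).toSpecΓ ≫ Spec.map (CommRingCat.ofHom (Chevalley.gsec (ChartRing k n i))) = 𝟙 _ := by
    exact toSpecΓ_SpecMap_ΓSpecIso_inv _
  rw [this, Category.id_comp]

instance isOpenImmersion_chart (i : Fin (n + 1)) : IsOpenImmersion (chart k n i).left := by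
  rw [chart_left]; infer_instance

theorem exists_chart (x : (PO k n).left) : ∃ i, x ∈ Set.range (chart k n i).left.base := by
  have : x ∈ (⊤ : (CohB1.ProjSpace n k).Opens) := trivial
  rw [← iSup_basicOpen_X, TopologicalSpace.Opens.mem_iSup] at this
  obtain ⟨i, hi⟩ := this
  refine ⟨i, ?_⟩
  rw [chart_left]
  rw [← Proj.opensRange_awayι (CohB1.polyGrading n k) (X i) (X_mem i) one_pos] at hi
  exact hi

variable {k n}

/-- Every rational point is a line. -/
theorem exists_line (x : pt k k ⟶ PO k n) : ∃ (w : Fin (n + 1) → k) (hw : w ≠ 0), x = line w hw := by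
  obtain ⟨i, hi⟩ := exists_chart k n (x.left.base (IsLocalRing.closedPoint k))
  have hr : Set.range x.left.base ⊆ Set.range (chart k n i).left.base := by
    rintro _ ⟨y, rfl⟩
    rwa [Subsingleton.elim (α := ↥(Spec (CommRingCat.of k))) y (IsLocalRing.closedPoint k)]
  let v := IsOpenImmersion.lift (chart k n i).left x.left hr
  have hv : v ≫ (chart k n i).left = x.left := IsOpenImmersion.lift_fac _ _ hr
  let v' : pt k k ⟶ pt k (ChartRing k n i) := Over.homMk v (by
    rw [← Over.w (chart k n i), reassoc_of% hv]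
    exact Over.w x)
  have hv' : v' ≫ chart k n i = x := Over.OverMorphism.ext hv
  obtain ⟨φ, hφ⟩ := GrothLib.Repr.exists_ptMap v'
  exact ⟨_, _, by rw [← hv', hφ, chart, ptMap_coordHom]⟩

end GrothLib.Flag27
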