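import Groth.Agent.Lib.Flag27.ReductiveCartanField
import Groth.Agent.Lib.RedPts.Ga
import Groth.Agent.Lib.Flag27.BorelUnion

/-!
# Additive functions on reductive groups vanish
-/

set_option autoImplicit false
set_option linter.all false
set_option backward.isDefEq.respectTransparency false

universe u

open CategoryTheory MonoidalCategory CartesianMonoidalCategory MonObj GrpObj AlgebraicGeometry VecGrp
open scoped TensorProduct

noncomputable section

namespace GrothLib.Flag27

open GrothLib.Repr GrothLib.Induce27 Groth.Agent.S11191 GrothLib.MultHopf14 GrothLib.CentMT14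

variable {k : Type u} [Field k] [IsAlgClosed k]

/-- Additive functions on tori vanish. -/
theorem additive_torus_eq_zero {G T : Over (Spec (CommRingCat.of k))} [GrpObj G] [GrpObj T] [IsAffine G.left]
    [LocallyOfFiniteType G.hom] (j : T ⟶ G) [IsMonHom j] [Mono j] (hT : Red.IsTorus T) (f : Fn T)
    (hf : ∀ a b : pt k k ⟶ T, valAt (a * b) f = valAt a f + valAt b f) (q : pt k k ⟶ T) : valAt q f = 0 := by
  obtain ⟨-, hTa, hTs, hTconn⟩ := torus_facts hT j
  haveI := hTa; haveI := hTs; haveI := hTconn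
  obtain ⟨K, _, _, ⟨eT⟩⟩ := exists_hopf T (isAffineHom_of_isAffine _)
  haveI := finiteType_of_grpIso eT
  haveI : IsDomain K := by
    haveI := GrothLib.Rigidity.irreducibleSpace_of_connected T
    haveI : IsReduced T.left := GrothLib.RedSmooth.isReduced_of_smooth T.hom
    haveI : IsIntegral T.left := isIntegral_of_irreducibleSpace_of_isReduced _
    let i : specGrp (R := k) K ≅ T := (Grp.forget _).mapIso eT
    haveI : IsIso i.inv.left := inferInstanceAs (IsIso ((Over.forget _).map i.inv))
    haveI : IsIntegral (Spec (CommRingCat.of K)) := .of_isIso i.inv.left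
    exact (affine_isIntegral_iff (CommRingCat.of K)).1 inferInstance
  have hK : HopfRep.IsDiagonalizable k K := by
    obtain ⟨L, _, _, hL⟩ := exists_split_functions eT hT
    haveI : Coalgebra.IsCocomm k K := NoPrim.isCocomm_of_isDiagonalizable L hL
    exact NoPrim.isDiagonalizable_of_isAlgClosed (TorusPrim24.noPrimElt_of_isTorus eT hT)
  obtain ⟨ℓ, hℓ, hℓk⟩ := exists_prime_invertible (k := k)
  have h1 : valAt (1 : pt k k ⟶ T) f = 0 := by
    have e := hf 1 1
    rw [_root_.one_mul] at e
    exact left_eq_add.1 e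
  have hpow : ∀ (a : pt k k ⟶ T) (m : ℕ), valAt (a ^ m) f = m * valAt a f := fun a m => by
    induction m with
    | zero => rw [pow_zero, h1, Nat.cast_zero, zero_mul]
    | succ m ih => rw [pow_succ, hf, ih, Nat.cast_succ, add_mul, _root_.one_mul]
  have h0 : valAt (univPt eT) f = 0 := eq_zero_of_torsion hK hℓ.one_lt hℓk _ fun N φ hφ => by
    show φ.ofConv (valAt (univPt eT) f) = 0
    rw [← valAt_ptsEquiv]
    have e := hpow (ptsEquiv eT φ) (ℓ ^ N)
    rw [← map_pow, hφ, map_one, h1, Nat.cast_pow] at e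
    exact (mul_eq_zero.1 e.symm).resolve_left (pow_ne_zero _ hℓk)
  obtain ⟨φ, rfl⟩ := (ptsEquiv eT).surjective q
  rw [valAt_ptsEquiv, h0, map_zero]

set_option synthInstance.maxHeartbeats 400000 in
/-- Additive functions on reductive groups vanish. -/
theorem additive_eq_zero {G : Over (Spec (CommRingCat.of k))} [GrpObj G] (hG : Red.IsReductiveOver k G) (F : Fn G)
    (hF : ∀ a b : pt k k ⟶ G, valAt (a * b) F = valAt a F + valAt b F) : F = 0 := by
  haveI := hG.1; haveI := hG.2.1; haveI := hG.2.2.1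
  haveI := GrothLib.Rigidity.irreducibleSpace_of_connected G
  haveI : IsReduced G.left := GrothLib.RedSmooth.isReduced_of_smooth G.hom
  obtain ⟨T, _, iT, hT⟩ := exists_maxTorus (G := G)
  haveI := hT.1; haveI := hT.2.1
  obtain ⟨C, _, c, hc, hcc, -⟩ := GrothLib.MultDef14.exists_centralizer
    (GrothLib.DiagGrp.hasChartsFpqc_of_isTorus hT.2.2.1) (inferInstance : Smooth G.hom) (isAffineHom_of_isAffine _) iT
  obtain ⟨f, hf⟩ := exists_factor_maxTorus hG hT hc
  obtain ⟨U, hU, hUsub⟩ := exists_open_subset_cartan hT hc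
  have h1 : valAt (1 : pt k k ⟶ G) F = 0 := by
    have e := hF 1 1
    rw [_root_.one_mul] at e
    exact left_eq_add.1 e
  have hinv : ∀ a : pt k k ⟶ G, valAt a⁻¹ F = -valAt a F := fun a => by
    have e := hF a a⁻¹
    rw [mul_inv_cancel, h1] at e
    exact eq_neg_of_add_eq_zero_right e.symm
  have hT0 : ∀ q : pt k k ⟶ T, valAt (q ≫ iT) F = 0 := fun q => by
    rw [valAt_comp]
    exact additive_torus_eq_zero iT hT.2.2.1 (fnMap iT F) (fun a b => by
      rw [← valAt_comp, ← valAt_comp, ← valAt_comp, MonObj.mul_comp, hF]) q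
  have hU0 : ∀ x : 𝟙_ (Over (Spec (CommRingCat.of k))) ⟶ G, cl x ∈ U → valAt (ptOne.hom ≫ x) F = 0 := by
    intro x hx
    haveI : LocallyOfFiniteType C.hom := by rw [← Over.w c]; infer_instance
    haveI : LocallyOfFiniteType (G ⊗ C).hom := by
      show LocallyOfFiniteType (Limits.pullback.fst G.hom C.hom ≫ G.hom); infer_instance
    obtain ⟨p, -, hp⟩ := exists_cl_lift (GrothLib.Conj27.conjMap c) (E := Set.univ)
      isClosed_univ.isLocallyClosed (w := x) (by rw [Set.image_univ]; exact hUsub hx)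
    have hx' : (p ≫ fst G C) * ((p ≫ snd G C) ≫ c) * (p ≫ fst G C)⁻¹ = x := by
      rw [← GrothLib.Conj27.comp_conjMap, lift_comp_fst_snd, hp]
    rw [← hx', MonObj.comp_mul, MonObj.comp_mul, GrpObj.comp_inv, hF, hF, hinv, ← hf]
    have e := hT0 (ptOne.hom ≫ (p ≫ snd G C) ≫ f)
    simp only [Category.assoc] at e ⊢
    rw [e]
    ring
  by_contra hne
  have hb : G.left.basicOpen (show Γ(G.left, ⊤) from F) ≠ ⊥ := fun h => hne ((basicOpen_eq_bot_iff _).1 h)
  have hne2 : ((G.left.basicOpen (show Γ(G.left, ⊤) from F) : Set G.left) ∩ (U : Set G.left)).Nonempty := by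
    refine nonempty_preirreducible_inter (G.left.basicOpen _).2 U.2 ?_ hU
    rw [Set.nonempty_iff_ne_empty]
    exact fun h => hb (SetLike.coe_injective (h.trans (TopologicalSpace.Opens.coe_bot).symm))
  haveI : LocallyOfFiniteType G.hom := inferInstance
  haveI : JacobsonSpace G.left := LocallyOfFiniteType.jacobsonSpace G.hom
  obtain ⟨y, hy, hyc⟩ := nonempty_inter_closedPoints hne2
    ((G.left.basicOpen _).2.isLocallyClosed.inter U.2.isLocallyClosed)
  obtain ⟨z, rfl⟩ := exists_cl hyc
  exact (cl_mem_basicOpen F z).1 hy.1 (hU0 z hy.2)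

end GrothLib.Flag27

namespace GrothLib.Flag27

section BC

variable {S S' : Scheme.{u}} (q : S' ⟶ S) {G : Over S} [GrpObj G]

theorem gaFn_bcPoint (φ : G ⟶ Red.Ga S) {X : Over S'} (x : X ⟶ Red.bc q G) :
    Red.gaFn ((GrothLib.DiagGrp.bcPointMulEquiv q G X).symm x ≫ φ) =
      x.left.appTop ((Limits.pullback.fst G.hom q).appTop (Red.gaFn φ)) := by
  rw [RedPts.gaFn_comp]
  have hl : ((GrothLib.DiagGrp.bcPointMulEquiv q G X).symm x).left = x.left ≫ Limits.pullback.fst G.hom q := by
    show (((Over.mapPullbackAdj q).homEquiv X G).symm x).left = _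
    simp [Adjunction.homEquiv_counit, Over.mapPullbackAdj]
  rw [hl, Scheme.Hom.comp_appTop]
  rfl

theorem gaFn_bcPoint_mul (φ : G ⟶ Red.Ga S) [IsMonHom φ] {X : Over S'} (a b : X ⟶ Red.bc q G) :
    (a * b).left.appTop ((Limits.pullback.fst G.hom q).appTop (Red.gaFn φ)) =
      a.left.appTop ((Limits.pullback.fst G.hom q).appTop (Red.gaFn φ)) +
        b.left.appTop ((Limits.pullback.fst G.hom q).appTop (Red.gaFn φ)) := by
  rw [← gaFn_bcPoint, ← gaFn_bcPoint, ← gaFn_bcPoint, map_mul, MonObj.mul_comp, RedPts.gaFn_mul]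

end BC

open GrothLib.Repr GrothLib.Induce27

variable {k : Type u} [Field k]

/-- The base change of an additive function vanishes. -/
theorem additive_bc_eq_zero {K : Type u} [Field K] [IsAlgClosed K] (q : Spec (CommRingCat.of K) ⟶ Spec (CommRingCat.of k))
    {G : Over (Spec (CommRingCat.of k))} [GrpObj G] (hR : Red.IsReductiveOver K (Red.bc q G))
    (φ : G ⟶ Red.Ga (Spec (CommRingCat.of k))) [IsMonHom φ] :
    (Limits.pullback.fst G.hom q).appTop (Red.gaFn φ) = 0 :=
  additive_eq_zero hR ((Limits.pullback.fst G.hom q).appTop (Red.gaFn φ)) fun a b => by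
    apply (fnPtEquiv K K).injective
    rw [map_add, fnPtEquiv_apply, fnPtEquiv_apply, fnPtEquiv_apply, fnPt_valAt, fnPt_valAt, fnPt_valAt]
    exact gaFn_bcPoint_mul q φ a b

/-- Homomorphisms from reductive groups to the additive group are trivial. -/
theorem hom_Ga_eq_one_of_reductive {G : Over (Spec (CommRingCat.of k))} [GrpObj G] (hG : Red.IsReductive G)
    (φ : G ⟶ Red.Ga (Spec (CommRingCat.of k))) [IsMonHom φ] : φ = 1 := by
  let s : ↥(Spec (CommRingCat.of k)) := (Classical.arbitrary (PrimeSpectrum k) : PrimeSpectrum k)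
  haveI : Surjective (Red.geomPt s) := surjective_to_field _
  haveI := hG.2.1
  haveI : IsReduced G.left := GrothLib.RedSmooth.isReduced_of_smooth G.hom
  let p : (Red.bc (Red.geomPt s) G).left ⟶ G.left := Limits.pullback.fst G.hom (Red.geomPt s)
  haveI : Surjective p := MorphismProperty.pullback_fst G.hom (Red.geomPt s) ‹_›
  have h0 : p.appTop (Red.gaFn φ) = 0 := additive_bc_eq_zero (Red.geomPt s) (hG.2.2 s) φ
  have hb : G.left.basicOpen (Red.gaFn φ) = ⊥ := by
    refine SetLike.coe_injective (Set.eq_empty_iff_forall_notMem.2 fun x hx => ?_)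
    obtain ⟨y, rfl⟩ := p.surjective x
    have hy : y ∈ p ⁻¹ᵁ G.left.basicOpen (Red.gaFn φ) := hx
    rw [Scheme.preimage_basicOpen_top, h0, Scheme.basicOpen_zero] at hy
    exact hy
  exact RedPts.gaFn_injective (((basicOpen_eq_bot_iff _).1 hb).trans RedPts.gaFn_one.symm)

end GrothLib.Flag27
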