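import Groth.Agent.Lib.Flag27.UnipotentNormal
import Groth.Agent.Lib.Chev24.TorusQuot

/-!
# The centralizer of a maximal torus of a reductive group is the torus
-/

set_option autoImplicit false
set_option linter.all false
set_option backward.isDefEq.respectTransparency false

universe u

open CategoryTheory MonoidalCategory CartesianMonoidalCategory MonObj GrpObj AlgebraicGeometry VecGrp
open scoped TensorProduct

noncomputable section

namespace GrothLib.Flag27

open GrothLib.Repr GrothLib.Induce27 Groth.Agent.S11191 GrothLib.MultHopf14 GrothLib.CentMT14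

variable {k : Type u} [Field k] [IsAlgClosed k]

/-- A torus all of whose torsion points are trivial is trivial. -/
theorem isTrivialGrp_of_torsion {G T : Over (Spec (CommRingCat.of k))} [GrpObj G] [GrpObj T] [IsAffine G.left]
    [LocallyOfFiniteType G.hom] (j : T ⟶ G) [IsMonHom j] [Mono j] (hT : Red.IsTorus T)
    (h : ∀ (q : pt k k ⟶ T) (m : ℕ), (m : k) ≠ 0 → q ^ m = 1 → q = 1) : Red.IsTrivialGrp T := by
  obtain ⟨-, hTa, hTs, hTconn⟩ := torus_facts hT j
  haveI := hTa; haveI := hTs; haveI := hTconn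
  obtain ⟨K, _, _, ⟨eT⟩⟩ := exists_hopf T (isAffineHom_of_isAffine _)
  haveI := finiteType_of_grpIso eT
  haveI : IsDomain K := by
    haveI := GrothLib.Rigidity.irreducibleSpace_of_connected T
    haveI : IsReduced T.left := GrothLib.RedSmooth.isReduced_of_smooth T.hom
    haveI : IsIntegral T.left := isIntegral_of_irreducibleSpace_of_isReduced _
    let i : specGrp (R := k) K ≅ T := (Grp.forget _).mapIso eT
    haveI : IsIso i.inv.left := inferInstanceAs (IsIso ((Over.forget _).map i.inv))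
    haveI : IsIntegral (Spec (CommRingCat.of K)) := .of_isIso i.inv.left
    exact (affine_isIntegral_iff (CommRingCat.of K)).1 inferInstance
  have hK : HopfRep.IsDiagonalizable k K := by
    obtain ⟨L, _, _, hL⟩ := exists_split_functions eT hT
    haveI : Coalgebra.IsCocomm k K := NoPrim.isCocomm_of_isDiagonalizable L hL
    exact NoPrim.isDiagonalizable_of_isAlgClosed (TorusPrim24.noPrimElt_of_isTorus eT hT)
  obtain ⟨ℓ, hℓ, hℓk⟩ := exists_prime_invertible (k := k)
  have hall : ∀ q : pt k k ⟶ T, q = 1 := fun q => by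
    obtain ⟨φ, rfl⟩ := (ptsEquiv eT).surjective q
    suffices hφ : φ = 1 by rw [hφ, map_one]
    refine WithConv.ext (AlgHom.ext fun a => ?_)
    have h0 := eq_zero_of_torsion hK hℓ.one_lt hℓk (a - algebraMap k K ((1 : WithConv (K →ₐ[k] k)).ofConv a))
      fun N ψ hψ => by
        have hψ1 : ψ = 1 := (ptsEquiv eT).injective ((h _ (ℓ ^ N) (by rw [Nat.cast_pow]; exact pow_ne_zero _ hℓk)
          (by rw [← map_pow, hψ, map_one])).trans (map_one _).symm)
        show ψ.ofConv _ = 0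
        rw [map_sub, AlgHom.commutes, hψ1]
        simp
    rw [sub_eq_zero.1 h0, AlgHom.commutes, AlgHom.commutes]
  haveI : IsReduced T.left := GrothLib.RedSmooth.isReduced_of_smooth T.hom
  have e1 : (toUnit T ≫ η[T]) = 𝟙 T := hom_ext_pt fun q => by
    rw [Category.comp_id, hall q, ← Category.assoc, toUnit_unique ((1 : pt k k ⟶ T) ≫ toUnit T) (toUnit _), ← Hom.one_def]
  haveI : IsIso (toUnit T) := ⟨η[T], e1, toUnit_unique _ _⟩
  haveI : IsIso (toUnit T).left := inferInstanceAs (IsIso ((Over.forget _).map (toUnit T)))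
  show IsIso T.hom
  rw [← Over.w (toUnit T)]
  haveI : IsIso (𝟙_ (Over (Spec (CommRingCat.of k)))).hom := inferInstanceAs (IsIso (𝟙 (Spec (CommRingCat.of k))))
  infer_instance

set_option synthInstance.maxHeartbeats 400000 in
set_option maxHeartbeats 800000 in
/-- A unipotent group centralising a maximal torus of a reductive group is trivial. -/
theorem eq_one_of_reductive {G T U : Over (Spec (CommRingCat.of k))} [GrpObj G] [GrpObj T] [GrpObj U]
    [IsAffine U.left] [Smooth U.hom] [ConnectedSpace U.left] (hG : Red.IsReductiveOver k G)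
    {iT : T ⟶ G} (hT : AGF.IsMaxTorus iT) (hU : IsUnip k U) (u : U ⟶ G) [IsMonHom u]
    (hcomm : ∀ (v : pt k k ⟶ U) (t : pt k k ⟶ T), Commute (v ≫ u) (t ≫ iT)) : u = 1 := by
  classical
  obtain ⟨hGa, hGs, hGc, -⟩ := id hG
  haveI := hGa; haveI := hGs; haveI := hGc
  obtain ⟨hTm, hTmono, hTt, -⟩ := id hT
  haveI := hTm; haveI := hTmono
  obtain ⟨B, _, iB, tB, hB, htB⟩ := exists_borel_containing iT hTt
  let N₀ := Subgroup.normalClosure (Set.range fun v : pt k k ⟶ U => v ≫ u)
  let e : (𝟙_ (Over (Spec (CommRingCat.of k))) ⟶ G) →* (pt k k ⟶ G) :=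
    MonoidHom.mk' (fun v => ptOne.hom ≫ v) fun a b => MonObj.comp_mul _ _ _
  let St := N₀.comap e
  obtain ⟨H, _, iH, hiH, hiHc, hHs, hHr⟩ := Groth.Agent.S15608.result k G St
  haveI := hiH; haveI := hiHc; haveI := hHs
  haveI : Mono iH := Over.mono_of_mono_left iH
  haveI : IsAffine H.left := isAffine_of_isAffineHom iH.left
  haveI : QuasiCompact H.hom := inferInstance
  have hSH : ∀ g ∈ St, ∃ p : 𝟙_ (Over (Spec (CommRingCat.of k))) ⟶ H, p ≫ iH = g := fun g hg => by
    obtain ⟨y, hy, hyg⟩ := exists_cl_lift iH (E := Set.univ) isClosed_univ.isLocallyClosed (w := g)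
      (by rw [Set.image_univ]; exact hHr.ge (subset_closure ⟨g, hg, rfl⟩))
    exact ⟨y, hyg⟩
  -- the points of the closure are unipotent in a faithful representation
  obtain ⟨d, M, hM, hfaith⟩ := exists_faithful (G := G)
  obtain ⟨Mu, hMu⟩ : ∃ Mu : Matrix (Fin d) (Fin d) (Fn G),
      ∀ (g : pt k k ⟶ G) (a b : Fin d), valAt g (Mu a b) = ((evM M g - 1) ^ d) a b :=
    ⟨(M - 1) ^ d, fun g a b => by
      have e : (valAt g : Fn G →+* k).mapMatrix ((M - 1) ^ d) = (evM M g - 1) ^ d := by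
        rw [map_pow, map_sub, map_one]
        rfl
      rw [← e]
      rfl⟩
  have hclosed : ∀ (f : Fn G), (∀ s ∈ St, valAt (ptOne.hom ≫ s) f = 0) →
      ∀ p : 𝟙_ (Over (Spec (CommRingCat.of k))) ⟶ H, valAt (ptOne.hom ≫ p ≫ iH) f = 0 := by
    intro f hf p
    have hc : IsClosed ((G.left.basicOpen (show Γ(G.left, ⊤) from f) : Set G.left)ᶜ) :=
      (G.left.basicOpen _).2.isClosed_compl
    have hsub : ((fun s : (𝟙_ (Over (Spec (CommRingCat.of k))) ⟶ G) => s.left.base (IsLocalRing.closedPoint k)) ''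
        (St : Set _)) ⊆ ((G.left.basicOpen (show Γ(G.left, ⊤) from f) : Set G.left)ᶜ) := by
      intro x hx
      obtain ⟨s, hs, rfl⟩ := hx
      exact fun hmem => (cl_mem_basicOpen f s).1 hmem (hf s hs)
    have h1 : cl (p ≫ iH) ∈ Set.range iH.left.base := ⟨cl p, (cl_comp p iH).symm⟩
    rw [hHr] at h1
    by_contra hne
    exact (closure_minimal hsub hc h1) ((cl_mem_basicOpen f (p ≫ iH)).2 hne)
  have hkey : ∀ s ∈ St, (evM M (ptOne.hom ≫ s) - 1) ^ d = 0 := fun s hs =>
    unipotent_on_normalClosure hT hB tB htB hU u hcomm d M hM (ptOne.hom ≫ s) (Subgroup.mem_comap.1 hs)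
  have hunip : ∀ p : pt k k ⟶ H, (evM M (p ≫ iH) - 1) ^ d = 0 := by
    intro p
    refine Matrix.ext fun a b => ?_
    have hv : ∀ s ∈ St, valAt (ptOne.hom ≫ s) (Mu a b) = 0 := fun s hs =>
      (hMu (ptOne.hom ≫ s) a b).trans (congrFun (congrFun (hkey s hs) a) b)
    have h := hclosed (Mu a b) hv (ptOne.inv ≫ p)
    have e : ptOne.hom ≫ (ptOne.inv ≫ p) ≫ iH = p ≫ iH := by
      rw [Category.assoc, Iso.hom_inv_id_assoc]
    rw [e, hMu (p ≫ iH) a b] at h
    exact h
  -- connectedness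
  obtain ⟨H₀, _, j, hj, hjc, hH₀s, -, hH₀c, hfac⟩ := exists_neutral_closed (G := H)
  haveI := hj; haveI := hjc; haveI := hH₀s; haveI := hH₀c
  let ej : (pt k k ⟶ H₀) →* (pt k k ⟶ G) := GrothLib.RankOne.postHom (j ≫ iH) (pt k k)
  haveI : IsReduced U.left := GrothLib.RedSmooth.isReduced_of_smooth U.hom
  have hgen : ∀ (c : pt k k ⟶ G) (v : pt k k ⟶ U), c * (v ≫ u) * c⁻¹ ∈ N₀ := fun c v => by
    have h1 : v ≫ u ∈ N₀ := Subgroup.subset_normalClosure (Set.mem_range_self (f := fun v : pt k k ⟶ U => v ≫ u) v)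
    exact (Subgroup.normalClosure_normal (s := Set.range fun v : pt k k ⟶ U => v ≫ u)).conj_mem (v ≫ u) h1 c
  have hgen' : ∀ (c : pt k k ⟶ G) (v : pt k k ⟶ U), c * (v ≫ u) * c⁻¹ ∈ ej.range := by
    intro c v
    obtain ⟨g, hg⟩ : ∃ g : 𝟙_ (Over (Spec (CommRingCat.of k))) ⟶ G, toUnit (pt k k) ≫ g = c :=
      ⟨ptOne.inv ≫ c, toUnit_ptOne_inv_comp c⟩
    have hl : ∀ z : 𝟙_ (Over (Spec (CommRingCat.of k))) ⟶ U, ∃ h, h ≫ iH = z ≫ AGF.conjBy g u := fun z => by
      refine hSH _ (Subgroup.mem_comap.2 ?_)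
      have e2 : e (z ≫ AGF.conjBy g u) = c * ((ptOne.hom ≫ z) ≫ u) * c⁻¹ := by
        show ptOne.hom ≫ z ≫ AGF.conjBy g u = _
        rw [← Category.assoc, comp_conjBy, hg]
      rw [e2]
      exact hgen c (ptOne.hom ≫ z)
    obtain ⟨f, hf⟩ := exists_lift_of_pts (AGF.conjBy g u) iH hl
    haveI : IsMonHom (AGF.conjBy g u) := isMonHom_conjBy g u
    haveI : IsMonHom (f ≫ iH) := by rw [hf]; infer_instance
    haveI : IsMonHom f := GrothLib.CentMT14.isMonHom_of_comp f iH
    obtain ⟨f₀, -, hf₀⟩ := hfac U f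
    refine ⟨v ≫ f₀, ?_⟩
    have e3 : (v ≫ f₀) ≫ j ≫ iH = c * (v ≫ u) * c⁻¹ := by
      rw [Category.assoc, reassoc_of% hf₀, hf, comp_conjBy, hg]
    exact e3
  have hN₀ : N₀ ≤ ej.range := by
    show Subgroup.closure (Group.conjugatesOfSet (Set.range fun v : pt k k ⟶ U => v ≫ u)) ≤ ej.range
    refine (Subgroup.closure_le ej.range).2 fun x hx => ?_
    obtain ⟨y, hy, hconj⟩ := Group.mem_conjugatesOfSet_iff.1 hx
    obtain ⟨v, hv⟩ := hy
    obtain ⟨c, hc⟩ := isConj_iff.1 hconj
    rw [← hc, ← hv]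
    exact hgen' c v
  haveI hjic : IsClosedImmersion (j ≫ iH).left := by rw [Over.comp_left]; infer_instance
  have hsub₀ : ((fun s : (𝟙_ (Over (Spec (CommRingCat.of k))) ⟶ G) => s.left.base (IsLocalRing.closedPoint k)) ''
      (St : Set _)) ⊆ Set.range (j ≫ iH).left.base := by
    intro x hx
    obtain ⟨s, hs, rfl⟩ := hx
    obtain ⟨z, hz⟩ := MonoidHom.mem_range.1 (hN₀ (Subgroup.mem_comap.1 hs))
    have hz' : (ptOne.inv ≫ z) ≫ (j ≫ iH) = s := by
      rw [Category.assoc, show z ≫ j ≫ iH = ptOne.hom ≫ s from hz, Iso.inv_hom_id_assoc]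
    refine ⟨cl (ptOne.inv ≫ z), ?_⟩
    rw [← cl_comp, hz']
    rfl
  have hjs : Function.Surjective j.left.base := by
    intro y
    have h0 : iH.left.base y ∈ Set.range iH.left.base := ⟨y, rfl⟩
    rw [hHr] at h0
    obtain ⟨x, hx⟩ := closure_minimal hsub₀ hjic.base_closed.isClosed_range h0
    refine ⟨x, iH.left.isClosedEmbedding.injective ?_⟩
    rw [← hx, Over.comp_left, Scheme.Hom.comp_apply]
  haveI : ConnectedSpace H.left := hjs.connectedSpace j.left.continuous
  -- normality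
  have hnorm : AlgGrp.IsNormalHom iH := by
    refine GrothLib.Chev24.isNormalHom_of_pts iH fun g x => ?_
    obtain ⟨φ, hφ⟩ : ∃ φ : G ⟶ G, ∀ s : 𝟙_ (Over (Spec (CommRingCat.of k))) ⟶ G, s ≫ φ = g * s * g⁻¹ :=
      ⟨AGF.conjBy g (𝟙 G), fun s => by
        rw [comp_conjBy, toUnit_unique (toUnit (𝟙_ (Over (Spec (CommRingCat.of k))))) (𝟙 _), Category.id_comp,
          Category.comp_id]⟩
    have himg : φ.left.base '' ((fun s : (𝟙_ (Over (Spec (CommRingCat.of k))) ⟶ G) => s.left.base (IsLocalRing.closedPoint k)) ''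
        (St : Set _)) ⊆ ((fun s : (𝟙_ (Over (Spec (CommRingCat.of k))) ⟶ G) => s.left.base (IsLocalRing.closedPoint k)) ''
        (St : Set _)) := by
      intro y hy
      obtain ⟨z, hz, rfl⟩ := hy
      obtain ⟨s, hs, rfl⟩ := hz
      refine ⟨g * s * g⁻¹, Subgroup.mem_comap.2 ?_, ?_⟩
      · rw [map_mul, map_mul, map_inv]
        exact (Subgroup.normalClosure_normal (s := Set.range fun v : pt k k ⟶ U => v ≫ u)).conj_mem (e s)
          (Subgroup.mem_comap.1 hs) (e g)
      · rw [← hφ s]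
        exact cl_comp s φ
    have h0 : cl (x ≫ iH) ∈ Set.range iH.left.base := ⟨cl x, (cl_comp x iH).symm⟩
    rw [hHr] at h0
    have h1 := closure_mono himg (image_closure_subset_closure_image φ.left.continuous (Set.mem_image_of_mem _ h0))
    rw [← cl_comp, hφ, ← hHr] at h1
    obtain ⟨y, -, hy⟩ := exists_cl_lift iH (E := Set.univ) isClosed_univ.isLocallyClosed
      (w := g * (x ≫ iH) * g⁻¹) (by rw [Set.image_univ]; exact h1)
    exact ⟨y, hy⟩
  -- no subtorus
  have hnot : Red.HasNoSubtorus k H := by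
    intro T' _ j' _ _ hT'
    refine isTrivialGrp_of_torsion j' hT' fun q m hm hq => ?_
    rw [← cancel_mono (j' ≫ iH), MonObj.one_comp]
    refine hfaith _ ?_
    refine eq_one_of_unipotent (by rw [← Category.assoc]; exact hunip (q ≫ j')) hm ?_
    have hcp := map_pow (GrothLib.RankOne.postHom (j' ≫ iH) (pt k k)) q m
    rw [hq, map_one] at hcp
    let Am : (pt k k ⟶ G) →* Matrix (Fin d) (Fin d) k :=
      { toFun := evM M, map_one' := hM.one, map_mul' := hM.mul }
    show Am _ ^ m = 1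
    rw [← map_pow]
    exact (congrArg Am hcp.symm).trans (map_one Am)
  have hH1 : Red.IsTrivialGrp H := hG.2.2.2 H iH hiHc hHs ‹ConnectedSpace H.left› hnorm hnot
  haveI : IsIso H.hom := hH1
  -- conclusion
  refine hom_ext_pt fun v => ?_
  have hmem : ptOne.inv ≫ v ≫ u ∈ St := by
    refine Subgroup.mem_comap.2 ?_
    have e1 : e (ptOne.inv ≫ v ≫ u) = v ≫ u := Iso.hom_inv_id_assoc ptOne (v ≫ u)
    rw [e1]
    exact Subgroup.subset_normalClosure (Set.mem_range_self (f := fun v : pt k k ⟶ U => v ≫ u) v)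
  obtain ⟨p, hp⟩ := hSH _ hmem
  have hp1 : p = 1 := by
    refine Over.OverMorphism.ext ?_
    rw [← cancel_mono H.hom, Over.w, Over.w]
  rw [hp1, MonObj.one_comp] at hp
  rw [MonObj.comp_one, ← cancel_epi ptOne.inv, ← hp, MonObj.comp_one]

set_option synthInstance.maxHeartbeats 400000 in
set_option maxHeartbeats 800000 in
/-- The centralizer of a maximal torus of a reductive group is the torus. -/
theorem exists_factor_maxTorus {G T C : Over (Spec (CommRingCat.of k))} [GrpObj G] [GrpObj T] [GrpObj C]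
    (hG : Red.IsReductiveOver k G) {iT : T ⟶ G} (hT : AGF.IsMaxTorus iT) {c : C ⟶ G}
    (hc : Red.IsCentralizerOf iT c) : ∃ f : C ⟶ T, f ≫ iT = c := by
  haveI := hG.1; haveI := hG.2.1; haveI := hG.2.2.1
  obtain ⟨hTm, hTmono, hTt, -⟩ := id hT
  haveI := hTm; haveI := hTmono
  obtain ⟨hcc, hCa, hCs, hCconn⟩ := centralizer_facts iT hTt hc
  haveI := hcc; haveI := hCa; haveI := hCs; haveI := hCconn
  obtain ⟨hcm, hcmono, hciff⟩ := id hc
  haveI := hcm; haveI := hcmono
  obtain ⟨D, _, U, _, p, s, u, r, hp, hs, hu, hsp, hDt, hDa, hDs, -, huc, hup, -, hru, hUu, hUs, hUconn⟩ :=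
    hasSplit_of_solvable (B := C) (isSolvable_centralizer hT hc)
  haveI := hp; haveI := hs; haveI := hu; haveI := huc; haveI := hUs
  haveI : IsAffine U.left := isAffine_of_isAffineHom u.left
  haveI : ConnectedSpace U.left := hUconn
  have h1 : u ≫ c = 1 := eq_one_of_reductive hG hT hUu (u ≫ c) fun v t => by
    have := (hciff _ (v ≫ u ≫ c)).1 ⟨v ≫ u, Category.assoc _ _ _⟩ _ (𝟙 _) t
    rwa [Category.id_comp] at this
  have hps : p ≫ s = 𝟙 C := by
    have e : r ≫ u = (1 : C ⟶ C) := by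
      rw [← cancel_mono c, Category.assoc, h1, MonObj.comp_one, MonObj.one_comp]
    rw [hru, mul_inv_eq_one] at e
    exact e.symm
  obtain ⟨tC, htC⟩ := (hciff _ iT).2 fun X x h => by
    rw [← MonObj.mul_comp, ← MonObj.mul_comp, GrothLib.RankCell14.comm_torus hTt x h]
  haveI : Mono s := by
    refine ⟨fun a b h => ?_⟩
    have := congrArg (· ≫ p) h
    simpa only [Category.assoc, hsp, Category.comp_id] using this
  haveI : Mono (s ≫ c) := mono_comp _ _
  haveI := hT.2.2.2 D (s ≫ c) (tC ≫ p) hDt (by rw [Category.assoc, reassoc_of% hps, htC])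
  refine ⟨p ≫ inv (tC ≫ p), ?_⟩
  rw [← htC, Category.assoc]
  conv_rhs => rw [← Category.id_comp c, ← hps, Category.assoc]
  congr 1
  rw [IsIso.inv_comp_eq, Category.assoc, reassoc_of% hps]

end GrothLib.Flag27
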