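import Groth.Agent.Lib.Flag27.Conj
import Groth.Agent.Lib.Flag27.RepExists
import Groth.Agent.Lib.Flag27.ProjAct

/-!
# The cone over the orbit of a line fixed by a Borel subgroup
-/

set_option autoImplicit false
set_option linter.all false
set_option backward.isDefEq.respectTransparency false

universe u

open CategoryTheory MonoidalCategory CartesianMonoidalCategory MonObj GrpObj AlgebraicGeometry VecGrp
open scoped TensorProduct

noncomputable section

namespace GrothLib.Flag27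

open GrothLib.Repr GrothLib.Induce27 Groth.Agent.S11191

variable {k : Type u} [Field k] [IsAlgClosed k]

omit [IsAlgClosed k] in
/-- A rational point lies in the non-vanishing locus of a function iff its value is nonzero. -/
theorem cl_mem_basicOpen {X : Over (Spec (CommRingCat.of k))} (f : Fn X)
    (z : 𝟙_ (Over (Spec (CommRingCat.of k))) ⟶ X) :
    cl z ∈ X.left.basicOpen (show Γ(X.left, ⊤) from f) ↔ valAt (ptOne.hom ≫ z) f ≠ 0 := by
  set w := ptOne.hom ≫ z with hw
  have e : cl z = w.left (IsLocalRing.closedPoint k) := by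
    rw [hw, Over.comp_left, Scheme.Hom.comp_apply]; rfl
  have h1 : fnMap w f = fnPt k k (valAt w f) := (fnPt_valAt w f).symm
  rw [e]
  show IsLocalRing.closedPoint k ∈ w.left ⁻¹ᵁ X.left.basicOpen (show Γ(X.left, ⊤) from f) ↔ _
  rw [Scheme.preimage_basicOpen_top]
  constructor
  · intro h hv
    rw [hv, map_zero] at h1
    rw [show w.left.appTop (show Γ(X.left, ⊤) from f) = 0 from h1, Scheme.basicOpen_zero] at h
    exact h
  · intro hv
    have hu : IsUnit (w.left.appTop (show Γ(X.left, ⊤) from f)) := by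
      have h := (isUnit_iff_ne_zero.2 hv).map (fnPt k k)
      rw [← h1] at h
      exact h
    rw [Scheme.basicOpen_of_isUnit _ hu]
    exact trivial

variable {G B : Over (Spec (CommRingCat.of k))} [GrpObj G] [GrpObj B] [IsAffine G.left] [Smooth G.hom]
  [ConnectedSpace G.left]

/-- The cone over the orbit of a line fixed by a Borel subgroup is the zero set of polynomials. -/
theorem exists_cone_eqs {iB : B ⟶ G} (hB : Red.IsBorelOver k iB) {n : ℕ} {M : Matrix (Fin n) (Fin n) (Fn G)}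
    (hM : IsRep M) {v₀ : Fin n → k} (hv₀ : v₀ ≠ 0)
    (hfix : ∀ b : pt k k ⟶ B, ∃ c : k, (evM M (b ≫ iB)).mulVec v₀ = c • v₀) :
    ∃ ps : Set (MvPolynomial (Fin n) k), ∀ x : Fin n → k,
      (∃ (g : pt k k ⟶ G) (c : k), x = c • (evM M g).mulVec v₀) ↔ ∀ p ∈ ps, MvPolynomial.eval x p = 0 := by
  classical
  obtain ⟨p₀, hp₀⟩ : ∃ p, v₀ p ≠ 0 := Function.ne_iff.1 hv₀
  let R := MvPolynomial (Fin n) k
  let T := pt k R
  haveI hT : LocallyOfFiniteType T.hom := by
    show LocallyOfFiniteType (Spec.map (CommRingCat.ofHom (algebraMap k R)))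
    rw [HasRingHomProperty.Spec_iff (P := @LocallyOfFiniteType)]
    exact RingHom.finiteType_algebraMap.2 inferInstance
  haveI hTq : QuasiCompact T.hom :=
    inferInstanceAs (QuasiCompact (Spec.map (CommRingCat.ofHom (algebraMap k R))))
  haveI : LocallyOfFiniteType (G ⊗ T).hom := by
    show LocallyOfFiniteType (Limits.pullback.fst G.hom T.hom ≫ G.hom)
    infer_instance
  let xt : (𝟙_ (Over (Spec (CommRingCat.of k))) ⟶ T) → Fin n → k :=
    fun t j => valAt (ptOne.hom ≫ t) (fnPt k R (MvPolynomial.X j))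
  have hev : ∀ t (p : R), valAt (ptOne.hom ≫ t) (fnPt k R p) = MvPolynomial.eval (xt t) p := fun t p => by
    have h := MvPolynomial.algHom_ext (f := (valAt (ptOne.hom ≫ t)).comp (fnPt k R))
      (g := MvPolynomial.aeval (xt t)) fun j => (MvPolynomial.aeval_X (xt t) j).symm
    have h2 := congrArg (fun φ => φ p) h
    rw [MvPolynomial.aeval_eq_eval] at h2
    exact h2
  let y : Fin n → Fn (G ⊗ T) := fun a => ∑ j, fnMap (fst G T) (fnMap (GrpObj.inv : G ⟶ G) (M a j)) *
    fnMap (snd G T) (fnPt k R (MvPolynomial.X j))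
  let F : Fin n → Fn (G ⊗ T) := fun a => algebraMap k _ (v₀ p₀) * y a - algebraMap k _ (v₀ a) * y p₀
  let C : Set (G ⊗ T).left := ⋂ a, ((G ⊗ T).left.basicOpen (show Γ((G ⊗ T).left, ⊤) from F a) : Set (G ⊗ T).left)ᶜ
  have hCc : IsClosed C := isClosed_iInter fun a => ((G ⊗ T).left.basicOpen _).2.isClosed_compl
  have hC : ∀ (g : 𝟙_ (Over (Spec (CommRingCat.of k))) ⟶ G) (t : 𝟙_ (Over (Spec (CommRingCat.of k))) ⟶ T),
      cl (lift g t) ∈ C ↔ ∃ c : k, (evM M (ptOne.hom ≫ g)⁻¹).mulVec (xt t) = c • v₀ := by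
    intro g t
    have hy : ∀ a, valAt (ptOne.hom ≫ lift g t) (y a) = (evM M (ptOne.hom ≫ g)⁻¹).mulVec (xt t) a := fun a => by
      rw [map_sum, Matrix.mulVec, dotProduct]
      refine Finset.sum_congr rfl fun j _ => ?_
      rw [map_mul, ← valAt_comp, ← valAt_comp, ← valAt_comp]
      simp only [Category.assoc, lift_fst_assoc, lift_snd]
      rw [GrpObj.inv_eq_inv, GrpObj.comp_inv, GrpObj.comp_inv, Category.comp_id]
      rfl
    have hF : cl (lift g t) ∈ C ↔ ∀ a, v₀ p₀ * (evM M (ptOne.hom ≫ g)⁻¹).mulVec (xt t) a =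
        v₀ a * (evM M (ptOne.hom ≫ g)⁻¹).mulVec (xt t) p₀ := by
      simp only [C, Set.mem_iInter, Set.mem_compl_iff, SetLike.mem_coe]
      refine forall_congr' fun a => ?_
      rw [cl_mem_basicOpen (F a), not_not]
      show valAt (ptOne.hom ≫ lift g t) (algebraMap k _ (v₀ p₀) * y a - algebraMap k _ (v₀ a) * y p₀) = 0 ↔ _
      rw [map_sub, map_mul, map_mul, AlgHom.commutes, AlgHom.commutes, hy, hy, sub_eq_zero]
      rfl
    rw [hF]
    constructor
    · intro h
      refine ⟨(evM M (ptOne.hom ≫ g)⁻¹).mulVec (xt t) p₀ / v₀ p₀, funext fun a => ?_⟩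
      rw [Pi.smul_apply, smul_eq_mul, div_mul_eq_mul_div, eq_div_iff hp₀, mul_comm _ (v₀ p₀), h a, mul_comm]
    · rintro ⟨c, hc⟩ a
      rw [hc, Pi.smul_apply, Pi.smul_apply, smul_eq_mul, smul_eq_mul]
      ring
  have hst : ∀ (b : 𝟙_ (Over (Spec (CommRingCat.of k))) ⟶ B) (g : 𝟙_ (Over (Spec (CommRingCat.of k))) ⟶ G)
      (t : 𝟙_ (Over (Spec (CommRingCat.of k))) ⟶ T), cl (lift g t) ∈ C → cl (lift (g * (b ≫ iB)) t) ∈ C := by
    intro b g t h
    obtain ⟨c, hc⟩ := (hC g t).1 h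
    haveI : IsMonHom iB := hB.1
    obtain ⟨d, hd⟩ := hfix (ptOne.hom ≫ b)⁻¹
    refine (hC _ t).2 ⟨c * d, ?_⟩
    rw [MonObj.comp_mul, _root_.mul_inv_rev, hM.mul, ← Matrix.mulVec_mulVec, hc, Matrix.mulVec_smul,
      ← Category.assoc, ← GrpObj.inv_comp, hd, smul_smul]
  have hE : IsClosed ((snd G T).left.base '' C) := uc_of_borel hB T hT hTq C hCc hst
  have hmem : ∀ t, cl t ∈ (snd G T).left.base '' C ↔ ∃ (g : pt k k ⟶ G) (c : k), xt t = c • (evM M g).mulVec v₀ := by
    intro t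
    constructor
    · intro h
      obtain ⟨z, hz, hzt⟩ := exists_cl_lift (snd G T) hCc.isLocallyClosed h
      have e : z = lift (z ≫ fst G T) t := by rw [← hzt, ← comp_lift, lift_fst_snd, Category.comp_id]
      rw [e] at hz
      obtain ⟨c, hc⟩ := (hC _ t).1 hz
      refine ⟨ptOne.hom ≫ z ≫ fst G T, c, ?_⟩
      rw [← Matrix.mulVec_smul, ← hc, Matrix.mulVec_mulVec, hM.mul_inv, Matrix.one_mulVec]
    · rintro ⟨g, c, hc⟩
      refine ⟨cl (lift (ptOne.inv ≫ g) t), (hC _ t).2 ⟨c, ?_⟩, by rw [← cl_comp, lift_snd]⟩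
      rw [Iso.hom_inv_id_assoc, hc, Matrix.mulVec_smul, Matrix.mulVec_mulVec, hM.inv_mul, Matrix.one_mulVec]
  refine ⟨{p | ∀ t, cl t ∈ (snd G T).left.base '' C → MvPolynomial.eval (xt t) p = 0}, fun x => ?_⟩
  let tx : 𝟙_ (Over (Spec (CommRingCat.of k))) ⟶ T := ptOne.inv ≫ ptMap (MvPolynomial.aeval x)
  have hx : xt tx = x := funext fun j => by
    show valAt (ptOne.hom ≫ ptOne.inv ≫ _) _ = _
    rw [Iso.hom_inv_id_assoc, valAt_ptMap, MvPolynomial.aeval_X]
  refine ⟨fun h p hp => ?_, fun h => ?_⟩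
  · rw [← hx] at h ⊢
    exact hp tx ((hmem tx).2 h)
  · rw [← hx]
    refine (hmem tx).1 ?_
    by_contra hne
    obtain ⟨_, ⟨p, rfl⟩, hp, hsub⟩ := (PrimeSpectrum.isTopologicalBasis_basic_opens (R := R)).exists_subset_of_mem_open
      (show cl tx ∈ ((snd G T).left.base '' C)ᶜ from hne) hE.isOpen_compl
    have hb : ∀ t, cl t ∈ T.left.basicOpen (show Γ(T.left, ⊤) from fnPt k R p) ↔
        MvPolynomial.eval (xt t) p ≠ 0 := by
      intro t
      rw [← hev t p, cl_mem_basicOpen (fnPt k R p)]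
    have hbo : (T.left.basicOpen (show Γ(T.left, ⊤) from fnPt k R p) : Set T.left) =
        (PrimeSpectrum.basicOpen p : Set (PrimeSpectrum R)) := by
      show (((Spec (CommRingCat.of R)).basicOpen ((Scheme.ΓSpecIso (CommRingCat.of R)).inv p) : (Spec (CommRingCat.of R)).Opens) :
        Set ↥(Spec (CommRingCat.of R))) = _
      rw [basicOpen_eq_of_affine]
    exact (hb tx).1 (hbo.ge hp) (by
      rw [hx]
      refine h p fun t ht => ?_
      by_contra h0
      exact hsub (hbo.le ((hb t).2 h0)) ht)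

end GrothLib.Flag27
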