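import Groth.Agent.Lib.DynMeth.Conn
import Groth.Agent.Lib.DynMeth.GLSmooth
import Groth.Agent.Lib.CharFG28.GroupLike
import Groth.Agent.S16480
import Groth.Prelude.Def_GLin4
import Groth.Prelude.Def_HopfRep
import Mathlib

/-!
# Centralizers of tori in connected affine groups are connected: the Hopf-algebra part

Centralizers of one-parameter subgroups are retracts of parabolic subgroups; a split torus is
generated by finitely many one-parameter subgroups.
-/

set_option autoImplicit false
set_option linter.all false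

universe u

open LaurentPolynomial TensorProduct WithConv

attribute [-simp] LaurentPolynomial.single_eq_C_mul_T

namespace GrothLib.Flag27

open GrothLib.DynMeth

variable {k : Type u} [Field k]

section One

variable {A : Type u} [CommRing A] [HopfAlgebra k A] (lam : A →ₐc[k] k[T;T⁻¹])

/-- The ideal of the centralizer of a one-parameter subgroup. -/
noncomputable def centIdeal : Ideal A := idealLim lam ⊔ idealLim (negHom lam)

theorem represents_centIdeal :
    Dyn.Represents k A (centIdeal lam) (fun R _ _ g => Dyn.conjOrbit k A lam R g = (toL R).comp g) :=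
  represents_centralizer lam (negHom lam) (negHom_eq lam) _ _ (represents_idealLim _) (represents_idealLim _)

instance isHopfIdeal_centIdeal : (centIdeal lam).IsHopfIdeal k := by
  refine isHopfIdeal_of_represents _ _ (represents_centIdeal lam) ?_ ?_ ?_
  · apply toConv_injective
    rw [conjOrbit_one]
    exact WithConv.ext (AlgHom.ext fun a => by simp [one_apply, toL_apply])
  · intro R _ _ f g hf hg
    apply toConv_injective
    rw [comp_mul, conjOrbit_mul, hf, hg]
  · intro R _ _ f hf
    apply toConv_injective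
    rw [comp_inv, conjOrbit_inv, hf]

/-- The centralizer of a one-parameter subgroup of a connected group is connected. -/
theorem idempotent_centIdeal [Algebra.FiniteType k A]
    (hconn : ∀ e : A, IsIdempotentElem e → e = 0 ∨ e = 1) {e : A ⧸ centIdeal lam} (he : IsIdempotentElem e) :
    e = 0 ∨ e = 1 := by
  obtain ⟨n, π, hπ⟩ := Groth.Agent.S16480.result k A
  haveI := GrothLib.DynMeth.finiteType_GLn (k := k) n
  haveI := GrothLib.DynMeth.formallySmooth_GLn (k := k) n
  let Jp := idealLim lam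
  let mkp : A →ₐ[k] A ⧸ Jp := Ideal.Quotient.mkₐ k Jp
  obtain ⟨h, hh⟩ := (represents_idealLim lam (A ⧸ Jp) mkp).1 fun a ha => Ideal.Quotient.eq_zero_iff_mem.2 ha
  let z := ((Polynomial.aeval (R := A ⧸ Jp) (0 : A ⧸ Jp)).restrictScalars k).comp h
  have hz : ∀ a, z a = mkp (co lam 0 a) := fun a => by
    rw [← coeff_conjOrbit, ← hh]
    exact aeval_zero_eq (h a)
  have hkill : centIdeal lam ≤ RingHom.ker z := by
    refine sup_le (Ideal.span_le.2 ?_) (Ideal.span_le.2 ?_)
    · rintro x ⟨n, hn, a, rfl⟩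
      show z _ = 0
      rw [hz, co_co, if_neg hn.ne', map_zero]
    · rintro x ⟨n, hn, a, rfl⟩
      show z _ = 0
      rw [hz, co_neg lam (negHom lam) (negHom_eq lam), co_co, if_neg (by omega), map_zero]
  let σ : A ⧸ centIdeal lam →ₐ[k] A ⧸ Jp := Ideal.Quotient.liftₐ (centIdeal lam) z fun a ha => hkill ha
  let π' : A ⧸ Jp →+* A ⧸ centIdeal lam := Ideal.Quotient.factor (le_sup_left : Jp ≤ centIdeal lam)
  have hret : π' (σ e) = e := by
    obtain ⟨a, rfl⟩ := Ideal.Quotient.mk_surjective e
    show π' (z a) = _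
    rw [hz]
    show Ideal.Quotient.mk (centIdeal lam) (co lam 0 a) = Ideal.Quotient.mk (centIdeal lam) a
    have ha : ((cL lam a).coeff.sum fun _ r => r) = a := by
      rw [← evalOne_eq_sum (k := k)]
      exact DFunLike.congr_fun (evalOne_conjOrbit lam (AlgHom.id k A)) a
    conv_rhs => rw [← ha]
    rw [Finsupp.sum, map_sum, Finset.sum_eq_single (0 : ℤ)]
    · rfl
    · intro n _ hn
      apply Ideal.Quotient.eq_zero_iff_mem.2
      rcases lt_or_gt_of_ne hn with hn | hn
      · exact Ideal.mem_sup_left (Ideal.subset_span ⟨n, hn, a, rfl⟩)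
      · exact Ideal.mem_sup_right (Ideal.subset_span ⟨-n, by omega, a, by
          rw [co_neg lam (negHom lam) (negHom_eq lam), neg_neg]; rfl⟩)
    · intro h0
      rw [Finsupp.notMem_support_iff.1 h0, map_zero]
  rcases idempotent_limExists π hπ lam (represents_idealLim lam) hconn (he.map σ) with h' | h'
  · exact Or.inl (by rw [← hret, h', map_zero])
  · exact Or.inr (by rw [← hret, h', map_one])

/-- One-parameter subgroups descend to the quotient by a Hopf ideal they factor through. -/
noncomputable def liftLam (J : Ideal A) [J.IsHopfIdeal k] (h : ∀ a ∈ J, lam a = 0) : A ⧸ J →ₐc[k] k[T;T⁻¹] :=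
  BialgHom.ofAlgHom (Ideal.Quotient.liftₐ J (lam : A →ₐ[k] k[T;T⁻¹]) h)
    (Ideal.Quotient.algHom_ext _ (AlgHom.ext fun a => CoalgHomClass.counit_comp_apply lam a))
    (Ideal.Quotient.algHom_ext _ (AlgHom.ext fun a => by
      simp only [AlgHom.comp_apply, Ideal.Quotient.mkₐ_eq_mk]
      refine Eq.trans ?_ (CoalgHomClass.map_comp_comul_apply lam a)
      show Algebra.TensorProduct.map _ _ (Coalgebra.comul (R := k) (Ideal.Quotient.mk J a)) = _
      rw [Bialgebra.Quotient.comul_mk]
      generalize Coalgebra.comul (R := k) a = w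
      induction w using TensorProduct.induction_on with
      | zero => simp
      | add x y hx hy => simp only [map_add, hx, hy]
      | tmul x y => simp <;> rfl))

theorem liftLam_comp (J : Ideal A) [J.IsHopfIdeal k] (h : ∀ a ∈ J, lam a = 0) :
    (liftLam lam J h).comp (Bialgebra.Quotient.mkBialgHom J) = lam :=
  BialgHom.ext fun a => rfl

end One

section Pull

variable {A A' : Type u} [CommRing A] [HopfAlgebra k A] [CommRing A'] [HopfAlgebra k A']
  (φ : A' →ₐc[k] A) (hφ : Function.Surjective φ) (lam : A →ₐc[k] k[T;T⁻¹])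

include hφ

theorem map_idealLim : (idealLim (lam.comp φ)).map (φ : A' →+* A) = idealLim lam := by
  rw [idealLim, idealLim, Ideal.map_span]
  congr 1
  ext x
  constructor
  · rintro ⟨_, ⟨n, hn, a, rfl⟩, rfl⟩
    exact ⟨n, hn, φ a, (apply_co_pull φ lam (AlgHom.id k A) n a).symm⟩
  · rintro ⟨n, hn, a, rfl⟩
    obtain ⟨a', rfl⟩ := hφ a
    exact ⟨_, ⟨n, hn, a', rfl⟩, apply_co_pull φ lam (AlgHom.id k A) n a'⟩

theorem map_centIdeal : (centIdeal (lam.comp φ)).map (φ : A' →+* A) = centIdeal lam := by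
  rw [centIdeal, centIdeal, Ideal.map_sup, map_idealLim φ hφ lam, ← map_idealLim φ hφ (negHom lam)]
  rfl

end Pull

/-- The common centralizer of commuting one-parameter subgroups of a connected group is connected. -/
theorem idempotent_centFamily : ∀ (r : ℕ) {A : Type u} [CommRing A] [HopfAlgebra k A] [Algebra.FiniteType k A]
    (lam : Fin r → (A →ₐc[k] k[T;T⁻¹])), (∀ e : A, IsIdempotentElem e → e = 0 ∨ e = 1) →
    (∀ i j, ∀ a ∈ centIdeal (lam i), lam j a = 0) →
    ∀ e : A ⧸ ⨆ i, centIdeal (lam i), IsIdempotentElem e → e = 0 ∨ e = 1 := by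
  intro r
  induction r with
  | zero =>
    intro A _ _ _ lam hconn _ e he
    obtain ⟨a, rfl⟩ := Ideal.Quotient.mk_surjective e
    have h0 : (⨆ i, centIdeal (lam i)) = ⊥ := iSup_of_empty _
    have ha : IsIdempotentElem a := by
      have h1 : a * a - a ∈ ⨆ i, centIdeal (lam i) := Ideal.Quotient.eq.1 ((map_mul _ a a).trans he)
      rw [h0, Ideal.mem_bot, sub_eq_zero] at h1
      exact h1
    rcases hconn a ha with rfl | rfl
    · exact Or.inl (map_zero _)
    · exact Or.inr (map_one _)
  | succ r ih =>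
    intro A _ _ _ lam hconn hcomm e he
    let J₀ := centIdeal (lam 0)
    let φ : A →ₐc[k] A ⧸ J₀ := Bialgebra.Quotient.mkBialgHom J₀
    have hφ : Function.Surjective φ := Ideal.Quotient.mk_surjective
    haveI : Algebra.FiniteType k (A ⧸ J₀) :=
      Algebra.FiniteType.of_surjective (Ideal.Quotient.mkₐ k J₀) Ideal.Quotient.mk_surjective
    let lam' : Fin r → (A ⧸ J₀ →ₐc[k] k[T;T⁻¹]) := fun i => liftLam (lam i.succ) J₀ (hcomm 0 i.succ)
    have hlam : ∀ i, (lam' i).comp φ = lam i.succ := fun i => liftLam_comp _ _ _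
    have hcent : ∀ i, centIdeal (lam' i) = (centIdeal (lam i.succ)).map (φ : A →+* A ⧸ J₀) := fun i => by
      rw [← hlam i, map_centIdeal φ hφ]
    have hcomm' : ∀ i j, ∀ a ∈ centIdeal (lam' i), lam' j a = 0 := by
      intro i j a ha
      rw [hcent] at ha
      obtain ⟨b, hb, rfl⟩ := (Ideal.mem_map_iff_of_surjective (φ : A →+* A ⧸ J₀) hφ).1 ha
      exact hcomm i.succ j.succ b hb
    let I := ⨆ i, centIdeal (lam i)
    let I' := ⨆ i, centIdeal (lam' i)
    let q : A →+* (A ⧸ J₀) ⧸ I' := (Ideal.Quotient.mk I').comp (Ideal.Quotient.mk J₀)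
    have hI : I ≤ RingHom.ker q := iSup_le fun i => by
      refine Fin.cases ?_ (fun i' => ?_) i
      · intro a ha
        show Ideal.Quotient.mk I' (Ideal.Quotient.mk J₀ a) = 0
        rw [Ideal.Quotient.eq_zero_iff_mem.2 ha, map_zero]
      · intro a ha
        show Ideal.Quotient.mk I' (φ a) = 0
        refine Ideal.Quotient.eq_zero_iff_mem.2 (Ideal.mem_iSup_of_mem i' ?_)
        rw [hcent]
        exact Ideal.mem_map_of_mem _ ha
    let Φ : A ⧸ I →+* (A ⧸ J₀) ⧸ I' := Ideal.Quotient.lift I q hI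
    have hback : I' ≤ RingHom.ker (Ideal.Quotient.factor (le_iSup (fun i => centIdeal (lam i)) 0) :
        A ⧸ J₀ →+* A ⧸ I) := iSup_le fun i => by
      rw [hcent, Ideal.map_le_iff_le_comap]
      intro a ha
      show Ideal.Quotient.mk I a = 0
      exact Ideal.Quotient.eq_zero_iff_mem.2 (Ideal.mem_iSup_of_mem i.succ ha)
    let Ψ : (A ⧸ J₀) ⧸ I' →+* A ⧸ I := Ideal.Quotient.lift I' _ hback
    have hret : Ψ (Φ e) = e := by
      obtain ⟨a, rfl⟩ := Ideal.Quotient.mk_surjective e
      rfl
    rcases ih lam' (fun e he => idempotent_centIdeal (lam 0) hconn he) hcomm' (Φ e) (he.map Φ) with h | h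
    · exact Or.inl (by rw [← hret, h, map_zero])
    · exact Or.inr (by rw [← hret, h, map_one])

section Diag

variable {K : Type u} [CommRing K] [HopfAlgebra k K]

theorem conv_groupLike {R : Type u} [CommRing R] [Algebra k R] (φ φ' : WithConv (K →ₐ[k] R)) (g : GroupLike k K) :
    (φ * φ').ofConv (g : K) = φ.ofConv (g : K) * φ'.ofConv (g : K) := by
  rw [AlgHom.convMul_apply, g.2.comul_eq_tmul_self, Algebra.TensorProduct.lift_tmul]

theorem conv_prod_groupLike {R : Type u} [CommRing R] [Algebra k R] (g : GroupLike k K) :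
    ∀ l : List (WithConv (K →ₐ[k] R)), l.prod.ofConv (g : K) = (l.map fun φ => φ.ofConv (g : K)).prod
  | [] => by
    rw [List.prod_nil, List.map_nil, List.prod_nil, GrothLib.DynMeth.one_apply, g.2.1, map_one]
  | φ :: l => by rw [List.prod_cons, conv_groupLike, conv_prod_groupLike g l, List.map_cons, List.prod_cons]

theorem ext_groupLike (hK : HopfRep.IsDiagonalizable k K) {R : Type u} [CommRing R] [Algebra k R]
    {φ φ' : K →ₐ[k] R} (h : ∀ g : GroupLike k K, φ (g : K) = φ' (g : K)) : φ = φ' :=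
  AlgHom.toLinearMap_injective (LinearMap.ext_on hK fun c hc => h ⟨c, hc⟩)

/-- A split torus is generated by finitely many one-parameter subgroups. -/
theorem exists_cochars [IsAlgClosed k] [Algebra.FiniteType k K] [IsDomain K]
    (hK : HopfRep.IsDiagonalizable k K) :
    ∃ (r : ℕ) (ν : Fin r → (K →ₐc[k] k[T;T⁻¹])), ∀ (R : Type u) [CommRing R] [Algebra k R]
      (t : WithConv (K →ₐ[k] R)), ∃ τ : Fin r → (k[T;T⁻¹] →ₐ[k] R),
        t = (List.ofFn fun i => toConv ((τ i).comp (ν i : K →ₐ[k] k[T;T⁻¹]))).prod := by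
  classical
  haveI := CharFG28.fg_groupLike k K
  let M := GroupLike k K
  haveI : IsMulTorsionFree M := by
    refine ⟨fun m hm g g' hgg => ?_⟩
    have h1 : (g / g') ^ m = 1 := by
      rw [div_pow]; exact div_eq_one.2 hgg
    have hint : IsIntegral k ((g / g' : M) : K) := IsIntegral.of_pow (Nat.pos_of_ne_zero hm) (by
      rw [← GroupLike.val_pow, h1, GroupLike.val_one]; exact isIntegral_one)
    haveI : Algebra.IsIntegral k (Algebra.adjoin k {((g / g' : M) : K)}) :=
      Algebra.IsIntegral.adjoin (by rintro y rfl; exact hint)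
    obtain ⟨c, hc⟩ := (IsAlgClosed.algebraMap_bijective_of_isIntegral (k := k)
      (K := Algebra.adjoin k {((g / g' : M) : K)})).2 ⟨_, Algebra.subset_adjoin rfl⟩
    have hc' : algebraMap k K c = ((g / g' : M) : K) := congrArg Subtype.val hc
    have hcc : c = 1 := by
      have := (g / g').2.1
      rw [← hc', Bialgebra.counit_algebraMap] at this
      exact this
    exact div_eq_one.1 (GroupLike.val_injective (by rw [← hc', hcc, map_one, GroupLike.val_one]))
  haveI : Module.Finite ℤ (Additive M) := Module.Finite.iff_addGroup_fg.2 inferInstance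
  let b : Module.Basis (Fin (Module.finrank ℤ (Additive M))) ℤ (Additive M) := Module.finBasis ℤ _
  let c : M → Fin (Module.finrank ℤ (Additive M)) → ℤ := fun m => b.equivFun (Additive.ofMul m)
  have hc : ∀ m, ∏ i, (Additive.toMul (b i)) ^ c m i = m := fun m => by
    have := congrArg Additive.toMul (b.sum_equivFun (Additive.ofMul m))
    rw [toMul_sum, toMul_ofMul] at this
    simpa [c] using this
  have hsurj : Function.Surjective (MonoidAlgebra.liftGroupLikeBialgHom (R := k) (A := K)) := fun a => by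
    have ha : a ∈ Submodule.span k {a : K | IsGroupLikeElem k a} := (show Submodule.span k _ = ⊤ from hK) ▸ trivial
    induction ha using Submodule.span_induction with
    | mem c hc => exact ⟨MonoidAlgebra.single ⟨c, hc⟩ 1, by simp⟩
    | zero => exact ⟨0, map_zero _⟩
    | add c d _ _ hc hd =>
      obtain ⟨c', rfl⟩ := hc
      obtain ⟨d', rfl⟩ := hd
      exact ⟨c' + d', map_add _ _ _⟩
    | smul r c _ hc =>
      obtain ⟨c', rfl⟩ := hc
      exact ⟨r • c', map_smul _ _ _⟩
  let E : MonoidAlgebra k M ≃ₐ[k] K :=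
    AlgEquiv.ofBijective (MonoidAlgebra.liftGroupLikeBialgHom (R := k) (A := K) : MonoidAlgebra k M →ₐ[k] K)
      ⟨CharFG28.liftGroupLike_injective k K, hsurj⟩
  have hE : ∀ m : M, E.symm (m : K) = MonoidAlgebra.single m 1 := fun m => by
    rw [AlgEquiv.symm_apply_eq]
    show _ = MonoidAlgebra.liftGroupLikeBialgHom (R := k) (A := K) (MonoidAlgebra.single m 1)
    simp
  let θ : Fin (Module.finrank ℤ (Additive M)) → M →* k[T;T⁻¹] := fun i =>
    { toFun := fun m => T (c m i)
      map_one' := by simp [c]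
      map_mul' := fun m m' => by
        rw [← T_add]
        simp [c] }
  let ν₀ : Fin (Module.finrank ℤ (Additive M)) → (K →ₐ[k] k[T;T⁻¹]) := fun i =>
    (MonoidAlgebra.lift k k[T;T⁻¹] M (θ i)).comp E.symm.toAlgHom
  have hν : ∀ i (m : M), ν₀ i (m : K) = T (c m i) := fun i m => by
    show MonoidAlgebra.lift k k[T;T⁻¹] M (θ i) (E.symm (m : K)) = _
    rw [hE, MonoidAlgebra.lift_single, one_smul]
    rfl
  let ν : Fin (Module.finrank ℤ (Additive M)) → (K →ₐc[k] k[T;T⁻¹]) := fun i =>
    BialgHom.ofAlgHom (ν₀ i)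
      (ext_groupLike hK fun m => by
        show Coalgebra.counit (R := k) (ν₀ i (m : K)) = Coalgebra.counit (R := k) (m : K)
        rw [hν, m.2.1]
        simp)
      (ext_groupLike hK fun m => by
        show Algebra.TensorProduct.map (ν₀ i) (ν₀ i) (Coalgebra.comul (R := k) (m : K)) =
          Coalgebra.comul (R := k) (ν₀ i (m : K))
        rw [m.2.comul_eq_tmul_self, Algebra.TensorProduct.map_tmul, hν]
        simp)
  refine ⟨_, ν, fun R _ _ t => ?_⟩
  let tM : M →* Rˣ := MonoidHom.toHomUnits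
    ((t.ofConv : K →* R).comp { toFun := fun m : M => (m : K), map_one' := GroupLike.val_one, map_mul' := GroupLike.val_mul })
  let τ : Fin (Module.finrank ℤ (Additive M)) → (k[T;T⁻¹] →ₐ[k] R) := fun i =>
    AddMonoidAlgebra.lift k R ℤ ((Units.coeHom R).comp (zpowersHom Rˣ (tM (Additive.toMul (b i)))))
  refine ⟨τ, WithConv.ext (ext_groupLike hK fun g => ?_)⟩
  rw [conv_prod_groupLike, List.map_ofFn, List.prod_ofFn]
  have h2 : ∀ i, τ i (ν i (g : K)) = ((tM (Additive.toMul (b i)) ^ c g i : Rˣ) : R) := fun i => by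
    show τ i (ν₀ i (g : K)) = _
    rw [hν]
    exact (AddMonoidAlgebra.lift_single _ _ _).trans (one_smul k _)
  have h3 := congrArg (fun m => ((tM m : Rˣ) : R)) (hc g)
  simp only [map_prod, map_zpow, Units.coe_prod] at h3
  refine h3.symm.trans (Finset.prod_congr rfl fun i _ => ?_)
  exact (h2 i).symm

variable {A : Type u} [CommRing A] [HopfAlgebra k A] (θ : A →ₐc[k] K)

/-- Points killed by the ideal of a one-parameter subgroup commute with its values. -/
theorem commute_of_mem (ν : K →ₐc[k] k[T;T⁻¹]) {R : Type u} [CommRing R] [Algebra k R] (g : A →ₐ[k] R)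
    (hg : ∀ a ∈ centIdeal (ν.comp θ), g a = 0) (τ : k[T;T⁻¹] →ₐ[k] R) :
    Commute (toConv g) (pullPt θ (toConv (τ.comp (ν : K →ₐ[k] k[T;T⁻¹])))) := by
  have h := congrArg toConv ((represents_centIdeal (ν.comp θ) R g).1 hg)
  rw [conjOrbit_eq_mul] at h
  let e : R[T;T⁻¹] →ₐ[k] R :=
    (AddMonoidAlgebra.lift R R ℤ ((τ : k[T;T⁻¹] →* R).comp (AddMonoidAlgebra.of k ℤ))).restrictScalars k
  have he1 : e.comp (toL R) = AlgHom.id k R := AlgHom.ext fun r => by
    show AddMonoidAlgebra.lift R R ℤ _ (toL (k := k) R r) = r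
    rw [toL_apply, AddMonoidAlgebra.lift_single]
    show r • τ (AddMonoidAlgebra.single 0 1) = r
    rw [show (AddMonoidAlgebra.single 0 1 : k[T;T⁻¹]) = 1 from rfl, map_one, smul_eq_mul, _root_.mul_one]
  have he2 : e.comp (Dyn.lamR k A (ν.comp θ) R) = τ.comp ((ν.comp θ : A →ₐc[k] k[T;T⁻¹]) : A →ₐ[k] k[T;T⁻¹]) := by
    have key : e.comp (AddMonoidAlgebra.mapAlgHom ℤ (Algebra.ofId k R)) = τ :=
      AlgHom.ext fun p => by
        induction p using AddMonoidAlgebra.induction_linear with
        | zero => simp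
        | add x y hx hy => simp only [map_add, hx, hy]
        | single n c =>
          show AddMonoidAlgebra.lift R R ℤ _ (AddMonoidAlgebra.mapAlgHom ℤ (Algebra.ofId k R) (AddMonoidAlgebra.single n c)) = _
          simp
          rw [← Algebra.smul_def, ← map_smul, AddMonoidAlgebra.smul_single, smul_eq_mul, _root_.mul_one]
    rw [Dyn.lamR, ← AlgHom.comp_assoc, key]
  have h2 := congrArg (fun f => toConv (e.comp (ofConv f))) h
  simp only at h2
  rw [comp_mul, comp_mul, comp_inv] at h2
  simp only [ofConv_toConv] at h2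
  rw [← AlgHom.comp_assoc, he1, he2, AlgHom.id_comp, mul_inv_eq_iff_eq_mul] at h2
  exact h2.symm

/-- The points of the common centralizer commute with all points of the torus. -/
theorem commute_of_centFamily {r : ℕ} (ν : Fin r → (K →ₐc[k] k[T;T⁻¹]))
    (hν : ∀ (R : Type u) [CommRing R] [Algebra k R] (t : WithConv (K →ₐ[k] R)), ∃ τ : Fin r → (k[T;T⁻¹] →ₐ[k] R),
        t = (List.ofFn fun i => toConv ((τ i).comp (ν i : K →ₐ[k] k[T;T⁻¹]))).prod)
    {R : Type u} [CommRing R] [Algebra k R] (g : A →ₐ[k] R)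
    (hg : ∀ a ∈ ⨆ i, centIdeal ((ν i).comp θ), g a = 0) (t : WithConv (K →ₐ[k] R)) :
    Commute (toConv g) (pullPt θ t) := by
  let P : Submonoid (WithConv (K →ₐ[k] R)) :=
    { carrier := {x | Commute (toConv g) (pullPt θ x)}
      one_mem' := by show Commute _ (pullPt θ 1); rw [pullPt_one]; exact Commute.one_right _
      mul_mem' := fun {x y} hx hy => by
        show Commute _ (pullPt θ (x * y))
        rw [pullPt_mul]
        exact Commute.mul_right hx hy }
  obtain ⟨τ, rfl⟩ := hν R t
  refine (list_prod_mem fun x hx => ?_ : _ ∈ P)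
  obtain ⟨i, rfl⟩ := List.mem_ofFn.1 hx
  exact commute_of_mem θ (ν i) g (fun a ha => hg a (Ideal.mem_iSup_of_mem i ha)) (τ i)

/-- Points commuting with the torus after every base change are killed by the ideals. -/
theorem mem_of_commute (ν : K →ₐc[k] k[T;T⁻¹]) {R : Type u} [CommRing R] [Algebra k R] (g : A →ₐ[k] R)
    (hg : ∀ t : WithConv (K →ₐ[k] R[T;T⁻¹]), Commute (toConv ((toL R).comp g)) (pullPt θ t)) :
    ∀ a ∈ centIdeal (ν.comp θ), g a = 0 := by
  refine (represents_centIdeal (ν.comp θ) R g).2 (toConv_injective ?_)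
  have h := hg (toConv (Dyn.lamR k K ν R))
  have hp : toConv (Dyn.lamR k A (ν.comp θ) R) = pullPt θ (toConv (Dyn.lamR k K ν R)) := rfl
  rw [conjOrbit_eq_mul, hp, mul_inv_eq_iff_eq_mul]
  exact h.symm.eq

/-- The values of one-parameter subgroups of a torus commute. -/
theorem comm_cochars (hK : HopfRep.IsDiagonalizable k K) (ν ν' : K →ₐc[k] k[T;T⁻¹]) :
    ∀ a ∈ centIdeal (ν.comp θ), (ν'.comp θ) a = 0 := by
  refine mem_of_commute θ ν ((ν'.comp θ : A →ₐc[k] k[T;T⁻¹]) : A →ₐ[k] k[T;T⁻¹]) fun t => ?_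
  have hp : toConv ((toL k[T;T⁻¹]).comp ((ν'.comp θ : A →ₐc[k] k[T;T⁻¹]) : A →ₐ[k] k[T;T⁻¹])) =
      pullPt θ (toConv ((toL k[T;T⁻¹]).comp (ν' : K →ₐ[k] k[T;T⁻¹]))) := rfl
  rw [hp, Commute, SemiconjBy, ← pullPt_mul, ← pullPt_mul]
  congr 1
  exact WithConv.ext (ext_groupLike hK fun g => by rw [conv_groupLike, conv_groupLike, _root_.mul_comm])

end Diag

end GrothLib.Flag27
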