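import Mathlib

/-!
# Weights of a diagonalisable family of matrices and stable cones
-/

set_option autoImplicit false

universe u v

open Matrix

namespace GrothLib.Flag27

variable {k : Type u} [Field k] {n : ℕ} {Γ : Type v} [CommMonoid Γ]

/-- A representation which is a combination of characters has orthogonal weight projectors. -/
theorem weight_decomp (D : Γ →* Matrix (Fin n) (Fin n) k) (S : Finset (Γ →* k))
    (P : (Γ →* k) → Matrix (Fin n) (Fin n) k) (hD : ∀ t, D t = ∑ χ ∈ S, χ t • P χ) :
    (∀ χ ∈ S, ∀ t, D t * P χ = χ t • P χ) ∧ (∑ χ ∈ S, P χ = 1) ∧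
      (∀ χ ∈ S, ∀ ψ ∈ S, ψ ≠ χ → P ψ * P χ = 0) ∧ (∀ χ ∈ S, P χ * P χ = P χ) ∧
      ∀ N : Matrix (Fin n) (Fin n) k, (∀ t, Commute N (D t)) → ∀ χ ∈ S, Commute N (P χ) := by
  classical
  have hind : ∀ Q : (Γ →* k) → Matrix (Fin n) (Fin n) k, (∀ t, ∑ χ ∈ S, χ t • Q χ = 0) → ∀ χ ∈ S, Q χ = 0 := by
    intro Q hQ χ hχ
    ext i j
    have h := linearIndependent_iff'.1 (linearIndependent_monoidHom Γ k) S (fun ψ => Q ψ i j) (funext fun t => by
      have e := congrFun (congrFun (hQ t) i) j
      rw [Matrix.sum_apply] at e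
      simp only [Matrix.smul_apply, smul_eq_mul, Matrix.zero_apply] at e
      rw [Finset.sum_apply, Pi.zero_apply, ← e]
      exact Finset.sum_congr rfl fun ψ _ => by simp [mul_comm]) χ hχ
    exact h
  have h1 : ∑ χ ∈ S, P χ = 1 := by
    rw [← map_one D, hD]
    exact Finset.sum_congr rfl fun χ _ => by rw [map_one, one_smul]
  have h2 : ∀ χ ∈ S, ∀ t, D t * P χ = χ t • P χ := by
    intro χ hχ t
    refine sub_eq_zero.1 (hind (fun ψ => D t * P ψ - ψ t • P ψ) (fun s => ?_) χ hχ)
    simp only [smul_sub, Finset.sum_sub_distrib, smul_smul]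
    rw [sub_eq_zero]
    calc ∑ ψ ∈ S, ψ s • (D t * P ψ) = D t * D s := by rw [hD s, Finset.mul_sum]; simp only [mul_smul_comm]
      _ = D (t * s) := (map_mul D t s).symm
      _ = _ := by rw [hD]; exact Finset.sum_congr rfl fun ψ _ => by rw [map_mul, mul_comm]
  have h3 : ∀ χ ∈ S, ∀ ψ ∈ S, P ψ * P χ = if ψ = χ then P χ else 0 := by
    intro χ hχ ψ hψ
    refine sub_eq_zero.1 (hind (fun ψ => P ψ * P χ - if ψ = χ then P χ else 0) (fun s => ?_) ψ hψ)
    simp only [smul_sub, Finset.sum_sub_distrib, smul_ite, smul_zero, Finset.sum_ite_eq', hχ, if_true]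
    rw [sub_eq_zero, ← h2 χ hχ s, hD, Finset.sum_mul]
    simp only [smul_mul_assoc]
  refine ⟨h2, h1, fun χ hχ ψ hψ hne => by rw [h3 χ hχ ψ hψ, if_neg hne],
    fun χ hχ => by rw [h3 χ hχ χ hχ, if_pos rfl], fun N hN χ hχ => ?_⟩
  refine sub_eq_zero.1 (hind (fun ψ => N * P ψ - P ψ * N) (fun s => ?_) χ hχ)
  simp only [smul_sub, Finset.sum_sub_distrib]
  rw [sub_eq_zero]
  have e : N * D s = D s * N := hN s
  rw [hD, Finset.mul_sum, Finset.sum_mul] at e
  simpa only [mul_smul_comm, smul_mul_assoc] using e

variable (ps : Set (MvPolynomial (Fin n) k))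

/-- The leading component of a point of a stable cone lies in it. -/
theorem leading_mem [Infinite k] (X : Set (Fin n → k)) (hX : ∀ x, x ∈ X ↔ ∀ p ∈ ps, MvPolynomial.eval x p = 0)
    (hsc : ∀ x ∈ X, ∀ c : k, c • x ∈ X) {ι : Type*} (S : Finset ι) (w : ι → ℤ) (y : ι → Fin n → k) (i₀ : ι)
    (hi₀ : i₀ ∈ S) (hmax : ∀ i ∈ S, y i ≠ 0 → i ≠ i₀ → w i < w i₀)
    (hcurve : ∀ s : k, s ≠ 0 → ∑ i ∈ S, (s ^ w i) • y i ∈ X) : y i₀ ∈ X := by
  classical
  refine (hX _).2 fun p hp => ?_
  let e : ι → ℕ := fun i => (w i₀ - w i).toNat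
  let f : Fin n → Polynomial k := fun j => ∑ i ∈ S, Polynomial.C (y i j) * Polynomial.X ^ e i
  let q : Polynomial k := MvPolynomial.aeval f p
  have hq : ∀ u : k, q.eval u = MvPolynomial.eval (fun j => (f j).eval u) p := fun u => by
    show (MvPolynomial.aeval f p).eval u = _
    clear_value f
    clear q hp
    induction p using MvPolynomial.induction_on <;> simp_all
  have h0 : ∀ u : k, u ≠ 0 → q.eval u = 0 := fun u hu => by
    rw [hq]
    refine (hX _).1 ?_ p hp
    have e1 : (fun j => (f j).eval u) = (u⁻¹ ^ w i₀)⁻¹ • ∑ i ∈ S, (u⁻¹ ^ w i) • y i := by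
      funext j
      simp only [f, Polynomial.eval_finsetSum, Polynomial.eval_mul, Polynomial.eval_C, Polynomial.eval_pow,
        Polynomial.eval_X, Pi.smul_apply, Finset.sum_apply, smul_eq_mul, Finset.mul_sum]
      refine Finset.sum_congr rfl fun i hi => ?_
      by_cases hy : y i = 0
      · simp [hy]
      have hle : w i ≤ w i₀ := by
        by_cases hii : i = i₀
        · rw [hii]
        · exact (hmax i hi hy hii).le
      rw [← mul_assoc, mul_comm (y i j)]
      congr 1
      rw [_root_.inv_zpow, _root_.inv_zpow, inv_inv, ← zpow_natCast, Int.toNat_of_nonneg (by omega), zpow_sub₀ hu, div_eq_mul_inv]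
    rw [e1]
    exact hsc _ (hcurve _ (inv_ne_zero hu)) _
  have hz : q = 0 := by
    refine Polynomial.eq_zero_of_infinite_isRoot q ?_
    refine Set.Infinite.mono (s := ({0} : Set k)ᶜ) (fun u hu => h0 u hu) ?_
    exact (Set.finite_singleton (0 : k)).infinite_compl
  have h1 := hq 0
  rw [hz, Polynomial.eval_zero] at h1
  rw [h1]
  refine congrArg (fun z => MvPolynomial.eval z p) (funext fun j => ?_)
  simp only [f, Polynomial.eval_finsetSum, Polynomial.eval_mul, Polynomial.eval_C, Polynomial.eval_pow,
    Polynomial.eval_X]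
  rw [Finset.sum_eq_single i₀ (fun i hi hne => ?_) (fun h => absurd hi₀ h)]
  · simp [e]
  · by_cases hy : y i = 0
    · simp [hy]
    · rw [zero_pow, mul_zero]
      have := hmax i hi hy hne
      simp only [e]
      omega

/-- A fibre of finitely many functionals without common zero on a cone is finite. -/
theorem finite_fibre [IsAlgClosed k] (X : Set (Fin n → k)) (hX : ∀ x, x ∈ X ↔ ∀ p ∈ ps, MvPolynomial.eval x p = 0)
    (hsc : ∀ x ∈ X, ∀ c : k, c • x ∈ X) {m : ℕ} (φ : Fin m → (Fin n → k) →ₗ[k] k)
    (hφ : ∀ x ∈ X, (∀ i, φ i x = 0) → x = 0) (c : Fin m → k) : {x | x ∈ X ∧ ∀ i, φ i x = c i}.Finite := by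
  classical
  let L : Fin m → MvPolynomial (Fin n) k := fun i => ∑ j, MvPolynomial.C (φ i (Pi.single j 1)) * MvPolynomial.X j
  have hL : ∀ i x, MvPolynomial.eval x (L i) = φ i x := fun i x => by
    simp only [L, map_sum, map_mul, MvPolynomial.eval_C, MvPolynomial.eval_X]
    conv_rhs => rw [pi_eq_sum_univ' x, map_sum]
    exact Finset.sum_congr rfl fun j _ => by rw [map_smul, smul_eq_mul, mul_comm]
  let I : Ideal (MvPolynomial (Fin n) k) := Ideal.span ps ⊔ Ideal.span (Set.range L)
  have hN : ∀ j, ∃ N : ℕ, 0 < N ∧ (MvPolynomial.X j : MvPolynomial (Fin n) k) ^ N ∈ I := by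
    intro j
    have : (MvPolynomial.X j : MvPolynomial (Fin n) k) ∈ I.radical := by
      rw [← MvPolynomial.vanishingIdeal_zeroLocus_eq_radical (K := k)]
      rw [MvPolynomial.mem_vanishingIdeal_iff]
      intro x hx
      rw [MvPolynomial.mem_zeroLocus_iff] at hx
      have hx0 : x = 0 := hφ x ((hX x).2 fun p hp => by
        have := hx p (Ideal.mem_sup_left (Ideal.subset_span hp))
        rwa [MvPolynomial.aeval_eq_eval] at this) fun i => by
        have := hx (L i) (Ideal.mem_sup_right (Ideal.subset_span ⟨i, rfl⟩))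
        rw [MvPolynomial.aeval_eq_eval] at this
        rw [← hL]; exact this
      simp [hx0]
    obtain ⟨N, hN⟩ := this
    exact ⟨N + 1, Nat.succ_pos _, by rw [pow_succ]; exact I.mul_mem_right _ hN⟩
  choose N hNpos hNmem using hN
  -- the reduction of the powers
  have hred : ∀ j, ∃ r : MvPolynomial (Fin n) k, r.totalDegree < N j ∧
      ∀ x ∈ X, (∀ i, φ i x = c i) → x j ^ N j = MvPolynomial.eval x r := by
    intro j
    obtain ⟨a, ha, b, hb, hab⟩ := Submodule.mem_sup.1 (hNmem j)
    obtain ⟨g, rfl⟩ := Ideal.mem_span_range_iff_exists_fun.1 hb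
    refine ⟨∑ i, MvPolynomial.C (c i) * MvPolynomial.homogeneousComponent (N j - 1) (g i), ?_, fun x hx hxc => ?_⟩
    · refine lt_of_le_of_lt (b := N j - 1) ((MvPolynomial.totalDegree_finset_sum _ _).trans
        (Finset.sup_le fun i _ => ?_)) (Nat.sub_lt (hNpos j) Nat.one_pos)
      refine (MvPolynomial.totalDegree_mul _ _).trans ?_
      rw [MvPolynomial.totalDegree_C, zero_add]
      exact (MvPolynomial.homogeneousComponent_isHomogeneous _ _).totalDegree_le
    have ha0 : ∀ s : k, MvPolynomial.eval (s • x) a = 0 := fun s => by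
      have hle : Ideal.span ps ≤ RingHom.ker (MvPolynomial.eval (s • x)) :=
        Ideal.span_le.2 fun p hp => (hX _).1 (hsc x hx s) p hp
      exact hle ha
    let q : Polynomial k := MvPolynomial.aeval (fun i => Polynomial.C (x i) * Polynomial.X) (MvPolynomial.X j ^ N j : MvPolynomial (Fin n) k)
    let q' : Polynomial k := ∑ i, MvPolynomial.aeval (fun i => Polynomial.C (x i) * Polynomial.X) (g i) *
      (Polynomial.C (φ i x) * Polynomial.X)
    have heval : ∀ (s : k) (p : MvPolynomial (Fin n) k),
        (MvPolynomial.aeval (fun i => Polynomial.C (x i) * Polynomial.X) p).eval s = MvPolynomial.eval (s • x) p := by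
      intro s p
      induction p using MvPolynomial.induction_on with
      | C a => simp
      | add p q hp hq => simp [hp, hq]
      | mul_X p i hp => simp [hp, mul_comm s]
    have hqq : q = q' := Polynomial.funext fun s => by
      simp only [q, q', Polynomial.eval_finsetSum, Polynomial.eval_mul, heval, Polynomial.eval_C, Polynomial.eval_X]
      rw [← hab, map_add, ha0, zero_add, map_sum]
      refine Finset.sum_congr rfl fun i _ => ?_
      rw [map_mul, hL, map_smul, smul_eq_mul, mul_comm s]
    have hcoef : ∀ (p : MvPolynomial (Fin n) k) (d : ℕ),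
        (MvPolynomial.aeval (fun i => Polynomial.C (x i) * Polynomial.X) p).coeff d =
          MvPolynomial.eval x (MvPolynomial.homogeneousComponent d p) := by
      intro p d
      induction p using MvPolynomial.induction_on' with
      | monomial u a =>
        rw [MvPolynomial.aeval_monomial, MvPolynomial.homogeneousComponent_of_mem (MvPolynomial.isHomogeneous_monomial a rfl)]
        simp only [mul_pow, ← Polynomial.C_pow, Finsupp.prod_mul]
        rw [Polynomial.algebraMap_eq, ← map_finsuppProd Polynomial.C]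
        have hX : (u.prod fun _ e => (Polynomial.X : Polynomial k) ^ e) = Polynomial.X ^ Finsupp.degree u := by
          rw [Finsupp.prod, Finset.prod_pow_eq_pow_sum]; rfl
        rw [hX, ← mul_assoc, ← map_mul, Polynomial.coeff_C_mul_X_pow]
        split_ifs with h
        · rw [MvPolynomial.eval_monomial]
        · simp
      | add p q hp hq => rw [map_add, Polynomial.coeff_add, hp, hq, map_add, map_add]
    have h := congrArg (fun t => Polynomial.coeff t (N j - 1 + 1)) hqq
    simp only [q, q', Polynomial.finsetSum_coeff, ← mul_assoc, Polynomial.coeff_mul_X, Polynomial.coeff_mul_C,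
      hcoef] at h
    rw [Nat.sub_add_cancel (hNpos j), MvPolynomial.homogeneousComponent_of_mem
      ((MvPolynomial.isHomogeneous_X k j).pow (N j)), if_pos (by simp), map_pow, MvPolynomial.eval_X] at h
    rw [h, map_sum]
    exact Finset.sum_congr rfl fun i _ => by rw [map_mul, MvPolynomial.eval_C, hxc i, mul_comm]
  choose r hr hr' using hred
  -- all functions are spanned by monomials of bounded degree
  let F : Set (Fin n → k) := {x | x ∈ X ∧ ∀ i, φ i x = c i}
  let D : ℕ := ∑ j, N j
  let res : MvPolynomial (Fin n) k →ₐ[k] (F → k) :=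
    MvPolynomial.aeval fun j (x : F) => x.1 j
  have hres : ∀ p (x : F), res p x = MvPolynomial.eval x.1 p := fun p x => by
    show (Pi.evalAlgHom k (fun _ : F => k) x).comp res p = _
    rw [MvPolynomial.comp_aeval]
    rfl
  let W : Submodule k (F → k) := (MvPolynomial.restrictTotalDegree (Fin n) k D).map res.toLinearMap
  haveI : Module.Finite k W := by
    haveI : Module.Finite k (MvPolynomial.restrictTotalDegree (Fin n) k D) := inferInstance
    infer_instance
  have hW : ∀ d p, MvPolynomial.totalDegree p ≤ d → res p ∈ W := by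
    intro d
    induction d using Nat.strong_induction_on with
    | _ d ih =>
      intro p hp
      rw [p.as_sum, map_sum]
      refine W.sum_mem fun u hu => ?_
      have hud : (u.sum fun _ e => e) ≤ d := (MvPolynomial.le_totalDegree hu).trans hp
      by_cases hsmall : (u.sum fun _ e => e) ≤ D
      · refine ⟨_, ?_, rfl⟩
        rw [SetLike.mem_coe, MvPolynomial.mem_restrictTotalDegree]
        exact (MvPolynomial.totalDegree_monomial_le _ _).trans hsmall
      obtain ⟨j, hj⟩ : ∃ j, N j ≤ u j := by
        by_contra h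
        push Not at h
        apply hsmall
        rw [Finsupp.sum_fintype _ _ (fun _ => rfl)]
        exact Finset.sum_le_sum fun j _ => (h j).le
      let u' := u - Finsupp.single j (N j)
      have hu' : u = u' + Finsupp.single j (N j) :=
        (tsub_add_cancel_of_le (Finsupp.single_le_iff.2 hj)).symm
      let p' := MvPolynomial.monomial u' (p.coeff u) * r j
      have e : res (MvPolynomial.monomial u (p.coeff u)) = res p' := funext fun x => by
        rw [hres, hres, map_mul, ← hr' j x.1 x.2.1 x.2.2]
        generalize p.coeff u = cu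
        conv_lhs => rw [hu', ← mul_one cu, ← MvPolynomial.monomial_mul, map_mul,
          ← MvPolynomial.X_pow_eq_monomial, map_pow, MvPolynomial.eval_X]
      rw [e]
      have hsum : (u.sum fun _ e => e) = (u'.sum fun _ e => e) + N j := by
        conv_lhs => rw [hu', Finsupp.sum_add_index' (fun _ => rfl) (fun _ _ _ => rfl), Finsupp.sum_single_index rfl]
      have hlt : p'.totalDegree < (u.sum fun _ e => e) := by
        refine lt_of_le_of_lt ((MvPolynomial.totalDegree_mul _ _).trans
          (Nat.add_le_add_right (MvPolynomial.totalDegree_monomial_le _ _) _)) ?_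
        rw [hsum]
        exact Nat.add_lt_add_left (hr j) _
      exact ih p'.totalDegree (lt_of_lt_of_le hlt hud) p' le_rfl
  by_contra hinf
  haveI : Infinite F := Set.infinite_coe_iff.2 hinf
  obtain ⟨T, hT⟩ := Infinite.exists_subset_card_eq F (Module.finrank k W + 1)
  let ev : W →ₗ[k] (T → k) := (LinearMap.funLeft k k (fun t : T => (t : F))).comp W.subtype
  have hsurj : Function.Surjective ev := by
    have hb : ∀ t : T, Pi.single t (1 : k) ∈ LinearMap.range ev := by
      intro t
      choose jd hjd using fun s : T => show s ≠ t → ∃ j, (s.1 : Fin n → k) j ≠ (t.1 : Fin n → k) j from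
        fun h => Function.ne_iff.1 fun e => h (Subtype.ext (Subtype.ext e))
      let p : MvPolynomial (Fin n) k := ∏ s : T, if h : s = t then 1 else
        MvPolynomial.C ((t.1 : Fin n → k) (jd s h) - (s.1 : Fin n → k) (jd s h))⁻¹ *
          (MvPolynomial.X (jd s h) - MvPolynomial.C ((s.1 : Fin n → k) (jd s h)))
      refine ⟨⟨res p, hW p.totalDegree p le_rfl⟩, funext fun s => ?_⟩
      show res p s.1 = _
      rw [hres]
      simp only [p, map_prod]
      by_cases hs : s = t
      · subst hs
        rw [Pi.single_eq_same, Finset.prod_eq_one]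
        intro s' _
        split_ifs with h
        · simp
        · simp only [map_mul, map_sub, MvPolynomial.eval_C, MvPolynomial.eval_X]
          exact inv_mul_cancel₀ (sub_ne_zero.2 (hjd s' h).symm)
      · rw [Pi.single_eq_of_ne hs, Finset.prod_eq_zero (Finset.mem_univ s)]
        rw [dif_neg hs]
        simp
    intro g
    rw [← LinearMap.mem_range, ← (Pi.basisFun k T).sum_repr g]
    exact Submodule.sum_mem _ fun t _ => Submodule.smul_mem _ _ (by rw [Pi.basisFun_apply]; exact hb t)
  have hrank := LinearMap.finrank_le_finrank_of_surjective hsurj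
  rw [Module.finrank_fintype_fun_eq_card, Fintype.card_coe, hT] at hrank
  omega

end GrothLib.Flag27
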