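import Groth.Agent.Lib.Flag27.TorusConj
import Groth.Agent.Lib.Flag27.TorusCentRing
import Groth.Agent.Lib.Flag27.Cartan
import Groth.Agent.Lib.Flag27.WeightCone

/-!
# Weights of a torus in a matrix representation
-/

set_option autoImplicit false
set_option linter.all false
set_option backward.isDefEq.respectTransparency false

universe u

open CategoryTheory MonoidalCategory CartesianMonoidalCategory MonObj GrpObj AlgebraicGeometry VecGrp
open scoped TensorProduct

noncomputable section

namespace GrothLib.Flag27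

open GrothLib.Repr GrothLib.Induce27 Groth.Agent.S11191 GrothLib.MultHopf14 GrothLib.CentMT14

variable {k : Type u} [Field k] [IsAlgClosed k]

/-- The grouplike elements of a split torus embed into a lattice. -/
theorem exists_lattice_coords {K : Type u} [CommRing K] [HopfAlgebra k K] [Algebra.FiniteType k K] [IsDomain K] :
    ∃ (r : ℕ) (c : GroupLike k K → Fin r → ℤ), Function.Injective c ∧ ∀ g h, c (g * h) = c g + c h := by
  classical
  haveI := CharFG28.fg_groupLike k K
  let M := GroupLike k K
  haveI : IsMulTorsionFree M := by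
    refine ⟨fun m hm g g' hgg => ?_⟩
    have h1 : (g / g') ^ m = 1 := by
      rw [div_pow]; exact div_eq_one.2 hgg
    have hint : IsIntegral k ((g / g' : M) : K) := IsIntegral.of_pow (Nat.pos_of_ne_zero hm) (by
      rw [← GroupLike.val_pow, h1, GroupLike.val_one]; exact isIntegral_one)
    haveI : Algebra.IsIntegral k (Algebra.adjoin k {((g / g' : M) : K)}) :=
      Algebra.IsIntegral.adjoin (by rintro y rfl; exact hint)
    obtain ⟨c, hc⟩ := (IsAlgClosed.algebraMap_bijective_of_isIntegral (k := k)
      (K := Algebra.adjoin k {((g / g' : M) : K)})).2 ⟨_, Algebra.subset_adjoin rfl⟩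
    have hc' : algebraMap k K c = ((g / g' : M) : K) := congrArg Subtype.val hc
    have hcc : c = 1 := by
      have := (g / g').2.1
      rw [← hc', Bialgebra.counit_algebraMap] at this
      exact this
    exact div_eq_one.1 (GroupLike.val_injective (by rw [← hc', hcc, map_one, GroupLike.val_one]))
  haveI : Module.Finite ℤ (Additive M) := Module.Finite.iff_addGroup_fg.2 inferInstance
  let b : Module.Basis (Fin (Module.finrank ℤ (Additive M))) ℤ (Additive M) := Module.finBasis ℤ _
  refine ⟨_, fun m => b.equivFun (Additive.ofMul m), fun g h e => Additive.ofMul.injective (b.equivFun.injective e),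
    fun g h => by show b.equivFun (Additive.ofMul (g * h)) = _ + _; rw [ofMul_mul, map_add]⟩

/-- An integer linear form separating finitely many vectors. -/
theorem exists_separating {r : ℕ} (V : Finset (Fin r → ℤ)) :
    ∃ N : ℤ, Set.InjOn (fun v : Fin r → ℤ => ∑ i, v i * N ^ (i : ℕ)) V := by
  classical
  let q : (Fin r → ℤ) → Polynomial ℤ := fun v => ∑ i, Polynomial.C (v i) * Polynomial.X ^ (i : ℕ)
  have hq : Function.Injective q := fun v v' h => funext fun i => by
    have e := congrArg (fun p => Polynomial.coeff p (i : ℕ)) h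
    simp only [q, Polynomial.finsetSum_coeff, Polynomial.coeff_C_mul_X_pow, Fin.val_inj, Finset.sum_ite_eq,
      Finset.mem_univ, if_true] at e
    exact e
  let bad : Set ℤ := ⋃ p ∈ ((V ×ˢ V).filter fun p => p.1 ≠ p.2), {N | (q p.1 - q p.2).IsRoot N}
  have hbad : bad.Finite := Set.Finite.biUnion (Finset.finite_toSet _) fun p hp => by
    exact Polynomial.finite_setOf_isRoot (sub_ne_zero.2 (hq.ne (Finset.mem_filter.1 hp).2))
  obtain ⟨N, hN⟩ := hbad.exists_notMem
  refine ⟨N, fun v hv v' hv' h => ?_⟩
  by_contra hne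
  refine hN (Set.mem_biUnion (x := (v, v')) (Finset.mem_filter.2 ⟨Finset.mem_product.2 ⟨hv, hv'⟩, hne⟩) ?_)
  show Polynomial.eval N (q v - q v') = 0
  simp only [q, Polynomial.eval_sub, Polynomial.eval_finsetSum, Polynomial.eval_mul, Polynomial.eval_C,
    Polynomial.eval_pow, Polynomial.eval_X]
  rw [sub_eq_zero]
  exact h

variable {G T : Over (Spec (CommRingCat.of k))} [GrpObj G] [GrpObj T] [IsAffine G.left] [Smooth G.hom]

/-- The weight decomposition of a torus in a representation, with a separating one-parameter family of points. -/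
theorem exists_weights (iT : T ⟶ G) [IsMonHom iT] [Mono iT] (hT : Red.IsTorus T) {n : ℕ}
    {M : Matrix (Fin n) (Fin n) (Fn G)} (hM : IsRep M) :
    ∃ (S : Finset ((pt k k ⟶ T) →* k)) (P : ((pt k k ⟶ T) →* k) → Matrix (Fin n) (Fin n) k)
      (w : ((pt k k ⟶ T) →* k) → ℤ),
      (∀ χ ∈ S, ∀ t, evM M (t ≫ iT) * P χ = χ t • P χ) ∧ (∑ χ ∈ S, P χ = 1) ∧
      (∀ χ ∈ S, ∀ ψ ∈ S, ψ ≠ χ → P ψ * P χ = 0) ∧ (∀ χ ∈ S, P χ * P χ = P χ) ∧
      (∀ N : Matrix (Fin n) (Fin n) k, (∀ t, Commute N (evM M (t ≫ iT))) → ∀ χ ∈ S, Commute N (P χ)) ∧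
      Set.InjOn w S ∧ ∀ s : k, s ≠ 0 → ∃ t, ∀ χ ∈ S, χ t = s ^ w χ := by
  classical
  obtain ⟨-, hTa, hTs, hTconn⟩ := torus_facts hT iT
  haveI := hTa; haveI := hTs; haveI := hTconn
  letI : CommGroup (pt k k ⟶ T) :=
    { (inferInstance : Group (pt k k ⟶ T)) with mul_comm := fun a b => GrothLib.RankCell14.comm_torus hT a b }
  obtain ⟨K, _, _, ⟨eT⟩⟩ := exists_hopf T (isAffineHom_of_isAffine _)
  haveI := finiteType_of_grpIso eT
  haveI : IsDomain K := by
    haveI := GrothLib.Rigidity.irreducibleSpace_of_connected T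
    haveI : IsReduced T.left := GrothLib.RedSmooth.isReduced_of_smooth T.hom
    haveI : IsIntegral T.left := isIntegral_of_irreducibleSpace_of_isReduced _
    let i : specGrp (R := k) K ≅ T := (Grp.forget _).mapIso eT
    haveI : IsIso i.inv.left := inferInstanceAs (IsIso ((Over.forget _).map i.inv))
    haveI : IsIntegral (Spec (CommRingCat.of K)) := .of_isIso i.inv.left
    exact (affine_isIntegral_iff (CommRingCat.of K)).1 inferInstance
  have hK : HopfRep.IsDiagonalizable k K := by
    obtain ⟨L, _, _, hL⟩ := exists_split_functions eT hT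
    haveI : Coalgebra.IsCocomm k K := NoPrim.isCocomm_of_isDiagonalizable L hL
    exact NoPrim.isDiagonalizable_of_isAlgClosed (TorusPrim24.noPrimElt_of_isTorus eT hT)
  obtain ⟨ℓ, hℓ, hℓk⟩ := exists_prime_invertible (k := k)
  obtain ⟨r, c, hc, hcadd⟩ := exists_lattice_coords (k := k) (K := K)
  let χ : GroupLike k K → ((pt k k ⟶ T) →* k) := fun g =>
    { toFun := fun t => ((ptsEquiv eT).symm t).ofConv (g : K)
      map_one' := by rw [map_one, GrothLib.DynMeth.one_apply, g.2.1, map_one]
      map_mul' := fun a b => by rw [map_mul, conv_groupLike] }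
  have hχt : ∀ g (φ : WithConv (K →ₐ[k] k)), χ g (ptsEquiv eT φ) = φ.ofConv (g : K) := fun g φ => by
    show ((ptsEquiv eT).symm _).ofConv _ = _
    rw [MulEquiv.symm_apply_apply]
  have hχ : Function.Injective χ := fun g g' h => GroupLike.val_injective (sub_eq_zero.1
    (eq_zero_of_torsion hK hℓ.one_lt hℓk _ fun N φ _ => by
      show φ.ofConv ((g : K) - (g' : K)) = 0
      rw [map_sub, sub_eq_zero, ← hχt, ← hχt, h]))
  have hspan : Submodule.span k (Set.range fun m : GroupLike k K => (m : K)) = ⊤ := by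
    have : Set.range (fun m : GroupLike k K => (m : K)) = {a : K | IsGroupLikeElem k a} := by
      ext x
      exact ⟨by rintro ⟨m, rfl⟩; exact m.2, fun hx => ⟨⟨x, hx⟩, rfl⟩⟩
    rw [this]; exact hK
  let x : Fin n → Fin n → K := fun a b => valAt (univPt eT) (fnMap iT (M a b))
  have hrep : ∀ y : K, ∃ l : GroupLike k K →₀ k, y = l.sum fun g a => a • (g : K) := fun y => by
    have hy : y ∈ Submodule.span k (Set.range fun m : GroupLike k K => (m : K)) := hspan ▸ trivial
    obtain ⟨l, hl⟩ := Finsupp.mem_span_range_iff_exists_finsupp.1 hy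
    exact ⟨l, hl.symm⟩
  choose co hco using fun a b => hrep (x a b)
  let S' : Finset (GroupLike k K) := Finset.univ.biUnion fun a => Finset.univ.biUnion fun b => (co a b).support
  let P : ((pt k k ⟶ T) →* k) → Matrix (Fin n) (Fin n) k := fun ψ => Matrix.of fun a b => co a b (Function.invFun χ ψ)
  have hD : ∀ t, evM M (t ≫ iT) = ∑ ψ ∈ S'.image χ, ψ t • P ψ := fun t => by
    rw [Finset.sum_image hχ.injOn]
    obtain ⟨φ, rfl⟩ := (ptsEquiv eT).surjective t
    refine Matrix.ext fun a b => ?_
    show valAt (ptsEquiv eT φ ≫ iT) (M a b) = _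
    rw [valAt_comp, valAt_ptsEquiv, show valAt (univPt eT) (fnMap iT (M a b)) = x a b from rfl, hco,
      map_finsuppSum, Matrix.sum_apply, Finsupp.sum_of_support_subset _ (s := S') (fun g hg =>
        Finset.mem_biUnion.2 ⟨a, Finset.mem_univ _, Finset.mem_biUnion.2 ⟨b, Finset.mem_univ _, hg⟩⟩) _
        (fun g _ => by rw [zero_smul, map_zero])]
    refine Finset.sum_congr rfl fun g _ => ?_
    rw [map_smul, Matrix.smul_apply, hχt, smul_eq_mul, smul_eq_mul, mul_comm]
    simp only [P, Matrix.of_apply, Function.leftInverse_invFun hχ g]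
  let D : (pt k k ⟶ T) →* Matrix (Fin n) (Fin n) k :=
    { toFun := fun t => evM M (t ≫ iT)
      map_one' := by rw [MonObj.one_comp, hM.one]
      map_mul' := fun a b => by rw [MonObj.mul_comp, hM.mul] }
  obtain ⟨h1, h2, h3, h4, h5⟩ := weight_decomp D (S'.image χ) P hD
  obtain ⟨N, hN⟩ := exists_separating (S'.image c)
  let w : ((pt k k ⟶ T) →* k) → ℤ := fun ψ => ∑ i, c (Function.invFun χ ψ) i * N ^ (i : ℕ)
  refine ⟨S'.image χ, P, w, h1, h2, h3, h4, h5, fun ψ hψ ψ' hψ' h => ?_, fun s hs => ?_⟩
  · obtain ⟨g, hg, rfl⟩ := Finset.mem_image.1 hψ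
    obtain ⟨g', hg', rfl⟩ := Finset.mem_image.1 hψ'
    simp only [w, Function.leftInverse_invFun hχ g, Function.leftInverse_invFun hχ g'] at h
    rw [hc (hN (Finset.mem_image_of_mem c hg) (Finset.mem_image_of_mem c hg') h)]
  · let θ : GroupLike k K →* k :=
      { toFun := fun g => s ^ (∑ i, c g i * N ^ (i : ℕ))
        map_one' := by
          have h0 : c 1 = 0 := by
            have := hcadd 1 1
            rw [_root_.one_mul] at this
            exact left_eq_add.1 this
          simp [h0]
        map_mul' := fun g g' => by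
          rw [← zpow_add₀ hs, ← Finset.sum_add_distrib, hcadd]
          simp only [Pi.add_apply, add_mul] }
    obtain ⟨φ, hφ⟩ := exists_point hK θ
    refine ⟨ptsEquiv eT φ, fun ψ hψ => ?_⟩
    obtain ⟨g, hg, rfl⟩ := Finset.mem_image.1 hψ
    simp only [w, Function.leftInverse_invFun hχ g]
    rw [hχt]
    exact hφ g

end GrothLib.Flag27
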