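import Groth.Agent.Lib.Flag27.EigenLines
import Groth.Agent.Lib.Flag27.TorusWeights
import Groth.Agent.Lib.Flag27.UnipChar
import Groth.Agent.Lib.Induce27.Solv

/-!
# A unipotent group centralising a maximal torus fixes the orbit of a line fixed by a Borel subgroup
-/

set_option autoImplicit false
set_option linter.all false
set_option backward.isDefEq.respectTransparency false

universe u

open CategoryTheory MonoidalCategory CartesianMonoidalCategory MonObj GrpObj AlgebraicGeometry VecGrp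
open scoped TensorProduct

noncomputable section

namespace GrothLib.Flag27

open GrothLib.Repr GrothLib.Induce27 Groth.Agent.S11191

variable {k : Type u} [Field k] [IsAlgClosed k]
variable {G T B U : Over (Spec (CommRingCat.of k))} [GrpObj G] [GrpObj T] [GrpObj B] [GrpObj U]
  [IsAffine G.left] [Smooth G.hom] [ConnectedSpace G.left] [IsAffine U.left] [Smooth U.hom] [ConnectedSpace U.left]

set_option synthInstance.maxHeartbeats 400000 in
set_option maxHeartbeats 800000 in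
/-- The key invariance. -/
theorem fixed_of_cone {iT : T ⟶ G} (hT : AGF.IsMaxTorus iT) {iB : B ⟶ G} (hB : Red.IsBorelOver k iB)
    (tB : T ⟶ B) (htB : tB ≫ iB = iT) (hU : IsUnip k U) (u : U ⟶ G) [IsMonHom u]
    (hcomm : ∀ (v : pt k k ⟶ U) (t : pt k k ⟶ T), Commute (v ≫ u) (t ≫ iT))
    {n : ℕ} {M : Matrix (Fin n) (Fin n) (Fn G)} (hM : IsRep M) {v₀ : Fin n → k} (hv₀ : v₀ ≠ 0)
    (hfix : ∀ b : pt k k ⟶ B, ∃ c : k, (evM M (b ≫ iB)).mulVec v₀ = c • v₀)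
    (g : pt k k ⟶ G) (v : pt k k ⟶ U) :
    (evM M (v ≫ u)).mulVec ((evM M g).mulVec v₀) = (evM M g).mulVec v₀ := by
  classical
  obtain ⟨hTm, hTmono, hTt, -⟩ := id hT
  haveI := hTm; haveI := hTmono
  haveI : Infinite k := IsAlgClosed.instInfinite
  obtain ⟨ps, hps⟩ := exists_cone_eqs hB hM hv₀ hfix
  let X : Set (Fin n → k) := {x | ∀ p ∈ ps, MvPolynomial.eval x p = 0}
  have hX : ∀ x, x ∈ X ↔ ∃ (g : pt k k ⟶ G) (c : k), x = c • (evM M g).mulVec v₀ := fun x => (hps x).symm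
  have horb : ∀ g : pt k k ⟶ G, (evM M g).mulVec v₀ ∈ X := fun g => (hX _).2 ⟨g, 1, (one_smul _ _).symm⟩
  have hsc : ∀ x ∈ X, ∀ c : k, c • x ∈ X := fun x hx c => by
    obtain ⟨g, d, rfl⟩ := (hX x).1 hx
    exact (hX _).2 ⟨g, c * d, smul_smul _ _ _⟩
  have hst : ∀ x ∈ X, ∀ h : pt k k ⟶ G, (evM M h).mulVec x ∈ X := fun x hx h => by
    obtain ⟨g, d, rfl⟩ := (hX x).1 hx
    exact (hX _).2 ⟨h * g, d, by rw [Matrix.mulVec_smul, Matrix.mulVec_mulVec, hM.mul]⟩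
  obtain ⟨S, P, w, hD, hP1, hPorth, hPid, hPcomm, hw, htw⟩ := exists_weights iT hTt hM
  obtain ⟨L, hLfin, hLnorm, hL⟩ := exists_finite_eigen hT hB tB htB hM hv₀ hfix
  have heig : ∀ x ∈ X, (∀ t : pt k k ⟶ T, ∃ c : k, (evM M (t ≫ iT)).mulVec x = c • x) →
      ∃ m ∈ L, ∃ c : k, x = c • (evM M m).mulVec v₀ := by
    intro x hx he
    obtain ⟨g, a, rfl⟩ := (hX x).1 hx
    by_cases ha : a = 0
    · obtain ⟨m, hm, -⟩ := hL 1 fun t => by
        obtain ⟨c, hc⟩ := hfix (t ≫ tB)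
        rw [Category.assoc, htB] at hc
        exact ⟨c, by rw [hM.one, Matrix.one_mulVec, hc]⟩
      exact ⟨m, hm, 0, by rw [ha, zero_smul, zero_smul]⟩
    obtain ⟨m, hm, c, hc⟩ := hL g fun t => by
      obtain ⟨c, hc⟩ := he t
      refine ⟨c, smul_right_injective _ ha ?_⟩
      show a • _ = a • c • _
      rw [← Matrix.mulVec_smul, hc, smul_comm]
    exact ⟨m, hm, a * c, by rw [hc, smul_smul]⟩
  have hsum : ∀ x : Fin n → k, ∑ χ ∈ S, (P χ).mulVec x = x := fun x => by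
    rw [← Matrix.sum_mulVec, hP1, Matrix.one_mulVec]
  have hPeig : ∀ χ ∈ S, ∀ x t, (evM M (t ≫ iT)).mulVec ((P χ).mulVec x) = χ t • (P χ).mulVec x := fun χ hχ x t => by
    rw [Matrix.mulVec_mulVec, hD χ hχ t, Matrix.smul_mulVec]
  have hlead : ∀ x ∈ X, ∀ χ ∈ S, (∀ ψ ∈ S, (P ψ).mulVec x ≠ 0 → ψ ≠ χ → w ψ < w χ) → (P χ).mulVec x ∈ X := by
    intro x hx χ hχ hmax
    refine leading_mem ps X (fun _ => Iff.rfl) hsc S w (fun ψ => (P ψ).mulVec x) χ hχ hmax fun s hs => ?_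
    obtain ⟨t, ht⟩ := htw s hs
    have e : ∑ ψ ∈ S, (s ^ w ψ) • (P ψ).mulVec x = (evM M (t ≫ iT)).mulVec x := by
      conv_rhs => rw [← hsum x, Matrix.mulVec_sum]
      exact Finset.sum_congr rfl fun ψ hψ => by rw [hPeig ψ hψ, ht ψ hψ]
    rw [e]
    exact hst x hx _
  -- the highest weight
  let S₁ := S.filter fun χ => ∃ x ∈ X, (P χ).mulVec x ≠ 0
  obtain ⟨χ₀, hχ₀₁, hχmax⟩ := S₁.exists_max_image w (by
    by_contra hne
    rw [Finset.not_nonempty_iff_eq_empty] at hne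
    refine hv₀ ?_
    rw [← hsum v₀]
    refine Finset.sum_eq_zero fun χ hχ => ?_
    by_contra h0
    have : χ ∈ S₁ := Finset.mem_filter.2 ⟨hχ, v₀, by simpa [hM.one] using horb 1, h0⟩
    rw [hne] at this
    exact absurd this (Finset.notMem_empty _))
  obtain ⟨hχ₀, x₂, hx₂, hx₂0⟩ := Finset.mem_filter.1 hχ₀₁
  have hline : ∀ g : pt k k ⟶ G, ∃ m ∈ L, ∃ c : k,
      (P χ₀).mulVec ((evM M g).mulVec v₀) = c • (evM M m).mulVec v₀ := by
    intro g
    refine heig _ (hlead _ (horb g) χ₀ hχ₀ fun ψ hψ hne hψχ => ?_) fun t => ⟨_, hPeig χ₀ hχ₀ _ t⟩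
    exact lt_of_le_of_ne (hχmax ψ (Finset.mem_filter.2 ⟨hψ, _, horb g, hne⟩)) fun e => hψχ (hw hψ hχ₀ e)
  -- a single line
  obtain ⟨m₀, hm₀, hone⟩ : ∃ m₀ ∈ L, ∀ g : pt k k ⟶ G, ∃ c : k,
      (P χ₀).mulVec ((evM M g).mulVec v₀) = c • (evM M m₀).mulVec v₀ := by
    by_contra hno
    push Not at hno
    haveI := GrothLib.Rigidity.irreducibleSpace_of_connected G
    haveI : IsReduced G.left := GrothLib.RedSmooth.isReduced_of_smooth G.hom
    haveI : IsIntegral G.left := isIntegral_of_irreducibleSpace_of_isReduced _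
    haveI : IsDomain (Fn G) := inferInstanceAs (IsDomain Γ(G.left, ⊤))
    let y : Fin n → Fn G := fun a => ∑ j, algebraMap k _ (P χ₀ a j) * ∑ l, M j l * algebraMap k _ (v₀ l)
    have hy : ∀ g a, valAt g (y a) = (P χ₀).mulVec ((evM M g).mulVec v₀) a := fun g a => by
      simp only [y, map_sum, map_mul, AlgHom.commutes, Matrix.mulVec, dotProduct]
      rfl
    have hbad : ∀ m ∈ L, ∃ (F : Fn G), F ≠ 0 ∧ ∀ (g : pt k k ⟶ G) (c : k),
        (P χ₀).mulVec ((evM M g).mulVec v₀) = c • (evM M m).mulVec v₀ → valAt g F = 0 := by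
      intro m hm
      obtain ⟨g, hg⟩ := hno m hm
      obtain ⟨p, hp⟩ : ∃ p, (evM M m).mulVec v₀ p ≠ 0 := Function.ne_iff.1 (hM.mulVec_ne_zero m hv₀)
      obtain ⟨a, ha⟩ : ∃ a, (evM M m).mulVec v₀ p * (P χ₀).mulVec ((evM M g).mulVec v₀) a ≠
          (evM M m).mulVec v₀ a * (P χ₀).mulVec ((evM M g).mulVec v₀) p := by
        by_contra hall
        push Not at hall
        refine hg ((P χ₀).mulVec ((evM M g).mulVec v₀) p / (evM M m).mulVec v₀ p) (funext fun a => ?_)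
        rw [Pi.smul_apply, smul_eq_mul, div_mul_eq_mul_div, eq_div_iff hp, mul_comm _ ((evM M m).mulVec v₀ p),
          hall a, mul_comm]
      refine ⟨algebraMap k _ ((evM M m).mulVec v₀ p) * y a - algebraMap k _ ((evM M m).mulVec v₀ a) * y p,
        fun h0 => ha ?_, fun g' c hc => ?_⟩
      · have e := congrArg (valAt g) h0
        rw [map_zero, map_sub, map_mul, map_mul, AlgHom.commutes, AlgHom.commutes, hy, hy, sub_eq_zero] at e
        exact e
      · rw [map_sub, map_mul, map_mul, AlgHom.commutes, AlgHom.commutes, hy, hy, hc]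
        show _ * (c * _) - _ * (c * _) = _
        simp only [Algebra.algebraMap_self, RingHom.id_apply]
        ring
    choose F hF0 hF using hbad
    have h0 : ∏ m ∈ hLfin.toFinset.attach, F m.1 (hLfin.mem_toFinset.1 m.2) = 0 := eq_zero_of_valAt fun g => by
      obtain ⟨m, hm, c, hc⟩ := hline g
      rw [map_prod]
      exact Finset.prod_eq_zero (i := ⟨m, hLfin.mem_toFinset.2 hm⟩) (Finset.mem_attach _ _) (hF m hm g c hc)
    obtain ⟨m, -, hm⟩ := Finset.prod_eq_zero_iff.1 h0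
    exact hF0 _ _ hm
  set ℓ₀ := (evM M m₀).mulVec v₀ with hℓ₀
  have hℓ₀0 : ℓ₀ ≠ 0 := hM.mulVec_ne_zero m₀ hv₀
  obtain ⟨p, hp⟩ : ∃ p, ℓ₀ p ≠ 0 := Function.ne_iff.1 hℓ₀0
  let φ : (Fin n → k) →ₗ[k] k := (ℓ₀ p)⁻¹ • ((LinearMap.proj p) ∘ₗ (P χ₀).mulVecLin)
  have hφX : ∀ x ∈ X, (P χ₀).mulVec x = φ x • ℓ₀ := by
    intro x hx
    obtain ⟨g, a, rfl⟩ := (hX x).1 hx
    obtain ⟨c, hc⟩ := hone g
    have e : φ (a • (evM M g).mulVec v₀) = a * c := by
      show (ℓ₀ p)⁻¹ * (P χ₀).mulVec (a • (evM M g).mulVec v₀) p = _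
      rw [Matrix.mulVec_smul, hc, Pi.smul_apply, Pi.smul_apply, smul_eq_mul, smul_eq_mul]
      field_simp
    rw [e, Matrix.mulVec_smul, hc, smul_smul]
  have hφ₂ : φ x₂ ≠ 0 := fun h0 => hx₂0 (by rw [hφX x₂ hx₂, h0, zero_smul])
  let x₁ := (φ x₂)⁻¹ • x₂
  have hx₁ : x₁ ∈ X := hsc x₂ hx₂ _
  have hφ₁ : φ x₁ = 1 := by rw [map_smul, smul_eq_mul, inv_mul_cancel₀ hφ₂]
  have hℓP : ℓ₀ = (P χ₀).mulVec x₁ := by rw [hφX x₁ hx₁, hφ₁, one_smul]
  have hPℓ : (P χ₀).mulVec ℓ₀ = ℓ₀ := by rw [hℓP, Matrix.mulVec_mulVec, hPid χ₀ hχ₀]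
  -- elements commuting with the torus act by a character
  let e : (pt k k ⟶ G) → k := fun c => φ ((evM M c).mulVec x₁)
  have hAc : ∀ c : pt k k ⟶ G, (∀ t : pt k k ⟶ T, Commute c (t ≫ iT)) → ∀ x ∈ X,
      φ ((evM M c).mulVec x) = e c * φ x ∧ e c ≠ 0 := by
    intro c hc
    have hPc : Commute (evM M c) (P χ₀) := hPcomm _ (fun t => by
      show _ * _ = _ * _
      rw [← hM.mul, ← hM.mul, (hc t).eq]) χ₀ hχ₀
    have h1 : ∀ x ∈ X, φ ((evM M c).mulVec x) • ℓ₀ = φ x • (evM M c).mulVec ℓ₀ := fun x hx => by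
      rw [← hφX _ (hst x hx c), Matrix.mulVec_mulVec, ← hPc.eq, ← Matrix.mulVec_mulVec, hφX x hx,
        Matrix.mulVec_smul]
    have h2 : (evM M c).mulVec ℓ₀ = e c • ℓ₀ := by
      have := h1 x₁ hx₁
      rw [hφ₁, one_smul] at this
      exact this.symm
    intro x hx
    refine ⟨?_, fun h0 => hM.mulVec_ne_zero c hℓ₀0 (by rw [h2, h0, zero_smul])⟩
    have := h1 x hx
    rw [h2, smul_smul] at this
    rw [mul_comm]
    exact smul_left_injective k hℓ₀0 this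
  have he_mul : ∀ c d : pt k k ⟶ G, (∀ t : pt k k ⟶ T, Commute c (t ≫ iT)) → e (c * d) = e c * e d := by
    intro c d hc
    show φ ((evM M (c * d)).mulVec x₁) = _
    rw [hM.mul, ← Matrix.mulVec_mulVec, (hAc c hc _ (hst x₁ hx₁ d)).1]
  -- translates of the functional are invariant
  have hinv : ∀ q : pt k k ⟶ G, (∀ t : pt k k ⟶ T, ∃ t', q⁻¹ * (t ≫ iT) * q = t' ≫ iT) → ∀ x ∈ X,
      ∀ v : pt k k ⟶ U, φ ((evM M q).mulVec ((evM M (v ≫ u)).mulVec x)) = φ ((evM M q).mulVec x) := by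
    intro q hq
    have hcq : ∀ (v : pt k k ⟶ U) (t : pt k k ⟶ T), Commute (q * (v ≫ u) * q⁻¹) (t ≫ iT) := fun v t => by
      obtain ⟨t', ht'⟩ := hq t
      have e1 : t ≫ iT = q * (t' ≫ iT) * q⁻¹ := by rw [← ht']; group
      rw [e1]
      exact (hcomm v t').map (MulAut.conj q)
    let wq : Fn U := ∑ j, algebraMap k _ (φ ((evM M q).mulVec (Pi.single j 1))) *
      ∑ l, fnMap u (M j l) * algebraMap k _ ((evM M q⁻¹).mulVec x₁ l)
    have hwq : ∀ v : pt k k ⟶ U, valAt v wq = e (q * (v ≫ u) * q⁻¹) := by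
      intro v
      have hz : valAt v wq = ∑ j, φ ((evM M q).mulVec (Pi.single j 1)) *
          (evM M (v ≫ u)).mulVec ((evM M q⁻¹).mulVec x₁) j := by
        simp only [wq, map_sum, map_mul, AlgHom.commutes, ← valAt_comp, Matrix.mulVec, dotProduct]
        rfl
      rw [hz]
      show _ = φ ((evM M (q * (v ≫ u) * q⁻¹)).mulVec x₁)
      rw [hM.mul, hM.mul, ← Matrix.mulVec_mulVec, ← Matrix.mulVec_mulVec]
      generalize (evM M (v ≫ u)).mulVec ((evM M q⁻¹).mulVec x₁) = z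
      conv_rhs => rw [pi_eq_sum_univ' z, Matrix.mulVec_sum, map_sum]
      exact Finset.sum_congr rfl fun j _ => by rw [Matrix.mulVec_smul, map_smul, smul_eq_mul, mul_comm]
    intro x hx v
    have h1 : valAt v wq = 1 := hU.valAt_eq_one wq (fun v' => by rw [hwq]; exact (hAc _ (hcq v') x₁ hx₁).2)
      (fun v' v'' => by
        rw [hwq, hwq, hwq, ← he_mul _ _ (hcq v')]
        congr 1
        rw [MonObj.mul_comp]; group) v
    rw [Matrix.mulVec_mulVec, ← hM.mul]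
    have h2 := (hAc _ (hcq v) _ (hst x hx q)).1
    rw [← hwq, h1, _root_.one_mul, Matrix.mulVec_mulVec, ← hM.mul, inv_mul_cancel_right] at h2
    exact h2
  -- the functionals
  let Ls := hLfin.toFinset
  let ml : Fin Ls.card → (pt k k ⟶ G) := fun i => (Ls.equivFin.symm i).1
  have hml : ∀ i, ml i ∈ L := fun i => hLfin.mem_toFinset.1 (Ls.equivFin.symm i).2
  let ψf : Fin Ls.card → (Fin n → k) →ₗ[k] k := fun i => φ ∘ₗ (evM M (m₀ * (ml i)⁻¹)).mulVecLin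
  have hq : ∀ m ∈ L, ∀ t : pt k k ⟶ T, ∃ t', (m₀ * m⁻¹)⁻¹ * (t ≫ iT) * (m₀ * m⁻¹) = t' ≫ iT := by
    intro m hm t
    obtain ⟨t₁, ht₁⟩ := (hLnorm m₀ hm₀).2 t
    obtain ⟨t₂, ht₂⟩ := (hLnorm m hm).1 t₁
    exact ⟨t₂, by rw [← ht₂, ← ht₁]; group⟩
  have hq' : ∀ m ∈ L, ∀ t : pt k k ⟶ T, ∃ t', (m₀ * m⁻¹) * (t ≫ iT) * (m₀ * m⁻¹)⁻¹ = t' ≫ iT := by
    intro m hm t
    obtain ⟨t₁, ht₁⟩ := (hLnorm m hm).2 t
    obtain ⟨t₂, ht₂⟩ := (hLnorm m₀ hm₀).1 t₁
    exact ⟨t₂, by rw [← ht₂, ← ht₁]; group⟩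
  have hzero : ∀ x ∈ X, (∀ i, ψf i x = 0) → x = 0 := by
    intro x hx hψ
    by_contra hx0
    obtain ⟨χ, hχ₁, hmax⟩ := (S.filter fun χ => (P χ).mulVec x ≠ 0).exists_max_image w (by
      by_contra hne
      rw [Finset.not_nonempty_iff_eq_empty] at hne
      refine hx0 ?_
      rw [← hsum x]
      refine Finset.sum_eq_zero fun χ hχ => ?_
      by_contra h0
      have : χ ∈ S.filter (fun χ => (P χ).mulVec x ≠ 0) := Finset.mem_filter.2 ⟨hχ, h0⟩
      rw [hne] at this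
      exact absurd this (Finset.notMem_empty _))
    obtain ⟨hχ, hχ0⟩ := Finset.mem_filter.1 hχ₁
    have hyX : (P χ).mulVec x ∈ X := hlead x hx χ hχ fun ψ hψ hne hψχ =>
      lt_of_le_of_ne (hmax ψ (Finset.mem_filter.2 ⟨hψ, hne⟩)) fun e => hψχ (hw hψ hχ e)
    obtain ⟨m, hm, a, ha⟩ := heig _ hyX fun t => ⟨_, hPeig χ hχ x t⟩
    have ha0 : a ≠ 0 := fun h0 => hχ0 (by rw [ha, h0, zero_smul])
    set q := m₀ * m⁻¹ with hqdef
    have hchar : ∀ ψ ∈ S, ∀ t t' : pt k k ⟶ T, q⁻¹ * (t ≫ iT) * q = t' ≫ iT →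
        χ₀ t • (P χ₀).mulVec ((evM M q).mulVec ((P ψ).mulVec x)) =
          ψ t' • (P χ₀).mulVec ((evM M q).mulVec ((P ψ).mulVec x)) := by
      intro ψ hψ t t' ht
      have e1 : (evM M (t ≫ iT)).mulVec ((evM M q).mulVec ((P ψ).mulVec x)) =
          ψ t' • (evM M q).mulVec ((P ψ).mulVec x) := by
        rw [Matrix.mulVec_mulVec, ← hM.mul, show (t ≫ iT) * q = q * (t' ≫ iT) by rw [← ht]; group, hM.mul,
          ← Matrix.mulVec_mulVec, hPeig ψ hψ, Matrix.mulVec_smul]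
      have hc : Commute (evM M (t ≫ iT)) (P χ₀) := hPcomm _ (fun s => by
        show _ * _ = _ * _
        rw [← hM.mul, ← hM.mul, ← MonObj.mul_comp, ← MonObj.mul_comp,
          GrothLib.RankCell14.comm_torus hTt t s]) χ₀ hχ₀
      rw [← hPeig χ₀ hχ₀ _ t, Matrix.mulVec_mulVec _ (evM M (t ≫ iT)) (P χ₀), hc.eq, ← Matrix.mulVec_mulVec, e1,
        Matrix.mulVec_smul]
    have hqy : (evM M q).mulVec ((P χ).mulVec x) = a • ℓ₀ := by
      rw [ha, Matrix.mulVec_smul, Matrix.mulVec_mulVec, ← hM.mul, hqdef, inv_mul_cancel_right]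
    have hχχ : ∀ t t' : pt k k ⟶ T, q⁻¹ * (t ≫ iT) * q = t' ≫ iT → χ₀ t = χ t' := fun t t' ht => by
      have e1 := hchar χ hχ t t' ht
      rw [hqy, Matrix.mulVec_smul, hPℓ, smul_smul, smul_smul] at e1
      exact mul_right_cancel₀ ha0 (smul_left_injective k hℓ₀0 e1)
    have hother : ∀ ψ ∈ S, ψ ≠ χ → (P χ₀).mulVec ((evM M q).mulVec ((P ψ).mulVec x)) = 0 := by
      intro ψ hψ hne
      by_contra h0
      refine hne (MonoidHom.ext fun t' => ?_)
      obtain ⟨t, ht⟩ := hq' m hm t'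
      have ht' : q⁻¹ * (t ≫ iT) * q = t' ≫ iT := by rw [← ht, hqdef]; group
      rw [← hχχ t t' ht']
      exact (smul_left_injective k h0 (hchar ψ hψ t t' ht')).symm
    have hval : (P χ₀).mulVec ((evM M q).mulVec x) = a • ℓ₀ := by
      conv_lhs => rw [← hsum x, Matrix.mulVec_sum, Matrix.mulVec_sum]
      rw [Finset.sum_eq_single χ (fun ψ hψ hne => hother ψ hψ hne) (fun h => absurd hχ h), hqy,
        Matrix.mulVec_smul, hPℓ]
    have h3 := hψ (Ls.equivFin ⟨m, hLfin.mem_toFinset.2 hm⟩)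
    simp only [ψf, ml, Equiv.symm_apply_apply, LinearMap.comp_apply, Matrix.mulVecLin_apply] at h3
    have h4 := hφX _ (hst x hx q)
    rw [show φ ((evM M q).mulVec x) = 0 from h3, zero_smul, hval] at h4
    exact ha0 ((smul_eq_zero.1 h4).resolve_right hℓ₀0)
  -- finite orbits are points
  set x := (evM M g).mulVec v₀ with hxdef
  have hfin : (Set.range fun v' : pt k k ⟶ U => (evM M (v' ≫ u)).mulVec x).Finite := by
    refine (finite_fibre ps X (fun _ => Iff.rfl) hsc ψf hzero fun i => ψf i x).subset ?_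
    rintro _ ⟨v', rfl⟩
    exact ⟨hst x (horb g) _, fun i => hinv _ (hq _ (hml i)) x (horb g) v'⟩
  funext j
  let fj : Fn U := ∑ l, fnMap u (M j l) * algebraMap k _ (x l)
  have hfj : ∀ v' : pt k k ⟶ U, valAt v' fj = (evM M (v' ≫ u)).mulVec x j := fun v' => by
    simp only [fj, map_sum, map_mul, AlgHom.commutes, ← valAt_comp, Matrix.mulVec, dotProduct]
    rfl
  have h := const_of_finite fj ((hfin.image fun z => z j).subset (by
    rintro _ ⟨v', rfl⟩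
    exact ⟨_, ⟨v', rfl⟩, (hfj v').symm⟩)) v
  rw [hfj, hfj, MonObj.one_comp, hM.one, Matrix.one_mulVec] at h
  exact h

end GrothLib.Flag27
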