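import Groth.Agent.Lib.Flag27.QuotBC
import Groth.Agent.S11196
import Groth.Agent.S11189
import Mathlib.AlgebraicGeometry.ZariskisMainTheorem

/-!
# Quotients of solvable groups have no complete curves
-/

set_option autoImplicit false
set_option backward.isDefEq.respectTransparency false

universe u

open CategoryTheory CategoryTheory.Limits MonoidalCategory CartesianMonoidalCategory MonObj GrpObj
open AlgebraicGeometry TopologicalSpace

namespace GrothLib.Flag27

section Gen

theorem universallyOpen_of_comp {W X Y : Scheme.{u}} (g : W ⟶ X) (f : X ⟶ Y) [Surjective g]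
    [UniversallyOpen (g ≫ f)] : UniversallyOpen f := by
  rw [UniversallyOpen.eq]
  intro X' Y' i₁ i₂ f' sq
  have hg : IsPullback (pullback.fst g i₁) (pullback.snd g i₁) g i₁ := IsPullback.of_hasPullback g i₁
  have h : IsPullback (pullback.fst g i₁) (pullback.snd g i₁ ≫ f') (g ≫ f) i₂ := hg.paste_vert sq.flip
  haveI : Surjective (pullback.snd g i₁) := inferInstance
  haveI : UniversallyOpen (pullback.snd g i₁ ≫ f') := MorphismProperty.of_isPullback h ‹_›
  intro U hU
  have e : f'.base '' U = (pullback.snd g i₁ ≫ f').base '' ((pullback.snd g i₁).base ⁻¹' U) := by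
    conv_lhs => rw [← Set.image_preimage_eq U (pullback.snd g i₁).surjective]
    rw [Set.image_image]
    rfl
  show IsOpen (f'.base '' U)
  rw [e]
  exact (pullback.snd g i₁ ≫ f').isOpenMap _ (hU.preimage (pullback.snd g i₁).continuous)

theorem universallyClosed_of_bijective {X Y : Scheme.{u}} (f : X ⟶ Y) [UniversallyOpen f] [UniversallyInjective f]
    [Surjective f] : UniversallyClosed f := by
  refine ⟨fun {X' Y'} i₁ i₂ f' sq => ?_⟩
  haveI : UniversallyOpen f' := MorphismProperty.of_isPullback sq.flip ‹_›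
  haveI : UniversallyInjective f' := MorphismProperty.of_isPullback sq.flip ‹_›
  haveI : Surjective f' := MorphismProperty.of_isPullback sq.flip ‹_›
  intro C hC
  have e := Set.image_compl_eq (s := Cᶜ) (show Function.Bijective f'.base from ⟨f'.injective, f'.surjective⟩)
  rw [compl_compl] at e
  show IsClosed (f'.base '' C)
  rw [e, isClosed_compl_iff]
  exact f'.isOpenMap _ hC.isOpen_compl

end Gen

section Closed

variable {K : Type u} [Field K] [IsAlgClosed K]

theorem universallyInjective_of_pts {A B : Over (Spec (CommRingCat.of K))} [LocallyOfFiniteType A.hom]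
    [LocallyOfFiniteType B.hom] (f : A ⟶ B) [IsSeparated f.left]
    (h : ∀ v w : 𝟙_ (Over (Spec (CommRingCat.of K))) ⟶ A, v ≫ f = w ≫ f → v = w) : UniversallyInjective f.left := by
  rw [UniversallyInjective.iff_diagonal]
  let P : Over (Spec (CommRingCat.of K)) := Over.mk (pullback.fst f.left f.left ≫ A.hom)
  haveI : LocallyOfFiniteType f.left := by
    haveI : LocallyOfFiniteType (f.left ≫ B.hom) := by rw [Over.w]; infer_instance
    exact locallyOfFiniteType_of_comp f.left B.hom
  haveI : LocallyOfFiniteType P.hom := inferInstanceAs (LocallyOfFiniteType (pullback.fst f.left f.left ≫ A.hom))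
  haveI : JacobsonSpace P.left := LocallyOfFiniteType.jacobsonSpace P.hom
  let d : A ⟶ P := Over.homMk (pullback.diagonal f.left) (by simp [P])
  let p₁ : P ⟶ A := Over.homMk (pullback.fst f.left f.left) rfl
  let p₂ : P ⟶ A := Over.homMk (pullback.snd f.left f.left) (by
    show pullback.snd f.left f.left ≫ A.hom = pullback.fst f.left f.left ≫ A.hom
    rw [← Over.w f, pullback.condition_assoc])
  refine ⟨fun y => ?_⟩
  have : closure (closedPoints P.left) ⊆ Set.range d.left.base := by
    refine closure_minimal (fun q hq => ?_) (pullback.diagonal f.left).isClosedEmbedding.isClosed_range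
    obtain ⟨v, rfl⟩ := exists_cl hq
    have e : v ≫ p₁ = v ≫ p₂ := h _ _ (by
      simp only [Category.assoc]
      congr 1
      exact Over.OverMorphism.ext pullback.condition)
    refine ⟨cl (v ≫ p₁), ?_⟩
    rw [← cl_comp]
    congr 1
    refine Over.OverMorphism.ext (pullback.hom_ext ?_ ?_)
    · simp [d, p₁]
    · simpa [d, p₁, p₂] using congrArg (fun t : 𝟙_ (Over (Spec (CommRingCat.of K))) ⟶ A => t.left) e
  rw [closure_closedPoints] at this
  exact this (Set.mem_univ y)

variable {G H X : Over (Spec (CommRingCat.of K))} [GrpObj G] [GrpObj H] [IsAffine G.left] [Smooth G.hom]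

theorem finite_of_proper_quotient (hs : Red.IsSolvableGrp G) (i : H ⟶ G) [IsMonHom i] [IsClosedImmersion i.left]
    (a : AlgGrp.Action G X) (o : 𝟙_ (Over (Spec (CommRingCat.of K))) ⟶ X) (hX : AGF.IsQuotient i X a o)
    {Z : Scheme.{u}} (c : Z ⟶ X.left) [IsClosedImmersion c] [IsProper (c ≫ X.hom)] : Finite ↥Z := by
  haveI := GrothLib.Induce27.isSeparated_quotient a o hX
  obtain ⟨hXl, hfl, hsurj, hpb⟩ := hX
  haveI := hXl; haveI := hfl; haveI := hsurj
  haveI : IsAffine H.left := isAffine_of_isAffineHom i.left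
  obtain ⟨H', _, i', hm', hc', hsm', hr⟩ := Groth.Agent.S15608.result K G (ptsHom i).range
  haveI := hm'; haveI := hc'; haveI := hsm'
  haveI : IsAffine H'.left := isAffine_of_isAffineHom i'.left
  haveI : IsReduced H'.left := GrothLib.RedSmooth.isReduced_of_smooth H'.hom
  haveI : LocallyOfFiniteType H.hom := by rw [← Over.w i]; infer_instance
  obtain ⟨r, hr'⟩ := exists_lift_of_pts i' i fun v => by
    obtain ⟨w, -, hw⟩ := exists_cl_lift i (E := Set.univ) isClosed_univ.isLocallyClosed (w := v ≫ i') (by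
      rw [Set.image_univ]
      refine closure_minimal ?_ i.left.isClosedEmbedding.isClosed_range (hr.le ⟨cl v, (cl_comp v i').symm⟩)
      rintro _ ⟨_, ⟨w, rfl⟩, rfl⟩
      exact ⟨cl w, (cl_comp w i).symm⟩)
    exact ⟨w, hw⟩
  haveI : QuasiCompact H'.hom := inferInstance
  haveI : Mono i' := Over.mono_of_mono_left i'
  obtain ⟨X', a', o', h₁, -, h₂, h₃, hpb'⟩ := Groth.Agent.S3279.result K G H' i'
  haveI := h₁; haveI := h₂; haveI := h₃
  haveI := GrothLib.Induce27.lfp_orbit (a'.orbitMap o')
  haveI := GrothLib.Induce27.lfp_orbit (a.orbitMap o)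
  have hqa : X'.left.IsQuasiAffine := (Groth.Agent.S11189.result K G H' i' X' a' o' ⟨h₁, h₂, h₃, hpb'⟩).1
    (Groth.Agent.S11196.result K G H' i' hs)
  haveI := GrothLib.Induce27.isSeparated_quotient a' o' ⟨h₁, h₂, h₃, hpb'⟩
  -- the comparison map
  have hmul : ∀ {T : Over (Spec (CommRingCat.of K))} (v : T ⟶ G) (b : T ⟶ H),
      (v * (b ≫ i)) ≫ a.orbitMap o = v ≫ a.orbitMap o := by
    intro T v b
    have w := congrArg (lift v b ≫ ·) hpb.w
    simp only [← Category.assoc, lift_fst, lift_whiskerLeft] at w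
    rw [← Hom.mul_def] at w
    exact w.symm
  obtain ⟨π, hπ⟩ := GrothLib.DiagGrp.exists_desc (a'.orbitMap o') (a.orbitMap o) fun T v w e => by
    obtain ⟨l, hl1, hl2⟩ : ∃ l : T ⟶ G ⊗ H', l ≫ fst G H' = v ∧ l ≫ (G ◁ i') ≫ μ[G] = w :=
      ⟨hpb'.lift v w e, hpb'.lift_fst _ _ _, hpb'.lift_snd _ _ _⟩
    have el : l = lift (l ≫ fst G H') (l ≫ snd G H') := by rw [← comp_lift, lift_fst_snd, Category.comp_id]
    have hw : w = v * ((l ≫ snd G H' ≫ r) ≫ i) := by
      rw [← hl2, el, lift_whiskerLeft_assoc, ← Hom.mul_def]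
      simp [hl1, hr']
    rw [hw, hmul]
  haveI : Surjective π.left := by
    haveI : Surjective ((a'.orbitMap o').left ≫ π.left) := by rw [← Over.comp_left, hπ]; infer_instance
    exact Surjective.of_comp (a'.orbitMap o').left π.left
  haveI : UniversallyOpen π.left := by
    haveI : UniversallyOpen ((a'.orbitMap o').left ≫ π.left) := by
      rw [← Over.comp_left, hπ]; infer_instance
    exact universallyOpen_of_comp (a'.orbitMap o').left π.left
  haveI : IsSeparated π.left := by
    haveI : IsSeparated (π.left ≫ X.hom) := by rw [Over.w]; infer_instance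
    exact IsSeparated.of_comp π.left X.hom
  haveI : UniversallyInjective π.left := by
    refine universallyInjective_of_pts π fun v w e => ?_
    obtain ⟨g, -, hg⟩ := exists_cl_lift (a'.orbitMap o') (E := Set.univ) isClosed_univ.isLocallyClosed (w := v)
      (by rw [Set.image_univ]; exact (a'.orbitMap o').left.surjective _)
    obtain ⟨g', -, hg'⟩ := exists_cl_lift (a'.orbitMap o') (E := Set.univ) isClosed_univ.isLocallyClosed (w := w)
      (by rw [Set.image_univ]; exact (a'.orbitMap o').left.surjective _)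
    rw [← hg, ← hg', Category.assoc, Category.assoc, hπ] at e
    obtain ⟨l, hl1, hl2⟩ : ∃ l : 𝟙_ (Over (Spec (CommRingCat.of K))) ⟶ G ⊗ H,
        l ≫ fst G H = g ∧ l ≫ (G ◁ i) ≫ μ[G] = g' :=
      ⟨hpb.lift g g' e, hpb.lift_fst _ _ _, hpb.lift_snd _ _ _⟩
    have el : l = lift (l ≫ fst G H) (l ≫ snd G H) := by rw [← comp_lift, lift_fst_snd, Category.comp_id]
    have hgg : g' = g * ((l ≫ snd G H) ≫ i) := by
      rw [← hl2, el, lift_whiskerLeft_assoc, ← Hom.mul_def]
      simp [hl1]
    obtain ⟨b, -, hb⟩ := exists_cl_lift i' (E := Set.univ) isClosed_univ.isLocallyClosed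
      (w := (l ≫ snd G H) ≫ i) (by
        rw [Set.image_univ]
        exact hr.ge (subset_closure ⟨_, ⟨l ≫ snd G H, rfl⟩, rfl⟩))
    rw [← hg, ← hg', hgg, ← hb]
    have e' := congrArg (lift g b ≫ ·) hpb'.w
    simp only [← Category.assoc, lift_fst, lift_whiskerLeft] at e'
    rw [← Hom.mul_def] at e'
    exact e'
  haveI : UniversallyClosed π.left := universallyClosed_of_bijective π.left
  haveI : LocallyOfFiniteType π.left := by
    haveI : LocallyOfFiniteType (π.left ≫ X.hom) := by rw [Over.w]; infer_instance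
    exact locallyOfFiniteType_of_comp π.left X.hom
  haveI : IsProper π.left := ⟨⟩
  -- the preimage of `Z` is proper and quasi-affine
  let Z' := pullback c π.left
  let p : Z' ⟶ Spec (CommRingCat.of K) := pullback.fst c π.left ≫ c ≫ X.hom
  haveI : IsProper p := inferInstanceAs (IsProper (pullback.fst c π.left ≫ c ≫ X.hom))
  haveI : CompactSpace Z' := QuasiCompact.compactSpace_of_compactSpace p
  haveI := hqa
  haveI : Z'.IsQuasiAffine := Scheme.IsQuasiAffine.of_isImmersion (pullback.snd c π.left)
  haveI : IsProper Z'.toSpecΓ := by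
    have e : Z'.toSpecΓ ≫ Spec.map ((Scheme.ΓSpecIso (CommRingCat.of K)).inv ≫ p.appTop) = p := by
      rw [Spec.map_comp, ← Scheme.toSpecΓ_naturality_assoc, ← Scheme.isoSpec_Spec_inv, ← Scheme.isoSpec_hom]
      simp
    haveI : IsProper (Z'.toSpecΓ ≫ Spec.map ((Scheme.ΓSpecIso (CommRingCat.of K)).inv ≫ p.appTop)) := by
      rw [e]; infer_instance
    exact IsProper.of_comp Z'.toSpecΓ (Spec.map ((Scheme.ΓSpecIso (CommRingCat.of K)).inv ≫ p.appTop))
  haveI : IsClosedImmersion Z'.toSpecΓ := (IsClosedImmersion.iff_isProper_and_mono (f := Z'.toSpecΓ)).2 ⟨‹_›, inferInstance⟩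
  haveI : IsAffine Z' := isAffine_of_isAffineHom Z'.toSpecΓ
  haveI : IsFinite p := IsFinite.iff_isProper_and_isAffineHom.2 ⟨inferInstance, inferInstance⟩
  haveI : Finite ↥Z' := by
    refine Set.finite_univ_iff.1 ?_
    have h : (p.base ⁻¹' {IsLocalRing.closedPoint K}) = Set.univ :=
      Set.eq_univ_of_forall fun z => Subsingleton.elim (α := PrimeSpectrum K) _ _
    rw [← h]
    exact IsFinite.finite_preimage_singleton p _
  exact Finite.of_surjective _ (pullback.fst c π.left).surjective

end Closed

end GrothLib.Flag27
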