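import Groth.Agent.Lib.Flag27.ReductiveFix
import Groth.Agent.Lib.Flag27.BorelTheorem
import Groth.Agent.Lib.BorelFix27.Main

/-!
# The normal subgroup generated by a unipotent group centralising a maximal torus is unipotent
-/

set_option autoImplicit false
set_option linter.all false
set_option backward.isDefEq.respectTransparency false

universe u

open CategoryTheory MonoidalCategory CartesianMonoidalCategory MonObj GrpObj AlgebraicGeometry VecGrp
open scoped TensorProduct

noncomputable section

namespace GrothLib.Flag27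

open GrothLib.Repr GrothLib.Induce27 Groth.Agent.S11191

variable {k : Type u} [Field k] [IsAlgClosed k]
variable {G B : Over (Spec (CommRingCat.of k))} [GrpObj G] [GrpObj B]
  [IsAffine G.left] [Smooth G.hom] [ConnectedSpace G.left]

/-- A Borel subgroup fixes a line in every representation. -/
theorem exists_eigen_borel {iB : B ⟶ G} (hB : Red.IsBorelOver k iB) {n : ℕ}
    {M : Matrix (Fin (n + 1)) (Fin (n + 1)) (Fn G)} (hM : IsRep M) :
    ∃ w, w ≠ 0 ∧ ∀ b : pt k k ⟶ B, ∃ c : k, (evM M (b ≫ iB)).mulVec w = c • w := by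
  obtain ⟨hi, hic, hBsm, hBc, hBs, -⟩ := hB
  haveI := hi; haveI := hic; haveI := hBsm; haveI := hBc
  haveI : IsAffine B.left := isAffine_of_isAffineHom iB.left
  haveI : Group.IsSolvable (𝟙_ (Over (Spec (CommRingCat.of k))) ⟶ B) := isSolvable_points hBs
  obtain ⟨a, ha⟩ := exists_action hM
  haveI : IsProper (PO k n).hom := GrothLib.Chow.isProper_toSpec n k
  haveI : Nonempty (PO k n).left := ⟨(line (Pi.single 0 1) (by simp)).left.base (IsLocalRing.closedPoint k)⟩
  obtain ⟨x, hx⟩ := GrothLib.BorelFix27.exists_fixedPt (a.restrict iB)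
  obtain ⟨w, hw, hxw⟩ := exists_line (ptOne.hom ≫ x)
  refine ⟨w, hw, fun b => ?_⟩
  have h := congrArg (b ≫ ·) (hx B (𝟙 B))
  simp only [AlgGrp.Action.lift_restrict_act] at h
  rw [← Category.assoc, comp_lift, Category.id_comp, ← Category.assoc b (toUnit B),
    toUnit_unique (b ≫ toUnit B) ptOne.hom, hxw, ha] at h
  obtain ⟨c, hc⟩ := (line_eq_iff _ _).1 h
  have hc0 : c ≠ 0 := fun h0 => hw (by rw [hc, h0, zero_smul])
  exact ⟨c⁻¹, by conv_rhs => rw [hc, smul_smul, inv_mul_cancel₀ hc0, one_smul]⟩

theorem eq_one_of_unipotent {d m : ℕ} {A : Matrix (Fin d) (Fin d) k} (hA : (A - 1) ^ d = 0) (hm : (m : k) ≠ 0)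
    (hAm : A ^ m = 1) : A = 1 := by
  set X := A - 1 with hXdef
  have hX : IsNilpotent X := ⟨d, hA⟩
  have h1 : (∑ i ∈ Finset.range m, A ^ i) * X = 0 := by rw [geom_sum_mul, hAm, sub_self]
  have h2 : IsUnit (∑ i ∈ Finset.range m, A ^ i) := by
    have e : ∑ i ∈ Finset.range m, A ^ i =
        (m : Matrix (Fin d) (Fin d) k) + (∑ i ∈ Finset.range m, ∑ j ∈ Finset.range i, A ^ j) * X := by
      have e1 : ∀ i, A ^ i = 1 + (∑ j ∈ Finset.range i, A ^ j) * X := fun i => by
        rw [geom_sum_mul]; abel
      conv_lhs => rw [Finset.sum_congr rfl fun i _ => e1 i]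
      rw [Finset.sum_add_distrib, Finset.sum_mul, Finset.sum_const, Finset.card_range, nsmul_one]
    rw [e]
    have hc : Commute (∑ i ∈ Finset.range m, ∑ j ∈ Finset.range i, A ^ j) X := by
      refine Commute.sum_left _ _ _ fun i _ => Commute.sum_left _ _ _ fun j _ => ?_
      exact (Commute.pow_self A j).sub_right (Commute.one_right _)
    refine (hc.isNilpotent_mul_left hX).isUnit_add_left_of_commute ?_ ((Nat.cast_commute m _).symm)
    rw [← map_natCast (algebraMap k (Matrix (Fin d) (Fin d) k))]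
    exact (isUnit_iff_ne_zero.2 hm).map _
  have h3 : X = 0 := (h2.mul_right_eq_zero).1 h1
  exact sub_eq_zero.1 h3

set_option synthInstance.maxHeartbeats 400000 in
set_option maxHeartbeats 800000 in
/-- Unipotence in every representation. -/
theorem unipotent_on_normalClosure {T U : Over (Spec (CommRingCat.of k))} [GrpObj T] [GrpObj U]
    [IsAffine U.left] [Smooth U.hom] [ConnectedSpace U.left]
    {iT : T ⟶ G} (hT : AGF.IsMaxTorus iT) {iB : B ⟶ G} (hB : Red.IsBorelOver k iB)
    (tB : T ⟶ B) (htB : tB ≫ iB = iT) (hU : IsUnip k U) (u : U ⟶ G) [IsMonHom u]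
    (hcomm : ∀ (v : pt k k ⟶ U) (t : pt k k ⟶ T), Commute (v ≫ u) (t ≫ iT)) :
    ∀ (d : ℕ) (M : Matrix (Fin d) (Fin d) (Fn G)), IsRep M →
      ∀ h ∈ Subgroup.normalClosure (Set.range fun v : pt k k ⟶ U => v ≫ u), (evM M h - 1) ^ d = 0 := by
  classical
  intro d
  induction d using Nat.strong_induction_on with
  | _ d IH =>
    intro M hM h hh
    rcases d with _ | n
    · exact Subsingleton.elim _ _
    obtain ⟨v₀, hv₀, hfix⟩ := exists_eigen_borel hB hM
    let W : Submodule k (Fin (n + 1) → k) :=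
      Submodule.span k (Set.range fun g : pt k k ⟶ G => (evM M g).mulVec v₀)
    have hWst : ∀ (g : pt k k ⟶ G), ∀ x ∈ W, (evM M g).mulVec x ∈ W := by
      intro g x hx
      induction hx using Submodule.span_induction with
      | mem x hx =>
        obtain ⟨g', rfl⟩ := hx
        exact Submodule.subset_span ⟨g * g', by simp only [hM.mul, ← Matrix.mulVec_mulVec]⟩
      | zero => rw [Matrix.mulVec_zero]; exact W.zero_mem
      | add x y _ _ hx hy => rw [Matrix.mulVec_add]; exact W.add_mem hx hy
      | smul c x _ hx => rw [Matrix.mulVec_smul]; exact W.smul_mem c hx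
    let Fx : Subgroup (pt k k ⟶ G) :=
      { carrier := {h | ∀ g : pt k k ⟶ G, (evM M h).mulVec ((evM M g).mulVec v₀) = (evM M g).mulVec v₀}
        one_mem' := fun g => by rw [hM.one, Matrix.one_mulVec]
        mul_mem' := fun {a b} ha hb g => by rw [hM.mul, ← Matrix.mulVec_mulVec, hb, ha]
        inv_mem' := fun {a} ha g => by
          conv_lhs => rw [← ha g]
          rw [Matrix.mulVec_mulVec, hM.inv_mul, Matrix.one_mulVec] }
    haveI : Fx.Normal := ⟨fun a ha c g => by
      have e := ha (c⁻¹ * g)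
      rw [hM.mul c⁻¹ g, ← Matrix.mulVec_mulVec] at e
      rw [hM.mul, hM.mul, ← Matrix.mulVec_mulVec, ← Matrix.mulVec_mulVec, e, Matrix.mulVec_mulVec, hM.mul_inv,
        Matrix.one_mulVec]⟩
    have hhF : h ∈ Fx := Subgroup.normalClosure_le_normal (by
      rintro _ ⟨v, rfl⟩ g
      exact fixed_of_cone hT hB tB htB hU u hcomm hM hv₀ hfix g v) hh
    have hWfix : ∀ x ∈ W, (evM M h).mulVec x = x := by
      intro x hx
      induction hx using Submodule.span_induction with
      | mem x hx => obtain ⟨g, rfl⟩ := hx; exact hhF g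
      | zero => rw [Matrix.mulVec_zero]
      | add x y _ _ hx hy => rw [Matrix.mulVec_add, hx, hy]
      | smul c x _ hx => rw [Matrix.mulVec_smul, hx]
    obtain ⟨Wc, hWc⟩ := W.exists_isCompl
    have hWne : 0 < Module.finrank k W := by
      rw [Nat.pos_iff_ne_zero, ne_eq, Submodule.finrank_eq_zero]
      intro hbot
      refine hv₀ ?_
      have : v₀ ∈ W := Submodule.subset_span ⟨1, by simp only [hM.one, Matrix.one_mulVec]⟩
      rw [hbot] at this
      exact (Submodule.mem_bot k).1 this
    have hlt : Module.finrank k Wc < n + 1 := by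
      have := Submodule.finrank_add_eq_of_isCompl hWc
      rw [Module.finrank_pi, Fintype.card_fin] at this
      omega
    let bC := Module.finBasis k Wc
    let s := Module.finrank k Wc
    let pL : (Fin (n + 1) → k) →ₗ[k] (Fin s → k) :=
      bC.equivFun.toLinearMap ∘ₗ (Wc.projectionOnto W hWc.symm)
    let iL : (Fin s → k) →ₗ[k] (Fin (n + 1) → k) := Wc.subtype ∘ₗ bC.equivFun.symm.toLinearMap
    let Pc := LinearMap.toMatrix' pL
    let Ic := LinearMap.toMatrix' iL
    have hP : ∀ x, Pc.mulVec x = pL x := fun x => LinearMap.toMatrix'_mulVec pL x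
    have hI : ∀ z, Ic.mulVec z = iL z := fun z => LinearMap.toMatrix'_mulVec iL z
    have hPI : Pc * Ic = 1 := Matrix.toLin'.injective (LinearMap.ext fun z => by
      rw [Matrix.toLin'_apply, Matrix.toLin'_apply, ← Matrix.mulVec_mulVec, hI, hP, Matrix.one_mulVec]
      simp [pL, iL]
      exact bC.equivFun.apply_symm_apply z)
    have hPW : ∀ x ∈ W, Pc.mulVec x = 0 := fun x hx => by
      rw [hP]
      show bC.equivFun _ = 0
      rw [Submodule.projectionOnto_apply_eq_zero_iff hWc.symm |>.2 hx, map_zero]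
    have hrest : ∀ x, x - Ic.mulVec (Pc.mulVec x) ∈ W := fun x => by
      refine (Submodule.projectionOnto_apply_eq_zero_iff hWc.symm).1 ?_
      rw [hP, hI]
      simp [pL, iL]
      exact sub_eq_zero.2 (bC.equivFun.symm_apply_apply _).symm
    have hkill : ∀ x, Pc.mulVec x = 0 → x ∈ W := fun x hx => by
      simpa [hx] using hrest x
    have hkey : ∀ g : pt k k ⟶ G, Pc * evM M g * (Ic * Pc) = Pc * evM M g := fun g =>
      Matrix.toLin'.injective (LinearMap.ext fun x => by
        simp only [Matrix.toLin'_apply, ← Matrix.mulVec_mulVec]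
        symm
        rw [← sub_eq_zero, ← Matrix.mulVec_sub, ← Matrix.mulVec_sub]
        exact hPW _ (hWst g _ (hrest x)))
    let M'' : Matrix (Fin s) (Fin s) (Fn G) :=
      Pc.map (algebraMap k (Fn G)) * M * Ic.map (algebraMap k (Fn G))
    have hev : ∀ g, evM M'' g = Pc * evM M g * Ic := fun g => by
      rw [evM, Matrix.map_mul, Matrix.map_mul, Matrix.map_map, Matrix.map_map]
      congr 2 <;> refine Matrix.ext fun i j => ?_ <;> simp [evM]
    have hM'' : IsRep M'' := ⟨by rw [hev, hM.one, Matrix.mul_one, hPI], fun g g' => by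
      rw [hev, hev, hev, hM.mul]
      calc Pc * (evM M g * evM M g') * Ic = (Pc * evM M g) * evM M g' * Ic := by simp only [Matrix.mul_assoc]
        _ = (Pc * evM M g * (Ic * Pc)) * evM M g' * Ic := by rw [hkey]
        _ = _ := by simp only [Matrix.mul_assoc]⟩
    have hX'' := IH s hlt M'' hM'' h hh
    set Xm := evM M h - 1 with hXm
    have hstep : Pc * Xm = (evM M'' h - 1) * Pc := by
      rw [hev, Matrix.mul_sub, Matrix.sub_mul, Matrix.mul_one, Matrix.one_mul,
        Matrix.mul_assoc (Pc * evM M h) Ic Pc, hkey]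
    have hpow : ∀ j : ℕ, Pc * Xm ^ j = (evM M'' h - 1) ^ j * Pc := fun j => by
      induction j with
      | zero => rw [pow_zero, pow_zero, Matrix.mul_one, Matrix.one_mul]
      | succ j ih =>
        rw [pow_succ, ← Matrix.mul_assoc, ih, Matrix.mul_assoc, hstep, ← Matrix.mul_assoc, ← pow_succ]
    have hz : Xm ^ (s + 1) = 0 := Matrix.toLin'.injective (LinearMap.ext fun x => by
      rw [pow_succ', map_zero, LinearMap.zero_apply, Matrix.toLin'_apply, ← Matrix.mulVec_mulVec]
      have hmem : (Xm ^ s).mulVec x ∈ W := hkill _ (by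
        rw [Matrix.mulVec_mulVec, hpow, hX'', Matrix.zero_mul, Matrix.zero_mulVec])
      rw [hXm, Matrix.sub_mulVec, hWfix _ hmem, Matrix.one_mulVec, sub_self])
    exact pow_eq_zero_of_le hlt hz

end GrothLib.Flag27
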